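import Groth.Agent.Hensel.HenselizationProps
import Groth.Prelude.Def_QuadSing
import Mathlib.RingTheory.DualNumber
import Mathlib.Algebra.MvPolynomial.PDeriv

/-!
# Henselian series rings: the henselization of `A[x_1, …, x_N]` at the origin of the closed fibre

`IsHS A H x` is the universal property of that ring; everything below is deduced from it.
-/

noncomputable section

namespace Groth.Agent.HensMorse

open IsLocalRing

universe u

/-- The universal property of the henselization of `A[x_1, …, x_N]` at `(𝔪_A, x)`. -/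
structure IsHS (A : Type u) [CommRing A] [IsLocalRing A] (H : Type u) [CommRing H]
    [HenselianLocalRing H] [Algebra A H] {N : ℕ} (x : Fin N → H) : Prop where
  isLocalHom : IsLocalHom (algebraMap A H)
  mem : ∀ i, x i ∈ maximalIdeal H
  universal : ∀ (T : Type u) [CommRing T] [HenselianLocalRing T] [Algebra A T],
    IsLocalHom (algebraMap A T) → ∀ y : Fin N → T, (∀ i, y i ∈ maximalIdeal T) →
      ∃! g : H →ₐ[A] T, ∀ i, g (x i) = y i

variable {A : Type u} [CommRing A] [HenselianLocalRing A] {H : Type u} [CommRing H]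
  [HenselianLocalRing H] [Algebra A H] {N : ℕ} {x : Fin N → H} (hH : IsHS A H x)

namespace IsHS

include hH

theorem mem_maximalIdeal_iff (a : A) : algebraMap A H a ∈ maximalIdeal H ↔ a ∈ maximalIdeal A := by
  have := hH.isLocalHom
  simp only [mem_maximalIdeal, mem_nonunits_iff, isUnit_map_iff]

section lift

variable {T : Type u} [CommRing T] [HenselianLocalRing T] [Algebra A T]
  (hT : IsLocalHom (algebraMap A T))

/-- The homomorphism sending `x i` to `y i`. -/
def lift (y : Fin N → T) (hy : ∀ i, y i ∈ maximalIdeal T) : H →ₐ[A] T :=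
  (hH.universal T hT y hy).exists.choose

@[simp]
theorem lift_x (y : Fin N → T) (hy : ∀ i, y i ∈ maximalIdeal T) (i : Fin N) :
    hH.lift hT y hy (x i) = y i :=
  (hH.universal T hT y hy).exists.choose_spec i

include hT in
theorem hom_ext {f g : H →ₐ[A] T} (hf : ∀ i, f (x i) ∈ maximalIdeal T)
    (h : ∀ i, f (x i) = g (x i)) : f = g :=
  (hH.universal T hT (fun i => f (x i)) hf).unique (fun _ => rfl) fun i => (h i).symm

end lift

/-- The substitution endomorphism. -/
def endo (y : Fin N → H) (hy : ∀ i, y i ∈ maximalIdeal H) : H →ₐ[A] H :=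
  hH.lift hH.isLocalHom y hy

@[simp]
theorem endo_x (y : Fin N → H) (hy : ∀ i, y i ∈ maximalIdeal H) (i : Fin N) :
    hH.endo y hy (x i) = y i :=
  hH.lift_x hH.isLocalHom y hy i

theorem endo_ext {f g : H →ₐ[A] H} (hf : ∀ i, f (x i) ∈ maximalIdeal H)
    (h : ∀ i, f (x i) = g (x i)) : f = g :=
  hH.hom_ext hH.isLocalHom hf h

/-- The augmentation `x ↦ 0`. -/
def eval0 : H →ₐ[A] A :=
  hH.lift ⟨fun _ h => h⟩ (fun _ => 0) fun _ => zero_mem _

@[simp]
theorem eval0_x (i : Fin N) : hH.eval0 (x i) = 0 :=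
  hH.lift_x _ _ _ i

/-- Kill the variables in `s`. -/
def proj (s : Finset (Fin N)) : H →ₐ[A] H :=
  hH.endo (fun i => if i ∈ s then 0 else x i) fun i => by
    split_ifs
    exacts [zero_mem _, hH.mem i]

theorem proj_x (s : Finset (Fin N)) (i : Fin N) :
    hH.proj s (x i) = if i ∈ s then 0 else x i :=
  hH.endo_x _ _ i

theorem proj_univ (h : H) : hH.proj Finset.univ h = algebraMap A H (hH.eval0 h) := by
  refine AlgHom.congr_fun (hH.endo_ext (f := hH.proj Finset.univ)
    (g := (Algebra.ofId A H).comp hH.eval0) (fun i => ?_) fun i => ?_) h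
  · simp [hH.proj_x]
  · simp [hH.proj_x]

theorem sub_proj_mem (s : Finset (Fin N)) (h : H) :
    h - hH.proj s h ∈ Ideal.span (x '' (s : Set (Fin N))) := by
  classical
  let J := Ideal.span (x '' (s : Set (Fin N)))
  have hJ : J ≤ maximalIdeal H := Ideal.span_le.2 fun y ⟨i, _, hi⟩ => hi ▸ hH.mem i
  have hJt : J ≠ ⊤ := fun h => (maximalIdeal.isMaximal H).ne_top (top_le_iff.1 (h ▸ hJ))
  have : Nontrivial (H ⧸ J) := Ideal.Quotient.nontrivial_iff.2 hJt
  have : IsLocalRing (H ⧸ J) := .of_surjective' _ Ideal.Quotient.mk_surjective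
  have : HenselianLocalRing (H ⧸ J) := Hensel.henselianLocalRing_of_finite H _
  have hl : IsLocalHom (algebraMap A (H ⧸ J)) := by
    refine ⟨fun a ha => ?_⟩
    by_contra hna
    have h1 : algebraMap A H a ∈ maximalIdeal H :=
      (hH.mem_maximalIdeal_iff a).2 ((mem_maximalIdeal _).2 hna)
    obtain ⟨b, hb⟩ := isUnit_iff_exists_inv.1 ha
    obtain ⟨b, rfl⟩ := Ideal.Quotient.mk_surjective b
    rw [show algebraMap A (H ⧸ J) a = Ideal.Quotient.mk J (algebraMap A H a) from rfl,
      ← map_mul, ← map_one (Ideal.Quotient.mk J), Ideal.Quotient.eq] at hb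
    have h3 : (1 : H) ∈ maximalIdeal H := by
      have := sub_mem (Ideal.mul_mem_right b _ h1) (hJ hb)
      simpa using this
    exact (mem_maximalIdeal _).1 h3 isUnit_one
  have key : (Ideal.Quotient.mkₐ A J) = (Ideal.Quotient.mkₐ A J).comp (hH.proj s) := by
    refine hH.hom_ext hl (fun i => ?_) fun i => ?_
    · rw [mem_maximalIdeal, mem_nonunits_iff]
      intro hu
      obtain ⟨b, hb⟩ := isUnit_iff_exists_inv.1 hu
      obtain ⟨b, rfl⟩ := Ideal.Quotient.mk_surjective b
      rw [Ideal.Quotient.mkₐ_eq_mk, ← map_mul, ← map_one (Ideal.Quotient.mk J),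
        Ideal.Quotient.eq] at hb
      have h3 : (1 : H) ∈ maximalIdeal H := by
        have := sub_mem (Ideal.mul_mem_right b _ (hH.mem i)) (hJ hb)
        simpa using this
      exact (mem_maximalIdeal _).1 h3 isUnit_one
    · simp only [AlgHom.comp_apply, hH.proj_x, Ideal.Quotient.mkₐ_eq_mk]
      split_ifs with hi
      · rw [map_zero, Ideal.Quotient.eq_zero_iff_mem]
        exact Ideal.subset_span ⟨i, hi, rfl⟩
      · rfl
  exact Ideal.Quotient.eq.1 (AlgHom.congr_fun key h)

theorem sub_eval0_mem (h : H) : h - algebraMap A H (hH.eval0 h) ∈ Ideal.span (Set.range x) := by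
  have := hH.sub_proj_mem Finset.univ h
  rwa [hH.proj_univ, Finset.coe_univ, Set.image_univ] at this

theorem sub_eval0_mem_maximalIdeal (h : H) :
    h - algebraMap A H (hH.eval0 h) ∈ maximalIdeal H :=
  Ideal.span_le.2 (Set.range_subset_iff.2 hH.mem) (hH.sub_eval0_mem h)

theorem mem_maximalIdeal_iff_eval0 (h : H) :
    h ∈ maximalIdeal H ↔ hH.eval0 h ∈ maximalIdeal A := by
  rw [← hH.mem_maximalIdeal_iff]
  constructor
  · intro hh
    simpa using sub_mem hh (hH.sub_eval0_mem_maximalIdeal h)
  · intro hh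
    simpa using add_mem hh (hH.sub_eval0_mem_maximalIdeal h)

theorem map_mem_maximalIdeal {T : Type u} [CommRing T] [IsLocalRing T] [Algebra A T]
    (hT : IsLocalHom (algebraMap A T)) (f : H →ₐ[A] T) (hf : ∀ i, f (x i) ∈ maximalIdeal T)
    {h : H} (hh : h ∈ maximalIdeal H) : f h ∈ maximalIdeal T := by
  have h1 : f (h - algebraMap A H (hH.eval0 h)) ∈ maximalIdeal T := by
    have : (Ideal.span (Set.range x)).map f ≤ maximalIdeal T := by
      rw [Ideal.map_span, Ideal.span_le]
      rintro _ ⟨_, ⟨i, rfl⟩, rfl⟩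
      exact hf i
    exact this (Ideal.mem_map_of_mem _ (hH.sub_eval0_mem h))
  have h2 : algebraMap A T (hH.eval0 h) ∈ maximalIdeal T := by
    have := (hH.mem_maximalIdeal_iff_eval0 h).1 hh
    simp only [mem_maximalIdeal, mem_nonunits_iff, isUnit_map_iff] at this ⊢
    exact this
  simpa [map_sub, f.commutes] using add_mem h1 h2

/-- An endomorphism preserving `𝔪` is congruent to the identity modulo `𝔪`. -/
theorem endo_sub_mem (φ : H →ₐ[A] H) (hφ : ∀ i, φ (x i) ∈ maximalIdeal H) (h : H) :
    φ h - h ∈ maximalIdeal H := by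
  have h1 := hH.sub_eval0_mem_maximalIdeal h
  have h2 := hH.map_mem_maximalIdeal hH.isLocalHom φ hφ h1
  rw [map_sub, AlgHom.commutes] at h2
  simpa using sub_mem h2 h1

theorem residue_endo (φ : H →ₐ[A] H) (hφ : ∀ i, φ (x i) ∈ maximalIdeal H) (h : H) :
    residue H (φ h) = residue H h := by
  rw [← sub_eq_zero, ← map_sub, residue_eq_zero_iff]
  exact hH.endo_sub_mem φ hφ h

theorem eq_eval0_proj (s : Finset (Fin N)) (h : H) : hH.eval0 (hH.proj s h) = hH.eval0 h := by
  refine AlgHom.congr_fun (hH.hom_ext (T := A) ⟨fun _ h => h⟩ (f := hH.eval0.comp (hH.proj s))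
    (g := hH.eval0) (fun i => ?_) fun i => ?_) h
  · simp only [AlgHom.comp_apply, hH.proj_x]
    split_ifs <;> simp
  · simp only [AlgHom.comp_apply, hH.proj_x]
    split_ifs <;> simp

/-- First order expansion in the variables of `s`. -/
theorem exists_expansion₁ (s : Finset (Fin N)) (h : H) :
    ∃ g : Fin N → H, (∀ i ∉ s, g i = 0) ∧ h = hH.proj s h + ∑ i, g i * x i := by
  classical
  have h0 := hH.sub_proj_mem s h
  rw [Set.image_eq_range, Ideal.mem_span_range_iff_exists_fun] at h0
  obtain ⟨g, hg⟩ := h0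
  refine ⟨fun i => if hi : i ∈ s then g ⟨i, hi⟩ else 0, fun i hi => by simp [hi], ?_⟩
  refine (eq_add_of_sub_eq' hg.symm).trans ?_
  congr 1
  rw [← Finset.sum_subset (Finset.subset_univ s) (fun i _ hi => by simp [hi]),
    ← Finset.sum_coe_sort s]
  simp

/-- Second order expansion in the variables of `s`. -/
theorem exists_expansion₂ (s : Finset (Fin N)) (h : H) :
    ∃ (L : Fin N → H) (Q : Fin N → Fin N → H),
      (∀ i ∉ s, L i = 0 ∧ (∀ j, Q i j = 0) ∧ ∀ j, Q j i = 0) ∧
      (∀ i, hH.proj s (L i) = L i) ∧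
      h = hH.proj s h + ∑ i, L i * x i + ∑ i, ∑ j, Q i j * x i * x j := by
  classical
  obtain ⟨g, hg, hh⟩ := hH.exists_expansion₁ s h
  choose r hr hgr using fun i => hH.exists_expansion₁ s (g i)
  have hidem : ∀ y, hH.proj s (hH.proj s y) = hH.proj s y := by
    intro y
    refine AlgHom.congr_fun (hH.endo_ext (f := (hH.proj s).comp (hH.proj s)) (g := hH.proj s)
      (fun i => ?_) fun i => ?_) y
    · simp only [AlgHom.comp_apply, hH.proj_x]
      split_ifs with hi
      · simp
      · simp [hH.proj_x, hi, hH.mem]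
    · simp only [AlgHom.comp_apply, hH.proj_x]
      split_ifs with hi
      · simp
      · simp [hH.proj_x, hi]
  refine ⟨fun i => hH.proj s (g i), fun i j => if i ∈ s then r i j else 0, ?_,
    fun i => hidem _, ?_⟩
  · intro i hi
    refine ⟨by simp [hg i hi], fun j => if_neg hi, fun j => ?_⟩
    dsimp only
    split_ifs
    exacts [hr j i hi, rfl]
  · rw [add_assoc, ← Finset.sum_add_distrib]
    refine hh.trans (congrArg _ (Finset.sum_congr rfl fun i _ => ?_))
    by_cases hi : i ∈ s
    · simp only [if_pos hi]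
      conv_lhs => rw [hgr i]
      rw [add_mul, Finset.sum_mul]
      exact congrArg _ (Finset.sum_congr rfl fun j _ => by ring)
    · simp [hg i hi, hi]

/-! ### Partial derivatives -/

omit hH in
theorem isLocalRing_dualNumber : IsLocalRing (DualNumber H) :=
  have : Nontrivial (DualNumber H) := TrivSqZeroExt.fstHom H H H |>.toRingHom.domain_nontrivial
  .of_nonunits_add fun a b ha hb => by
    simp only [mem_nonunits_iff, TrivSqZeroExt.isUnit_iff_isUnit_fst, TrivSqZeroExt.fst_add] at ha hb ⊢
    exact IsLocalRing.nonunits_add ha hb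

omit hH in
theorem henselianLocalRing_dualNumber : HenselianLocalRing (DualNumber H) :=
  have := isLocalRing_dualNumber (H := H)
  have : Module.Finite H (DualNumber H) := Module.Finite.prod
  Hensel.henselianLocalRing_of_finite H _

omit hH in
theorem mem_maximalIdeal_dualNumber (a : DualNumber H) :
    letI := isLocalRing_dualNumber (H := H)
    a ∈ maximalIdeal (DualNumber H) ↔ a.fst ∈ maximalIdeal H := by
  letI := isLocalRing_dualNumber (H := H)
  rw [mem_maximalIdeal, mem_maximalIdeal, mem_nonunits_iff, mem_nonunits_iff,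
    TrivSqZeroExt.isUnit_iff_isUnit_fst]

theorem isLocalHom_dualNumber : IsLocalHom (algebraMap A (DualNumber H)) := by
  refine ⟨fun a ha => ?_⟩
  rw [TrivSqZeroExt.isUnit_iff_isUnit_fst, TrivSqZeroExt.algebraMap_eq_inl',
    TrivSqZeroExt.fst_inl] at ha
  exact hH.isLocalHom.map_nonunit a ha

/-- `h ↦ h + ε ∂h/∂x_i`. -/
def taylor (i : Fin N) : H →ₐ[A] DualNumber H :=
  letI := henselianLocalRing_dualNumber (H := H)
  hH.lift hH.isLocalHom_dualNumber
    (fun j => TrivSqZeroExt.inl (x j) + TrivSqZeroExt.inr (if j = i then 1 else 0)) fun j => by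
      rw [mem_maximalIdeal_dualNumber]
      split_ifs <;> simpa using hH.mem j

theorem taylor_x (i j : Fin N) : hH.taylor i (x j) =
    TrivSqZeroExt.inl (x j) + TrivSqZeroExt.inr (if j = i then 1 else 0) :=
  letI := henselianLocalRing_dualNumber (H := H)
  hH.lift_x _ _ _ j

theorem fst_taylor (i : Fin N) (h : H) : (hH.taylor i h).fst = h := by
  refine AlgHom.congr_fun (hH.endo_ext (f := (TrivSqZeroExt.fstHom A H H).comp (hH.taylor i))
    (g := AlgHom.id A H) (fun j => ?_) fun j => ?_) h
  · simp only [AlgHom.comp_apply, hH.taylor_x]; split_ifs <;> simp [hH.mem]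
  · simp only [AlgHom.comp_apply, hH.taylor_x]; split_ifs <;> simp

/-- The partial derivative. -/
def pd (i : Fin N) : Derivation A H H :=
  Derivation.mk' ((TrivSqZeroExt.sndHom H H).restrictScalars A ∘ₗ (hH.taylor i).toLinearMap)
    fun a b => by
      simp only [LinearMap.coe_comp, LinearMap.coe_restrictScalars, Function.comp_apply,
        AlgHom.toLinearMap_apply, TrivSqZeroExt.sndHom_apply, map_mul,
        TrivSqZeroExt.snd_mul, hH.fst_taylor, smul_eq_mul, MulOpposite.smul_eq_mul_unop,
        MulOpposite.unop_op]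
      ring

theorem pd_apply (i : Fin N) (h : H) : hH.pd i h = (hH.taylor i h).snd := rfl

@[simp]
theorem pd_x (i j : Fin N) : hH.pd i (x j) = if j = i then 1 else 0 := by
  rw [hH.pd_apply, hH.taylor_x]; split_ifs <;> simp

theorem pd_proj {s : Finset (Fin N)} {i : Fin N} (hi : i ∈ s) (h : H) :
    hH.pd i (hH.proj s h) = 0 := by
  letI := henselianLocalRing_dualNumber (H := H)
  have key : (hH.taylor i).comp (hH.proj s) =
      (IsScalarTower.toAlgHom A H (DualNumber H)).comp (hH.proj s) := by
    refine hH.hom_ext hH.isLocalHom_dualNumber (fun j => ?_) fun j => ?_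
    · rw [mem_maximalIdeal_dualNumber, AlgHom.comp_apply, hH.fst_taylor, hH.proj_x]
      split_ifs
      exacts [zero_mem _, hH.mem j]
    · simp only [AlgHom.comp_apply, hH.proj_x, IsScalarTower.coe_toAlgHom']
      split_ifs with hj
      · simp
      · have hji : j ≠ i := fun h => hj (h ▸ hi)
        simp [hH.taylor_x, hji, TrivSqZeroExt.algebraMap_eq_inl]
  have := congrArg TrivSqZeroExt.snd (AlgHom.congr_fun key h)
  simpa [hH.pd_apply, TrivSqZeroExt.algebraMap_eq_inl] using this

/-- The Jacobian matrix at the closed point. -/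
def jac (φ : Fin N → H) : Matrix (Fin N) (Fin N) (ResidueField H) :=
  fun i j => residue H (hH.pd j (φ i))

theorem residue_pd_endo (ψ : H →ₐ[A] H) (hψ : ∀ i, ψ (x i) ∈ maximalIdeal H) (j : Fin N) (h : H) :
    residue H (hH.pd j (ψ h)) =
      ∑ l, residue H (hH.pd l h) * residue H (hH.pd j (ψ (x l))) := by
  obtain ⟨L, Q, -, hL, hh⟩ := hH.exists_expansion₂ Finset.univ h
  have hx : ∀ l, residue H (x l) = 0 := fun l => (residue_eq_zero_iff _).2 (hH.mem l)
  have hψx : ∀ l, residue H (ψ (x l)) = 0 := fun l => (residue_eq_zero_iff _).2 (hψ l)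
  have hproj : ∀ y, hH.proj Finset.univ y = algebraMap A H (hH.eval0 y) := hH.proj_univ
  have hd : ∀ l, residue H (hH.pd l h) = residue H (L l) := by
    intro l
    rw [hh, hproj]
    simp [map_sum, hx, apply_ite (residue H)]
  simp only [hd]
  conv_lhs => rw [hh, hproj]
  simp [map_sum, hψx, hH.residue_endo ψ hψ]

theorem jac_comp (ψ φ : H →ₐ[A] H) (hψ : ∀ i, ψ (x i) ∈ maximalIdeal H) :
    hH.jac (fun i => ψ (φ (x i))) =
      hH.jac (fun i => φ (x i)) * hH.jac (fun i => ψ (x i)) := by
  ext i j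
  simp only [jac, Matrix.mul_apply]
  exact hH.residue_pd_endo ψ hψ j (φ (x i))

theorem jac_id : hH.jac x = 1 := by
  ext i j
  simp [jac, Matrix.one_apply, apply_ite (residue H)]

end IsHS

end Groth.Agent.HensMorse
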