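import Groth.Agent.HensMorse.Inverse
import Groth.Agent.Hensel.HfpFinite
import Mathlib.RingTheory.Flat.EquationalCriterion

/-!
# Presenting a henselized local algebra as a quotient of a henselian series ring
-/

noncomputable section

namespace Groth.Agent.HensMorse

open IsLocalRing TensorProduct

universe u

variable {A : Type u} [CommRing A] [HenselianLocalRing A]

/-- A power of an element outside a maximal ideal kills it modulo `J` when its localization is
generated by `J`. -/
theorem exists_notMem_mul_mem {B₀ : Type u} [CommRing B₀] (P : Ideal B₀) [P.IsPrime]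
    (J : Ideal B₀) [IsNoetherianRing (B₀ ⧸ J)] (hJP : J ≤ P)
    (h : maximalIdeal (Localization.AtPrime P) ≤ J.map (algebraMap B₀ (Localization.AtPrime P))) :
    ∃ s ∉ P, ∀ p ∈ P, s * p ∈ J := by
  classical
  obtain ⟨G, hG⟩ := (IsNoetherian.noetherian (P.map (Ideal.Quotient.mk J)) : Submodule.FG _)
  have hex : ∀ g ∈ G, ∃ s ∉ P, Ideal.Quotient.mk J s * g = 0 := fun g hg => by
    have hgP : g ∈ P.map (Ideal.Quotient.mk J) := hG ▸ Submodule.subset_span hg
    obtain ⟨p, hp, rfl⟩ := (Ideal.mem_map_iff_of_surjective _ Ideal.Quotient.mk_surjective).1 hgP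
    have h2 := h ((IsLocalization.AtPrime.to_map_mem_maximal_iff (Localization.AtPrime P) P p).2 hp)
    obtain ⟨⟨j, t⟩, hjt⟩ := (IsLocalization.mem_map_algebraMap_iff P.primeCompl _).1 h2
    rw [← map_mul] at hjt
    obtain ⟨c, hc⟩ := (IsLocalization.eq_iff_exists P.primeCompl _).1 hjt
    refine ⟨c * t, fun hct => (Ideal.IsPrime.mem_or_mem inferInstance hct).elim c.2 t.2, ?_⟩
    rw [← map_mul, Ideal.Quotient.eq_zero_iff_mem,
      show (c : B₀) * t * p = c * (p * t) by ring, hc]
    exact J.mul_mem_left _ j.2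
  choose! s hs hsg using hex
  refine ⟨∏ g ∈ G, s g, fun h => ?_, fun p hp => ?_⟩
  · obtain ⟨g, hg, hsP⟩ := (Ideal.IsPrime.prod_mem_iff).1 h
    exact hs g hg hsP
  · rw [← Ideal.Quotient.eq_zero_iff_mem, map_mul]
    have hp' : Ideal.Quotient.mk J p ∈ P.map (Ideal.Quotient.mk J) := Ideal.mem_map_of_mem _ hp
    rw [← hG] at hp'
    refine Submodule.span_induction (p := fun z _ => Ideal.Quotient.mk J (∏ g ∈ G, s g) * z = 0)
      (fun g hg => ?_) (mul_zero _) (fun a b _ _ ha hb => by rw [mul_add, ha, hb, add_zero])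
      (fun r a _ ha => by rw [smul_eq_mul, mul_left_comm, ha, mul_zero]) hp'
    rw [← Finset.mul_prod_erase G s hg, map_mul, mul_right_comm, hsg g hg, zero_mul]

variable {H : Type u} [CommRing H] [HenselianLocalRing H] [Algebra A H] {N : ℕ} {x : Fin N → H}
  (hH : IsHS A H x)

namespace IsHS

include hH

set_option maxHeartbeats 1000000 in
-- the tensor product model
/-- A finitely presented `H`-algebra receiving `B₀` and mapping to `Bh`. -/
theorem exists_model (B₀ : Type u) [CommRing B₀] [Algebra A B₀]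
    [Algebra.FinitePresentation A B₀] (P : Ideal B₀) [P.IsMaximal]
    (hPA : ∀ a ∈ maximalIdeal A, algebraMap A B₀ a ∈ P)
    (hres : ∀ b : B₀, ∃ a : A, b - algebraMap A B₀ a ∈ P)
    (y : Fin N → B₀) (hy : ∀ i, y i ∈ P)
    (hgen : maximalIdeal (Localization.AtPrime P) ≤
      ((maximalIdeal A).map (algebraMap A B₀) ⊔ Ideal.span (Set.range y)).map
        (algebraMap B₀ (Localization.AtPrime P)))
    (Bh : Type u) [CommRing Bh] [Algebra (Localization.AtPrime P) Bh]
    [Algebra A Bh] [IsScalarTower A (Localization.AtPrime P) Bh] (Φ : H →ₐ[A] Bh)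
    (hΦx : ∀ i, Φ (x i) = algebraMap (Localization.AtPrime P) Bh
        (algebraMap B₀ (Localization.AtPrime P) (y i))) :
    ∃ (C : Type u) (_ : CommRing C) (_ : Algebra H C),
      Algebra.FinitePresentation H C ∧ ∃ (ι : B₀ →+* C) (χ : C →+* Bh),
        (∀ h, χ (algebraMap H C h) = Φ h) ∧
        (∀ b, χ (ι b) = algebraMap (Localization.AtPrime P) Bh
          (algebraMap B₀ (Localization.AtPrime P) b)) ∧
        (∀ a, ι (algebraMap A B₀ a) = algebraMap H C (algebraMap A H a)) ∧
        (∀ i, ι (y i) = algebraMap H C (x i)) ∧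
        (∀ p ∈ P, ι p ∈ (maximalIdeal H).map (algebraMap H C)) ∧
        ∀ z : C, ∃ h : H, z - algebraMap H C h ∈ (maximalIdeal H).map (algebraMap H C) := by
  classical
  let L := Localization.AtPrime P
  set J : Ideal B₀ := (maximalIdeal A).map (algebraMap A B₀) ⊔ Ideal.span (Set.range y) with hJ
  have hJP : J ≤ P := sup_le (Ideal.map_le_iff_le_comap.2 hPA) (Ideal.span_le.2 (Set.range_subset_iff.2 hy))
  haveI : IsNoetherianRing (B₀ ⧸ J) := by
    let : Algebra (A ⧸ maximalIdeal A) (B₀ ⧸ J) := (Ideal.quotientMap J (algebraMap A B₀)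
      (Ideal.map_le_iff_le_comap.1 le_sup_left)).toAlgebra
    haveI : IsScalarTower A (A ⧸ maximalIdeal A) (B₀ ⧸ J) := .of_algebraMap_eq fun _ => rfl
    haveI : Algebra.FiniteType A (B₀ ⧸ J) := Algebra.FiniteType.of_surjective
      (Ideal.Quotient.mkₐ A J) Ideal.Quotient.mk_surjective
    haveI : Algebra.FiniteType (A ⧸ maximalIdeal A) (B₀ ⧸ J) :=
      Algebra.FiniteType.of_restrictScalars_finiteType A _ _
    letI := Ideal.Quotient.field (maximalIdeal A)
    exact Algebra.FiniteType.isNoetherianRing (A ⧸ maximalIdeal A) (B₀ ⧸ J)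
  obtain ⟨s, hs, hsP⟩ := exists_notMem_mul_mem P J hJP hgen
  let B₁ := Localization.Away s
  haveI : Algebra.FinitePresentation A B₁ := Algebra.FinitePresentation.trans A B₀ B₁
  -- `A[x]` acts on everything
  let R := MvPolynomial (Fin N) A
  let y₁ : Fin N → B₁ := fun i => algebraMap B₀ B₁ (y i)
  letI : Algebra R B₁ := (MvPolynomial.aeval y₁).toRingHom.toAlgebra
  haveI : IsScalarTower A R B₁ := .of_algebraMap_eq fun a => ((MvPolynomial.aeval y₁).commutes a).symm
  haveI : Algebra.FinitePresentation R B₁ :=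
    Algebra.FinitePresentation.of_restrict_scalars_finitePresentation A R B₁
  letI : Algebra R H := (MvPolynomial.aeval x).toRingHom.toAlgebra
  haveI : IsScalarTower A R H := .of_algebraMap_eq fun a => ((MvPolynomial.aeval x).commutes a).symm
  have hsu : IsUnit (algebraMap L Bh (algebraMap B₀ L s)) :=
    (IsLocalization.map_units L (⟨s, hs⟩ : P.primeCompl)).map _
  let ι₁ : B₁ →ₐ[A] Bh := IsLocalization.Away.liftAlgHom s
    (f := (IsScalarTower.toAlgHom A L Bh).comp (IsScalarTower.toAlgHom A B₀ L)) hsu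
  have hι₁ : ∀ b, ι₁ (algebraMap B₀ B₁ b) = algebraMap L Bh (algebraMap B₀ L b) := fun b => by
    exact IsLocalization.Away.lift_eq s hsu b
  letI : Algebra R Bh := (MvPolynomial.aeval fun i => algebraMap L Bh (algebraMap B₀ L (y i))).toRingHom.toAlgebra
  haveI : IsScalarTower A R Bh := .of_algebraMap_eq fun a =>
    ((MvPolynomial.aeval fun i => algebraMap L Bh (algebraMap B₀ L (y i))).commutes a).symm
  have hΦR : ∀ r : R, Φ (algebraMap R H r) = algebraMap R Bh r := by
    intro r
    show Φ (MvPolynomial.aeval x r) = MvPolynomial.aeval _ r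
    rw [MvPolynomial.comp_aeval_apply]
    congr 2
    exact funext hΦx
  have hιR : ∀ r : R, ι₁ (algebraMap R B₁ r) = algebraMap R Bh r := by
    intro r
    show ι₁ (MvPolynomial.aeval y₁ r) = MvPolynomial.aeval _ r
    rw [MvPolynomial.comp_aeval_apply]
    congr 2
    exact funext fun i => hι₁ (y i)
  let C := H ⊗[R] B₁
  let χ : C →ₐ[R] Bh := Algebra.TensorProduct.lift
    (AlgHom.mk Φ.toRingHom hΦR) (AlgHom.mk ι₁.toRingHom hιR) fun _ _ => .all _ _
  -- modulo the maximal ideal `C` is generated by one element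
  set J₁ := (maximalIdeal H).map (algebraMap H C) with hJ₁
  have hJC : ∀ b ∈ J, (1 : H) ⊗ₜ[R] algebraMap B₀ B₁ b ∈ J₁ := by
    intro b hb
    let inc : B₀ →+* C :=
      (Algebra.TensorProduct.includeRight : B₁ →ₐ[R] C).toRingHom.comp (algebraMap B₀ B₁)
    suffices J ≤ J₁.comap inc from this hb
    refine sup_le (Ideal.map_le_iff_le_comap.2 fun a ha => ?_) (Ideal.span_le.2 ?_)
    · show (1 : H) ⊗ₜ[R] algebraMap B₀ B₁ (algebraMap A B₀ a) ∈ J₁
      rw [← IsScalarTower.algebraMap_apply A B₀ B₁, IsScalarTower.algebraMap_apply A R B₁,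
        Algebra.algebraMap_eq_smul_one (algebraMap A R a), ← smul_tmul, ← Algebra.algebraMap_eq_smul_one,
        ← IsScalarTower.algebraMap_apply A R H, hJ₁]
      exact Ideal.mem_map_of_mem (algebraMap H C) ((hH.mem_maximalIdeal_iff a).2 ha)
    · rintro _ ⟨i, rfl⟩
      show (1 : H) ⊗ₜ[R] y₁ i ∈ J₁
      rw [show y₁ i = algebraMap R B₁ (MvPolynomial.X i) from (MvPolynomial.aeval_X _ _).symm,
        Algebra.algebraMap_eq_smul_one, ← smul_tmul, ← Algebra.algebraMap_eq_smul_one,
        show algebraMap R H (MvPolynomial.X i) = x i from MvPolynomial.aeval_X _ _, hJ₁]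
      exact Ideal.mem_map_of_mem (algebraMap H C) (hH.mem i)
  have halg : ∀ a : A, (1 : H) ⊗ₜ[R] algebraMap A B₁ a = algebraMap H C (algebraMap A H a) := by
    intro a
    rw [IsScalarTower.algebraMap_apply A R B₁, Algebra.algebraMap_eq_smul_one, ← smul_tmul,
      ← Algebra.algebraMap_eq_smul_one, ← IsScalarTower.algebraMap_apply A R H]
    rfl
  obtain ⟨c, hc⟩ := hres s
  have hcu : IsUnit c := by
    by_contra h
    exact hs (by simpa using add_mem hc (hPA c ((mem_maximalIdeal _).2 h)))
  -- elements of `P` die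
  have hPC : ∀ p ∈ P, (1 : H) ⊗ₜ[R] algebraMap B₀ B₁ p ∈ J₁ := by
    intro p hp
    let inv : B₁ := IsLocalization.Away.invSelf s
    have : (1 : H) ⊗ₜ[R] algebraMap B₀ B₁ p =
        ((1 : H) ⊗ₜ[R] inv) * ((1 : H) ⊗ₜ[R] algebraMap B₀ B₁ (s * p)) := by
      rw [Algebra.TensorProduct.tmul_mul_tmul, mul_one, map_mul, ← mul_assoc,
        mul_comm inv, IsLocalization.Away.mul_invSelf, one_mul]
    rw [this]
    exact Ideal.mul_mem_left _ _ (hJC _ (hsP p hp))
  have hsurjC : ∀ z : C, ∃ h : H, z - algebraMap H C h ∈ J₁ := by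
    intro z
    induction z using TensorProduct.induction_on with
    | zero => exact ⟨0, by simp⟩
    | add a b ha hb =>
      obtain ⟨g, hg⟩ := ha
      obtain ⟨g', hg'⟩ := hb
      exact ⟨g + g', by convert add_mem hg hg' using 1; rw [map_add]; ring⟩
    | tmul g b =>
      obtain ⟨⟨b₀, t⟩, hbt⟩ := IsLocalization.surj (Submonoid.powers s) b
      obtain ⟨n, hn⟩ := t.2
      obtain ⟨a, ha⟩ := hres b₀
      obtain ⟨u, hu⟩ := isUnit_iff_exists_inv.1 (hcu.pow n)
      have h1 := hPC _ ha
      obtain ⟨w, hw⟩ : s - algebraMap A B₀ c ∣ s ^ n - algebraMap A B₀ c ^ n := sub_dvd_pow_sub_pow _ _ n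
      have h2 : (1 : H) ⊗ₜ[R] algebraMap B₀ B₁ (s ^ n - algebraMap A B₀ c ^ n) ∈ J₁ :=
        hPC _ (hw ▸ Ideal.mul_mem_right _ _ hc)
      rw [map_sub, tmul_sub, ← map_pow, ← IsScalarTower.algebraMap_apply, halg] at h2
      rw [map_sub, tmul_sub, ← IsScalarTower.algebraMap_apply, halg] at h1
      have hbt' : ((1 : H) ⊗ₜ[R] b) * ((1 : H) ⊗ₜ[R] algebraMap B₀ B₁ (s ^ n)) =
          (1 : H) ⊗ₜ[R] algebraMap B₀ B₁ b₀ := by
        rw [Algebra.TensorProduct.tmul_mul_tmul, mul_one, ← hbt, ← hn]
      refine ⟨g * algebraMap A H (a * u), ?_⟩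
      have e1 : g ⊗ₜ[R] b = algebraMap H C g * ((1 : H) ⊗ₜ[R] b) := by
        rw [Algebra.TensorProduct.algebraMap_apply, Algebra.TensorProduct.tmul_mul_tmul, mul_one,
          one_mul]
        rfl
      have hu' : algebraMap H C (algebraMap A H (c ^ n)) * algebraMap H C (algebraMap A H u) = 1 := by
        rw [← map_mul, ← map_mul, hu, map_one, map_one]
      convert Ideal.mul_mem_left J₁ (algebraMap H C g * algebraMap H C (algebraMap A H u))
        (sub_mem h1 (Ideal.mul_mem_left J₁ ((1 : H) ⊗ₜ[R] b) h2)) using 1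
      rw [e1, map_mul (algebraMap H C) g, map_mul (algebraMap A H), map_mul]
      linear_combination (algebraMap H C g * algebraMap H C (algebraMap A H u)) * hbt' -
        (algebraMap H C g * ((1 : H) ⊗ₜ[R] b)) * hu'
  refine ⟨C, inferInstance, inferInstance, inferInstance,
    (Algebra.TensorProduct.includeRight : B₁ →ₐ[R] C).toRingHom.comp (algebraMap B₀ B₁),
    χ.toRingHom, fun h => ?_, fun b => ?_, fun a => ?_, fun i => ?_, fun p hp => hPC p hp, hsurjC⟩
  · show χ (h ⊗ₜ[R] (1 : B₁)) = _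
    rw [Algebra.TensorProduct.lift_tmul]
    show Φ h * ι₁ 1 = _
    rw [map_one, mul_one]
  · show χ ((1 : H) ⊗ₜ[R] algebraMap B₀ B₁ b) = _
    rw [Algebra.TensorProduct.lift_tmul]
    show Φ 1 * ι₁ (algebraMap B₀ B₁ b) = _
    rw [map_one, one_mul, hι₁]
  · show (1 : H) ⊗ₜ[R] algebraMap B₀ B₁ (algebraMap A B₀ a) = _
    rw [← IsScalarTower.algebraMap_apply A B₀ B₁, halg]
  · show (1 : H) ⊗ₜ[R] y₁ i = x i ⊗ₜ[R] (1 : B₁)
    rw [show y₁ i = algebraMap R B₁ (MvPolynomial.X i) from (MvPolynomial.aeval_X _ _).symm,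
      Algebra.algebraMap_eq_smul_one, ← smul_tmul, ← Algebra.algebraMap_eq_smul_one,
      show algebraMap R H (MvPolynomial.X i) = x i from MvPolynomial.aeval_X _ _]

/-- The henselization of `(B₀)_P` is a finitely presented quotient of the henselian series ring. -/
theorem exists_surjective (B₀ : Type u) [CommRing B₀] [Algebra A B₀]
    [Algebra.FinitePresentation A B₀] (P : Ideal B₀) [P.IsMaximal]
    (hPA : ∀ a ∈ maximalIdeal A, algebraMap A B₀ a ∈ P)
    (hres : ∀ b : B₀, ∃ a : A, b - algebraMap A B₀ a ∈ P)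
    (y : Fin N → B₀) (hy : ∀ i, y i ∈ P)
    (hgen : maximalIdeal (Localization.AtPrime P) ≤
      ((maximalIdeal A).map (algebraMap A B₀) ⊔ Ideal.span (Set.range y)).map
        (algebraMap B₀ (Localization.AtPrime P)))
    (Bh : Type u) [CommRing Bh] [HenselianLocalRing Bh] [Algebra (Localization.AtPrime P) Bh]
    [IsLocalHom (algebraMap (Localization.AtPrime P) Bh)]
    [hBh : Hensel.IsHenselization (Localization.AtPrime P) Bh]
    [Algebra A Bh] [IsScalarTower A (Localization.AtPrime P) Bh] :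
    ∃ Φ : H →ₐ[A] Bh, (∀ i, Φ (x i) = algebraMap (Localization.AtPrime P) Bh
        (algebraMap B₀ (Localization.AtPrime P) (y i))) ∧
      Function.Surjective Φ ∧ (RingHom.ker Φ).FG := by
  classical
  let L := Localization.AtPrime P
  have hLm : ∀ {b : B₀}, b ∈ P → algebraMap L Bh (algebraMap B₀ L b) ∈ maximalIdeal Bh :=
    fun {b} hb => by
      rw [mem_maximalIdeal, mem_nonunits_iff, isUnit_map_iff]
      exact (mem_maximalIdeal _).1 ((IsLocalization.AtPrime.to_map_mem_maximal_iff L P b).2 hb)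
  have hlBh : IsLocalHom (algebraMap A Bh) := isLocalHom_of_map_le _
    (Ideal.map_le_iff_le_comap.2 fun a ha => by
      show algebraMap A Bh a ∈ maximalIdeal Bh
      rw [IsScalarTower.algebraMap_apply A L Bh, IsScalarTower.algebraMap_apply A B₀ L]
      exact hLm (hPA a ha))
  let Φ : H →ₐ[A] Bh := hH.lift hlBh (fun i => algebraMap L Bh (algebraMap B₀ L (y i)))
    fun i => hLm (hy i)
  have hΦx : ∀ i, Φ (x i) = algebraMap L Bh (algebraMap B₀ L (y i)) := hH.lift_x _ _ _
  obtain ⟨C, _, _, _, ι, χ, hχH', hχι, hιA, hιy, hιP, hsurjC⟩ :=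
    hH.exists_model B₀ P hPA hres y hy hgen Bh Φ hΦx
  set J₁ := (maximalIdeal H).map (algebraMap H C) with hJ₁
  let D := Hensel.PairHenz C J₁
  letI : Algebra H D := Algebra.compHom D (algebraMap H C)
  haveI : IsScalarTower H C D := ⟨fun h c d => by
    rw [Algebra.smul_def h c, Algebra.smul_def, Algebra.smul_def h, Algebra.smul_def c, map_mul,
      mul_assoc]
    rfl⟩
  have hD : Hens2.IsPairHenselization C J₁ D := Hensel.isPairHenselization_pairHenz C J₁
  have hmapJ : (maximalIdeal H).map (algebraMap H D) = J₁.map (algebraMap C D) := by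
    show _ = ((maximalIdeal H).map (algebraMap H C)).map (algebraMap C D)
    rw [Ideal.map_map]; rfl
  have hsurjD : ∀ d : D, ∃ h : H, d - algebraMap H D h ∈ (maximalIdeal H).map (algebraMap H D) := by
    intro d
    obtain ⟨c, hc⟩ := Hensel.exists_sub_mem_of_isPairHenselization J₁ hD d
    obtain ⟨h, hh⟩ := hsurjC c
    refine ⟨h, ?_⟩
    rw [hmapJ]
    have := add_mem hc (Ideal.mem_map_of_mem (algebraMap C D) hh)
    rwa [map_sub, sub_add_sub_cancel] at this
  have hfin : (Ideal.quotientMap ((maximalIdeal H).map (algebraMap H D)) (algebraMap H D)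
      Ideal.le_comap_map).Finite :=
    RingHom.Finite.of_surjective _ fun (w : D ⧸ (maximalIdeal H).map (algebraMap H D)) => by
      obtain ⟨z, hz⟩ := Ideal.Quotient.mk_surjective w
      obtain ⟨h, hh⟩ := hsurjD z
      refine ⟨Ideal.Quotient.mk _ h, ?_⟩
      rw [Ideal.quotientMap_mk, ← hz, eq_comm, Ideal.Quotient.eq]
      exact hh
  obtain ⟨e, -, hes, hek, hDfin⟩ :=
    Hensel.exists_surjective_of_finite_quotient (maximalIdeal H) hD hfin
  have hHD : Function.Surjective (algebraMap H D) := by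
    have htop : (⊤ : Submodule H D) ≤ LinearMap.range (Algebra.linearMap H D) := by
      refine Submodule.le_of_le_smul_of_le_jacobson_bot Module.Finite.fg_top
        (maximalIdeal_le_jacobson _) fun d _ => ?_
      obtain ⟨h, hh⟩ := hsurjD d
      refine Submodule.mem_sup.2 ⟨algebraMap H D h, ⟨h, rfl⟩,
        d - algebraMap H D h, ?_, add_sub_cancel _ _⟩
      rw [Ideal.smul_top_eq_map]
      exact hh
    exact fun d => htop (x := d) trivial
  have hχJ : J₁.map χ ≤ maximalIdeal Bh := by
    rw [hJ₁, Ideal.map_map]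
    refine Ideal.map_le_iff_le_comap.2 fun h hh => ?_
    show χ (algebraMap H C h) ∈ maximalIdeal Bh
    rw [hχH']
    exact hH.map_mem_maximalIdeal hlBh Φ (fun i => by rw [hΦx]; exact hLm (hy i)) hh
  obtain ⟨χD, hχD, -⟩ := hD.2 Bh (maximalIdeal Bh) χ inferInstance hχJ
  have hχH : ∀ h, χD (algebraMap H D h) = Φ h := fun h => by
    rw [IsScalarTower.algebraMap_apply H C D]
    exact (DFunLike.congr_fun hχD _).trans (hχH' h)
  haveI : Nontrivial D := χD.domain_nontrivial
  haveI : IsLocalRing D := .of_surjective' _ hHD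
  haveI : HenselianLocalRing D := Hensel.henselianLocalRing_of_finite H D
  have hmD : ∀ {h}, h ∈ maximalIdeal H → algebraMap H D h ∈ maximalIdeal D := fun {h} hh => by
    have hle : RingHom.ker (algebraMap H D) ≤ maximalIdeal H :=
      le_maximalIdeal (RingHom.ker_ne_top _)
    rw [mem_maximalIdeal, mem_nonunits_iff]
    intro hu
    obtain ⟨d, hd⟩ := isUnit_iff_exists_inv.1 hu
    obtain ⟨h', rfl⟩ := hHD d
    rw [← map_mul, ← map_one (algebraMap H D), ← sub_eq_zero, ← map_sub] at hd
    have := sub_mem (Ideal.mul_mem_right h' _ hh) (hle hd)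
    exact (mem_maximalIdeal _).1 (show (1 : H) ∈ maximalIdeal H by simpa using this) isUnit_one
  letI : Algebra A D := Algebra.compHom D (algebraMap A H)
  haveI : IsScalarTower A H D := .of_algebraMap_eq' rfl
  have hlD : IsLocalHom (algebraMap A D) := isLocalHom_of_map_le _
    (Ideal.map_le_iff_le_comap.2 fun a ha => hmD ((hH.mem_maximalIdeal_iff a).2 ha))
  let j : B₀ →+* D := (algebraMap C D).comp ι
  have hjdef : ∀ b, j b = algebraMap C D (ι b) := fun _ => rfl
  have hjA : ∀ a, j (algebraMap A B₀ a) = algebraMap A D a := fun a => by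
    rw [hjdef, hιA, ← IsScalarTower.algebraMap_apply H C D]
    rfl
  have hjP : ∀ p ∈ P, j p ∈ maximalIdeal D := fun p hp => by
    have h1 : j p ∈ J₁.map (algebraMap C D) := Ideal.mem_map_of_mem _ (hιP p hp)
    rw [← hmapJ] at h1
    exact (Ideal.map_le_iff_le_comap (f := algebraMap H D) (K := maximalIdeal D)).2
      (fun h hh => hmD hh) h1
  have hju : ∀ b : P.primeCompl, IsUnit (j b) := fun b => by
    obtain ⟨a, ha⟩ := hres b
    by_contra hu
    have : algebraMap A D a ∈ maximalIdeal D := by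
      rw [← hjA]
      have h1 := sub_mem ((mem_maximalIdeal _).2 hu) (hjP _ ha)
      rwa [← map_sub, sub_sub_cancel] at h1
    rw [mem_maximalIdeal, mem_nonunits_iff, isUnit_map_iff] at this
    exact b.2 (by simpa using add_mem ha (hPA a ((mem_maximalIdeal _).2 this)))
  let jL : L →+* D := IsLocalization.lift hju
  have hjL : IsLocalHom jL := isLocalHom_of_map_le _ (by
    rw [← Localization.AtPrime.map_eq_maximalIdeal, Ideal.map_map,
      show jL.comp (algebraMap B₀ L) = j from IsLocalization.lift_comp _]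
    exact Ideal.map_le_iff_le_comap.2 hjP)
  obtain ⟨ψ, hψ, -⟩ := hBh.universal D jL hjL
  have hleft : χD.comp ψ = RingHom.id Bh := by
    refine (hBh.universal Bh (algebraMap L Bh) inferInstance).unique ?_ (RingHom.id_comp _)
    rw [RingHom.comp_assoc, hψ]
    refine IsLocalization.ringHom_ext P.primeCompl ?_
    rw [RingHom.comp_assoc, IsLocalization.lift_comp]
    ext b
    show χD (algebraMap C D (ι b)) = algebraMap L Bh (algebraMap B₀ L b)
    exact (DFunLike.congr_fun hχD _).trans (hχι b)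
  have hright : ∀ h, ψ (χD (algebraMap H D h)) = algebraMap H D h := by
    let ψA : Bh →ₐ[A] D := ⟨ψ, fun a => by
      rw [IsScalarTower.algebraMap_apply A L Bh, IsScalarTower.algebraMap_apply A B₀ L]
      refine (DFunLike.congr_fun hψ _).trans ?_
      exact (IsLocalization.lift_eq hju _).trans (hjA a)⟩
    have hval : ∀ i, ψA (Φ (x i)) = algebraMap H D (x i) := fun i => by
      rw [hΦx]
      refine (DFunLike.congr_fun hψ _).trans ((IsLocalization.lift_eq hju _).trans ?_)
      rw [hjdef, IsScalarTower.algebraMap_apply H C D, hιy]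
    have : ψA.comp Φ = IsScalarTower.toAlgHom A H D :=
      hH.hom_ext hlD (fun i => by rw [AlgHom.comp_apply, hval]; exact hmD (hH.mem i)) hval
    intro h
    rw [hχH]
    exact AlgHom.congr_fun this h
  refine ⟨Φ, hΦx, fun z => ?_, ?_⟩
  · obtain ⟨h, hh⟩ := hHD (ψ z)
    exact ⟨h, by rw [← hχH, hh]; exact DFunLike.congr_fun hleft z⟩
  · have : RingHom.ker Φ = RingHom.ker (algebraMap H D) := by
      ext h
      simp only [RingHom.mem_ker, ← hχH]
      exact ⟨fun h0 => by rw [← hright h, h0, map_zero], fun h0 => by rw [h0, map_zero]⟩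
    rw [this]
    haveI : Algebra.FinitePresentation H D :=
      Algebra.FinitePresentation.of_surjective (f := IsScalarTower.toAlgHom H C D) hes (by
        show (RingHom.ker (algebraMap C D)).FG
        rw [hek]; exact Submodule.fg_span_singleton _)
    exact Algebra.FinitePresentation.ker_fG_of_surjective (Algebra.ofId H D) hHD

omit hH in
/-- Elements of `𝔪_A H` in the kernel of a map to a flat algebra lie in `𝔪_A` times the kernel. -/
theorem mem_map_mul_ker {B : Type u} [CommRing B] [Algebra A B] [Module.Flat A B]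
    (Φ : H →ₐ[A] B) (hΦ : Function.Surjective Φ) {h : H}
    (hh : h ∈ (maximalIdeal A).map (algebraMap A H)) (hker : Φ h = 0) :
    h ∈ (maximalIdeal A).map (algebraMap A H) * RingHom.ker Φ := by
  classical
  rw [Ideal.map, Ideal.span, Submodule.mem_span_image_iff_exists_fun] at hh
  obtain ⟨t, ht, c, hc⟩ := hh
  have hrel : ∑ a : t, (a : A) • Φ (c a) = 0 := by
    rw [← hker, ← hc, map_sum]
    refine Finset.sum_congr rfl fun a _ => ?_
    rw [smul_eq_mul, map_mul, AlgHom.commutes, Algebra.smul_def, mul_comm]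
  obtain ⟨k, a', z, hz, ha'⟩ := Module.Flat.isTrivialRelation_of_sum_smul_eq_zero hrel
  choose w hw using fun j => hΦ (z j)
  have key : h = ∑ a : t, algebraMap A H (a : A) * (c a - ∑ j, algebraMap A H (a' a j) * w j) := by
    rw [← hc]
    simp only [smul_eq_mul, mul_sub, Finset.sum_sub_distrib, Finset.mul_sum, mul_comm (c _)]
    rw [Finset.sum_comm]
    have hzero : ∀ j, ∑ a : t, algebraMap A H (a : A) * (algebraMap A H (a' a j) * w j) = 0 := by
      intro j
      simp only [← mul_assoc, ← map_mul, ← Finset.sum_mul, ← map_sum, ha' j, map_zero, zero_mul]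
    rw [Finset.sum_eq_zero (s := Finset.univ) fun j _ => hzero j, sub_zero]
  rw [key]
  refine Ideal.sum_mem _ fun a _ => Ideal.mul_mem_mul (Ideal.mem_map_of_mem _ (ht a.2)) ?_
  have hza : Φ (c a) = _ := hz a
  rw [RingHom.mem_ker, map_sub, sub_eq_zero, hza, map_sum]
  refine Finset.sum_congr rfl fun j _ => ?_
  rw [map_mul, AlgHom.commutes, hw, Algebra.smul_def]

end IsHS

end Groth.Agent.HensMorse
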