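import Groth.Agent.HensMorse.Coordinates
import Groth.Agent.HensMorse.Surject
import Groth.Agent.PSQuad.Hypersurface
import Mathlib.RingTheory.Filtration

/-!
# The henselization at a quadratic point is a hypersurface in a henselian series ring
-/

noncomputable section

namespace Groth.Agent.HensMorse

open IsLocalRing Matrix

universe u

variable {A : Type u} [CommRing A] [HenselianLocalRing A]

/-- The quadratic part of `F` at the closed point, as seen in `L`. -/
def QuadAt {H : Type u} [CommRing H] [HenselianLocalRing H] [Algebra A H] {N : ℕ} {x : Fin N → H}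
    (hH : IsHS A H x) {L : Type u} [Field L] (F : H) (j : ResidueField H →+* L)
    (Z : Matrix (Fin N) (Fin N) L) : Prop :=
  F ∈ maximalIdeal H ∧ (∀ i, hH.pd i F ∈ maximalIdeal H) ∧
    (∀ (Lf : Fin N → H) (Q : Fin N → Fin N → H), (∀ i, hH.proj Finset.univ (Lf i) = Lf i) →
      F = hH.proj Finset.univ F + ∑ i, Lf i * x i + ∑ i, ∑ l, Q i l * x i * x l →
      fold (Matrix.of fun i l => j (residue H (Q i l))) = fold Z) ∧
    ∀ i l, j (residue H (hH.pd l (hH.pd i F))) = (Z + Zᵀ) i l

set_option maxHeartbeats 1000000 in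
-- long assembly of the presentation
/-- A quadratic point gives a hypersurface presentation. -/
theorem exists_presentation (B₀ : Type u) [CommRing B₀] [Algebra A B₀]
    [Algebra.FinitePresentation A B₀] (P : Ideal B₀) [P.IsMaximal]
    (hPA : ∀ a ∈ maximalIdeal A, algebraMap A B₀ a ∈ P)
    (hres : ∀ b : B₀, ∃ a : A, b - algebraMap A B₀ a ∈ P)
    [Module.Flat A (Localization.AtPrime P)]
    (O : Type u) [CommRing O] [IsLocalRing O] [IsNoetherianRing O] [Algebra (ResidueField A) O]
    (q : Localization.AtPrime P →+* O) (hq : Function.Surjective q)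
    (hqA : ∀ a, q (algebraMap A (Localization.AtPrime P) a) =
      algebraMap (ResidueField A) O (residue A a))
    (hqker : RingHom.ker q ≤ (maximalIdeal A).map (algebraMap A (Localization.AtPrime P)))
    {L : Type u} [Field L] [Algebra (ResidueField A) L] {N : ℕ} {f : MvPowerSeries (Fin N) L}
    (hN : 0 < N) (hf : VanCyc.OrdQuadSeries f) (D : Point (ResidueField A) L O f)
    (Bh : Type u) [CommRing Bh] [IsLocalRing Bh] [Algebra (Localization.AtPrime P) Bh]
    [IsLocalHom (algebraMap (Localization.AtPrime P) Bh)]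
    [hBh : Hensel.IsHenselization (Localization.AtPrime P) Bh]
    [Algebra A Bh] [IsScalarTower A (Localization.AtPrime P) Bh] :
    ∃ (H : Type u) (_ : CommRing H) (_ : HenselianLocalRing H) (_ : Algebra A H) (x : Fin N → H)
      (hH : IsHS A H x) (F : H) (j : ResidueField H →+* L) (Z : Matrix (Fin N) (Fin N) L),
      Nonempty ((H ⧸ Ideal.span {F}) ≃ₐ[A] Bh) ∧ QuadAt hH F j Z ∧ Ord Z ∧
        (VanCyc.NondegQuadSeries f ↔ (Z + Zᵀ).det ≠ 0) := by
  classical
  haveI := hBh.henselian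
  obtain ⟨H, _, _, _, x, hH⟩ := exists_isHS A N
  let BP := Localization.AtPrime P
  let PL := MvPowerSeries (Fin N) L
  -- coordinates
  have hf2 : f ∈ PSLib.vars N L ^ 2 := (noLowTerms_iff_mem_sq f).1 hf.1
  obtain ⟨yO, θ, hyO, hθ⟩ := D.exists_coordinates hf2
  haveI : IsLocalHom q := IsLocalHom.of_surjective q hq
  have hqm : ∀ b, q b ∈ maximalIdeal O ↔ b ∈ maximalIdeal BP := fun b => by
    rw [mem_maximalIdeal, mem_nonunits_iff, isUnit_map_iff, mem_maximalIdeal, mem_nonunits_iff]
  have hyex : ∀ j, ∃ (y : B₀) (u : BP), y ∈ P ∧ IsUnit u ∧ q (algebraMap B₀ BP y) = q u * yO j := by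
    intro j
    obtain ⟨b, hb⟩ := hq (yO j)
    obtain ⟨⟨r, t⟩, hrt⟩ := IsLocalization.surj P.primeCompl b
    refine ⟨r, algebraMap B₀ BP t, ?_, IsLocalization.map_units _ t, ?_⟩
    · rw [← IsLocalization.AtPrime.to_map_mem_maximal_iff BP P, ← hqm, ← hrt, map_mul, hb]
      exact Ideal.mul_mem_right _ _ (hyO ▸ Ideal.subset_span ⟨j, rfl⟩)
    · rw [← hrt, map_mul, hb, mul_comm]
  choose y u hyP hu hyu using hyex
  -- rescale the coordinates
  let yO' : Fin N → O := fun j => q (algebraMap B₀ BP (y j))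
  have hyO' : maximalIdeal O = Ideal.span (Set.range yO') := by
    rw [hyO]
    refine le_antisymm (Ideal.span_le.2 ?_) (Ideal.span_le.2 ?_) <;> rintro _ ⟨j, rfl⟩
    · rw [SetLike.mem_coe, ← Ideal.unit_mul_mem_iff_mem _ ((hu j).map q), ← hyu]
      exact Ideal.subset_span ⟨j, rfl⟩
    · show q _ ∈ _
      rw [hyu]
      exact Ideal.mul_mem_left _ _ (Ideal.subset_span ⟨j, rfl⟩)
  have hgenP : maximalIdeal BP ≤ ((maximalIdeal A).map (algebraMap A B₀) ⊔
      Ideal.span (Set.range y)).map (algebraMap B₀ BP) := by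
    intro b hb
    rw [Ideal.map_sup, Ideal.map_map, ← IsScalarTower.algebraMap_eq, Ideal.map_span,
      ← Set.range_comp]
    have h1 : q b ∈ (Ideal.span (Set.range (algebraMap B₀ BP ∘ y))).map q := by
      rw [Ideal.map_span, ← Set.range_comp]
      exact hyO' ▸ (hqm b).2 hb
    obtain ⟨b', hb', hbb⟩ := (Ideal.mem_map_iff_of_surjective q hq).1 h1
    rw [← sub_add_cancel b b']
    exact add_mem (Submodule.mem_sup_left (hqker (by rw [RingHom.mem_ker, map_sub, hbb, sub_self])))
      (Submodule.mem_sup_right hb')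
  obtain ⟨Φ, hΦx, hΦsurj, hΦfg⟩ := hH.exists_surjective B₀ P hPA hres y hyP hgenP Bh
  -- the target power series quotient
  have hfv : f ∈ PSLib.vars N L := Ideal.pow_le_self two_ne_zero hf2
  haveI : IsLocalRing (PL ⧸ Ideal.span {f}) := PSQuad.isLocalRing_quot (by
    first
    | exact hfv
    | exact (vars_eq_maximalIdeal (L := L)) ▸ hfv)
  haveI : IsAdicComplete (maximalIdeal (PL ⧸ Ideal.span {f})) (PL ⧸ Ideal.span {f}) :=
    PSQuad.isAdicComplete_quot
  haveI := henselianLocalRing_of_complete (PL ⧸ Ideal.span {f})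
  have hQm : (PSLib.vars N L).map (Ideal.Quotient.mk (Ideal.span {f})) =
      maximalIdeal (PL ⧸ Ideal.span {f}) := by
    rw [vars_eq_maximalIdeal]
    exact IsLocalRing.map_maximalIdeal_of_surjective _ Ideal.Quotient.mk_surjective
  let π₀ : BP →+* PL ⧸ Ideal.span {f} := (D.ρ : D.T →+* _).comp (D.ι.comp q)
  have hπ₀ : IsLocalHom π₀ := isLocalHom_of_map_le _ (Ideal.map_le_iff_le_comap.2 fun b hb => by
    show D.ρ (D.ι (q b)) ∈ maximalIdeal (PL ⧸ Ideal.span {f})
    rw [← hQm]
    exact D.ρι_mem ((hqm b).2 hb))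
  obtain ⟨π, hπ, -⟩ := hBh.universal _ π₀ hπ₀
  -- `θ` adapted to the rescaled coordinates
  have hθ' : ∀ j, ∃ v : PL, IsUnit v ∧
      Ideal.Quotient.mk (Ideal.span {f}) (v * θ (MvPowerSeries.X j)) = D.ρ (D.ι (yO' j)) := by
    intro j
    obtain ⟨v, hv⟩ := Ideal.Quotient.mk_surjective (π₀ (u j))
    haveI : IsLocalHom (Ideal.Quotient.mk (Ideal.span {f})) :=
      IsLocalHom.of_surjective _ Ideal.Quotient.mk_surjective
    refine ⟨v, (isUnit_map_iff (Ideal.Quotient.mk (Ideal.span {f})) v).1 (hv ▸ (hu j).map π₀), ?_⟩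
    rw [map_mul, hθ, hv]
    show D.ρ (D.ι (q (u j))) * _ = D.ρ (D.ι (q _))
    rw [hyu, map_mul, map_mul]
  choose v hv hvθ using hθ'
  have hθm : ∀ j, θ (MvPowerSeries.X j) ∈ PSLib.vars N L := fun j => by
    have hX : (MvPowerSeries.X j : PL) ∈ maximalIdeal PL :=
      vars_eq_maximalIdeal (L := L) ▸ Ideal.subset_span ⟨j, rfl⟩
    rw [vars_eq_maximalIdeal, mem_maximalIdeal, mem_nonunits_iff]
    exact fun h => (mem_maximalIdeal _).1 hX (by simpa using h.map θ.symm)
  obtain ⟨φ, hφ⟩ := PSLib.exists_algHom (R := L) (PSLib.vars N L)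
    (fun j => v j * θ (MvPowerSeries.X j)) fun j => Ideal.mul_mem_left _ _ (hθm j)
  have hφm : ∀ j, φ (MvPowerSeries.X j) ∈ PSLib.vars N L := fun j =>
    (hφ j).symm ▸ Ideal.mul_mem_left _ _ (hθm j)
  have hφbij : Function.Bijective φ := by
    refine PSLib.bijective_of_first_order φ hφm fun m => Submodule.mem_sup_left ?_
    have h1 : Ideal.span (Set.range fun i => φ (MvPowerSeries.X i)) =
        (PSLib.vars N L).map θ.toAlgHom.toRingHom := by
      simp only [PSLib.vars, Ideal.map_span, ← Set.range_comp]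
      refine le_antisymm (Ideal.span_le.2 ?_) (Ideal.span_le.2 ?_) <;> rintro _ ⟨j, rfl⟩
      · show φ (MvPowerSeries.X j) ∈ _
        rw [hφ]
        exact Ideal.mul_mem_left _ _ (Ideal.subset_span ⟨j, rfl⟩)
      · show θ (MvPowerSeries.X j) ∈ Ideal.span (Set.range fun i => φ (MvPowerSeries.X i))
        rw [← Ideal.unit_mul_mem_iff_mem _ (hv j), ← hφ]
        exact Ideal.subset_span ⟨j, rfl⟩
    rw [h1]
    have hm : θ.symm (MvPowerSeries.X m) ∈ PSLib.vars N L := by
      have hX : (MvPowerSeries.X m : PL) ∈ maximalIdeal PL :=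
        vars_eq_maximalIdeal (L := L) ▸ Ideal.subset_span ⟨m, rfl⟩
      rw [vars_eq_maximalIdeal, mem_maximalIdeal, mem_nonunits_iff]
      exact fun h => (mem_maximalIdeal _).1 hX (by simpa using h.map θ)
    simpa using Ideal.mem_map_of_mem θ.toAlgHom.toRingHom hm
  let Θ := AlgEquiv.ofBijective φ hφbij
  have hΘ : ∀ j, Ideal.Quotient.mk (Ideal.span {f}) (Θ (MvPowerSeries.X j)) =
      D.ρ (D.ι (yO' j)) := fun j => by
    show Ideal.Quotient.mk _ (φ (MvPowerSeries.X j)) = _
    rw [hφ, hvθ]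
  -- series expansions
  obtain ⟨gk, hgka, hgkx⟩ := hH.exists_toSeries (residue A) inferInstance
  let g : H →+* PL := (MvPowerSeries.map (algebraMap (ResidueField A) L)).comp gk
  have hga : ∀ a, g (algebraMap A H a) = MvPowerSeries.C (algebraMap (ResidueField A) L (residue A a)) :=
    fun a => by simp [g, hgka]
  have hgx : ∀ i, g (x i) = MvPowerSeries.X i := fun i => by simp [g, hgkx]
  -- compatibility
  have hπA : ∀ a, π (algebraMap A Bh a) =
      Ideal.Quotient.mk (Ideal.span {f}) (MvPowerSeries.C (algebraMap _ L (residue A a))) := by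
    intro a
    rw [IsScalarTower.algebraMap_apply A BP Bh]
    refine (DFunLike.congr_fun hπ _).trans ?_
    show D.ρ (D.ι (q (algebraMap A BP a))) = _
    rw [hqA, D.ι_alg, AlgHom.commutes]
    rfl
  have hcomm : ∀ h, π (Φ h) = Ideal.Quotient.mk (Ideal.span {f}) (Θ (g h)) := by
    letI : Algebra A (PL ⧸ Ideal.span {f}) := ((π : Bh →+* _).comp (algebraMap A Bh)).toAlgebra
    let e₁ : H →ₐ[A] PL ⧸ Ideal.span {f} := AlgHom.mk (π.comp Φ.toRingHom) fun a =>
      congrArg π (Φ.commutes a)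
    let e₂ : H →ₐ[A] PL ⧸ Ideal.span {f} :=
      AlgHom.mk ((Ideal.Quotient.mk _).comp ((Θ : PL →+* PL).comp g)) fun a => by
        show Ideal.Quotient.mk _ (Θ (g (algebraMap A H a))) = π (algebraMap A Bh a)
        rw [hga, hπA, show MvPowerSeries.C _ = algebraMap L PL _ from rfl, Θ.commutes]
    have hl : IsLocalHom (algebraMap A (PL ⧸ Ideal.span {f})) := isLocalHom_of_map_le _
      (Ideal.map_le_iff_le_comap.2 fun a ha => by
        show π (algebraMap A Bh a) ∈ maximalIdeal _
        rw [hπA, (residue_eq_zero_iff a).2 ha, map_zero, map_zero, map_zero]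
        exact zero_mem _)
    have hval : ∀ i, e₁ (x i) = D.ρ (D.ι (yO' i)) := fun i => by
      show π (Φ (x i)) = _
      rw [hΦx]
      exact DFunLike.congr_fun hπ _
    intro h
    refine AlgHom.congr_fun (hH.hom_ext hl (f := e₁) (g := e₂) (fun i => ?_) fun i => ?_) h
    · rw [hval, ← hQm]
      exact D.ρι_mem (hyO' ▸ Ideal.subset_span ⟨i, rfl⟩)
    · rw [hval]
      show _ = Ideal.Quotient.mk _ (Θ (g (x i)))
      rw [hgx, hΘ]
  have hkerf : ∀ {h}, Φ h = 0 → Θ (g h) ∈ Ideal.span {f} := fun {h} hh => by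
    rw [← Ideal.Quotient.eq_zero_iff_mem, ← hcomm, hh, map_zero]
  -- a quadratic relation
  obtain ⟨Z₁, hZ₁⟩ := exists_quadSeries f hf2
  have hZ₁q : VanCyc.quadPart f = fold (Z₁.map MvPowerSeries.constantCoeff) := by
    conv_lhs => rw [hZ₁]
    exact (quadSeries_props Z₁).2
  have hOrd₁ : Ord (Z₁.map MvPowerSeries.constantCoeff) := by
    rw [← quadOrd_fold_iff, ← hZ₁q]; exact hf.2
  have hpre : Θ.symm f ∉ PSLib.vars N L ^ 3 := by
    intro hmem
    have hmap := PSLib.map_pow_le (Θ : PL →ₐ[L] PL) hφm 3 (Ideal.mem_map_of_mem _ hmem)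
    replace hmap : f ∈ PSLib.vars N L ^ 3 := by simpa using hmap
    have h0 : VanCyc.quadPart f = 0 := by
      funext i l
      rcases le_or_gt i l with h | h
      · rw [PSQuad.quadPart_apply h]
        exact PSLib.mem_pow_iff.1 hmap _ (by simp [map_add, Finsupp.degree_single])
      · simp [VanCyc.quadPart, h.ne', not_lt.2 h.le]
    obtain ⟨i⟩ := Fin.pos_iff_nonempty.1 hN
    have := hf.2 (Pi.single i 1) (by simp [VanCyc.quadEval, h0]) (by
      rw [h0]; ext a; simp [VanCyc.polarMatrix, Matrix.mulVec, dotProduct])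
    simpa using congrFun this i
  obtain ⟨p, hp⟩ := PSLib.exists_polynomial_sub_mem (Θ.symm f) 3
  have hex : ∃ d, Finsupp.degree d < 3 ∧ p.coeff d ≠ 0 := by
    by_contra hc
    simp only [not_exists, not_and, ne_eq, not_not] at hc
    refine hpre ?_
    rw [← sub_add_cancel (Θ.symm f) (p : PL)]
    refine add_mem hp (PSLib.mem_pow_iff.2 fun d hd => ?_)
    rw [MvPolynomial.coeff_coe]; exact hc d hd
  obtain ⟨d₀, hd₀, hd₀'⟩ := hex
  let p₁ : MvPolynomial (Fin N) L := MvPolynomial.C (p.coeff d₀)⁻¹ * p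
  obtain ⟨P₀, hP₀⟩ : ∃ P₀ : MvPolynomial (Fin N) A, MvPolynomial.map (residue A) P₀ = D.rPoly p₁ :=
    MvPolynomial.map_surjective _ residue_surjective _
  have hp₁ : MvPolynomial.aeval (fun l => D.ρ (D.ι (yO' l))) p₁ ∈
      (PSLib.vars N L).map (Ideal.Quotient.mk (Ideal.span {f})) ^ 3 := by
    rw [← Ideal.map_pow]
    have h1 : MvPolynomial.aeval (fun l => D.ρ (D.ι (yO' l))) p₁ =
        Ideal.Quotient.mk (Ideal.span {f}) (Θ (p₁ : PL)) := by
      conv_rhs => rw [← aeval_X_coe p₁]
      rw [show Ideal.Quotient.mk (Ideal.span {f}) (Θ (MvPolynomial.aeval MvPowerSeries.X p₁)) =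
        ((Ideal.Quotient.mkₐ L _).comp Θ.toAlgHom) (MvPolynomial.aeval MvPowerSeries.X p₁) from rfl,
        MvPolynomial.comp_aeval_apply]
      congr 2
      exact funext fun l => (hΘ l).symm
    rw [h1]
    have h2 : Θ (Θ.symm f - (p : PL)) ∈ PSLib.vars N L ^ 3 :=
      PSLib.map_pow_le (Θ : PL →ₐ[L] PL) hφm 3 (Ideal.mem_map_of_mem _ hp)
    have h3 : Ideal.Quotient.mk (Ideal.span {f}) (Θ (p : PL)) ∈
        (PSLib.vars N L ^ 3).map (Ideal.Quotient.mk (Ideal.span {f})) := by
      have h4 := Ideal.mem_map_of_mem (Ideal.Quotient.mk (Ideal.span {f})) h2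
      rw [map_sub, Θ.apply_symm_apply, map_sub,
        Ideal.Quotient.eq_zero_iff_mem.2 (Ideal.mem_span_singleton_self f), zero_sub,
        neg_mem_iff] at h4
      exact h4
    have h5 : (p₁ : PL) = MvPowerSeries.C (p.coeff d₀)⁻¹ * (p : PL) := by simp [p₁]
    rw [h5, map_mul, map_mul]
    exact Ideal.mul_mem_left _ _ h3
  have hP₀O : q (MvPolynomial.aeval (fun l => algebraMap B₀ BP (y l)) P₀) ∈ maximalIdeal O ^ 3 := by
    have h := D.aeval_rPoly_mem yO' p₁ hp₁
    rw [← hP₀, MvPolynomial.aeval_def, MvPolynomial.eval₂_map] at h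
    rw [MvPolynomial.aeval_def, MvPolynomial.eval₂_comp_left q]
    convert h using 2
    · ext a; exact hqA a
    · rfl
  obtain ⟨c, hc, hcP⟩ : ∃ c ∈ (maximalIdeal A).map (algebraMap A H) ⊔ Ideal.span (Set.range x) ^ 3,
      Φ c = Φ (MvPolynomial.aeval x P₀) := by
    refine (Ideal.mem_map_iff_of_surjective Φ hΦsurj).1 ?_
    set b := MvPolynomial.aeval (fun l => algebraMap B₀ BP (y l)) P₀ with hb
    have hb3 : b ∈ (maximalIdeal A).map (algebraMap A BP) ⊔
        Ideal.span (Set.range fun l => algebraMap B₀ BP (y l)) ^ 3 := by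
      have h1 : q b ∈ (Ideal.span (Set.range fun l => algebraMap B₀ BP (y l)) ^ 3).map q := by
        rw [Ideal.map_pow, Ideal.map_span, ← Set.range_comp]
        rw [hyO'] at hP₀O
        exact hP₀O
      obtain ⟨b', hb', hbb⟩ := (Ideal.mem_map_iff_of_surjective q hq).1 h1
      rw [← sub_add_cancel b b']
      exact add_mem (Submodule.mem_sup_left
        (hqker (by rw [RingHom.mem_ker, map_sub, hbb, sub_self]))) (Submodule.mem_sup_right hb')
    have h2 := Ideal.mem_map_of_mem (algebraMap BP Bh) hb3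
    rw [Ideal.map_sup, Ideal.map_map, ← IsScalarTower.algebraMap_eq, Ideal.map_pow, Ideal.map_span,
      ← Set.range_comp] at h2
    have h3 : Φ (MvPolynomial.aeval x P₀) = algebraMap BP Bh b := by
      rw [hb, ← IsScalarTower.coe_toAlgHom' A BP Bh, MvPolynomial.comp_aeval_apply,
        MvPolynomial.comp_aeval_apply]
      congr 2
      exact funext hΦx
    rw [h3, Ideal.map_sup, Ideal.map_pow, Ideal.map_span]
    rw [show ((maximalIdeal A).map (algebraMap A H)).map Φ = (maximalIdeal A).map (algebraMap A Bh)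
      from (Ideal.map_map (algebraMap A H) Φ.toRingHom).trans
        (congrArg (Ideal.map · _) Φ.comp_algebraMap), ← Set.range_comp,
      show (Φ : H → Bh) ∘ x = algebraMap BP Bh ∘ fun l => algebraMap B₀ BP (y l) from funext hΦx]
    exact h2
  let F : H := MvPolynomial.aeval x P₀ - c
  have hΦF : Φ F = 0 := by rw [map_sub, hcP, sub_self]
  have hgkm : ∀ {z}, z ∈ (maximalIdeal A).map (algebraMap A H) → gk z = 0 := fun {z} hz => by
    have : (maximalIdeal A).map (algebraMap A H) ≤ RingHom.ker gk :=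
      Ideal.map_le_iff_le_comap.2 fun a ha => by
        show gk (algebraMap A H a) = 0
        rw [hgka, (residue_eq_zero_iff a).2 ha, map_zero]
    exact this hz
  have hgkF : gk F - (D.rPoly p₁ : MvPolynomial (Fin N) (ResidueField A)) ∈
      PSLib.vars N (ResidueField A) ^ 3 := by
    obtain ⟨c₁, hc₁, c₂, hc₂, hcc⟩ := Submodule.mem_sup.1 hc
    rw [map_sub, IsHS.toSeries_aeval (residue A) gk hgka hgkx, hP₀, ← hcc, map_add, hgkm hc₁,
      zero_add, sub_sub_cancel_left]
    exact neg_mem (IsHS.toSeries_map_pow gk hgkx 3 (Ideal.mem_map_of_mem _ hc₂))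
  obtain ⟨w, hw⟩ := Ideal.mem_span_singleton'.1 (hkerf hΦF)
  have hwu : IsUnit w := by
    by_contra hwu
    have hwv : w ∈ PSLib.vars N L := by
      rw [vars_eq_maximalIdeal]
      exact (mem_maximalIdeal w).2 hwu
    have h1 : g F ∈ PSLib.vars N L ^ 3 := by
      have h2 : Θ (g F) ∈ PSLib.vars N L ^ 3 := by
        rw [← hw, pow_succ']
        exact Ideal.mul_mem_mul hwv hf2
      have hΘm : ∀ j, Θ.symm (MvPowerSeries.X j) ∈ PSLib.vars N L := fun j => by
        have hX : (MvPowerSeries.X j : PL) ∈ maximalIdeal PL :=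
          vars_eq_maximalIdeal (L := L) ▸ Ideal.subset_span ⟨j, rfl⟩
        rw [vars_eq_maximalIdeal, mem_maximalIdeal, mem_nonunits_iff]
        exact fun h => (mem_maximalIdeal _).1 hX (by simpa using h.map Θ)
      simpa using PSLib.map_pow_le (Θ.symm : PL →ₐ[L] PL) hΘm 3 (Ideal.mem_map_of_mem _ h2)
    have h3 : MvPowerSeries.coeff d₀ (gk F) = 1 := by
      have := PSLib.mem_pow_iff.1 hgkF d₀ hd₀
      rw [map_sub, MvPolynomial.coeff_coe, sub_eq_zero] at this
      rw [this, D.coeff_rPoly, MvPolynomial.coeff_C_mul, inv_mul_cancel₀ hd₀', D.r_one]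
    have h4 := PSLib.mem_pow_iff.1 h1 d₀ hd₀
    rw [show g F = MvPowerSeries.map (algebraMap (ResidueField A) L) (gk F) from rfl,
      MvPowerSeries.coeff_map, h3, map_one] at h4
    exact one_ne_zero h4
  -- the kernel is principal
  let rS : PL → MvPowerSeries (Fin N) (ResidueField A) := fun C d => D.r (MvPowerSeries.coeff d C)
  have hrS : ∀ C e, rS (C * MvPowerSeries.map (algebraMap (ResidueField A) L) e) = rS C * e := by
    intro C e
    ext d
    rw [MvPowerSeries.coeff_mul]
    show D.r (MvPowerSeries.coeff d _) = _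
    rw [MvPowerSeries.coeff_mul, map_sum]
    refine Finset.sum_congr rfl fun ab _ => ?_
    rw [MvPowerSeries.coeff_map, mul_comm, ← Algebra.smul_def, map_smul, smul_eq_mul, mul_comm]
    rfl
  have hrS' : ∀ e, rS (MvPowerSeries.map (algebraMap (ResidueField A) L) e) = e := by
    intro e
    ext d
    show D.r (MvPowerSeries.coeff d _) = _
    rw [MvPowerSeries.coeff_map, ← mul_one (algebraMap (ResidueField A) L _), ← Algebra.smul_def,
      map_smul, D.r_one, smul_eq_mul, mul_one]
  set 𝔞 := (maximalIdeal A).map (algebraMap A H) with h𝔞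
  have hdiv : ∀ h, Φ h = 0 → ∀ i, h ∈ (Ideal.span {F} ⊔ 𝔞) ⊔ Ideal.span (Set.range x) ^ i := by
    intro h hh i
    obtain ⟨a, ha⟩ := Ideal.mem_span_singleton'.1 (hkerf hh)
    obtain ⟨w', hw'⟩ := isUnit_iff_exists_inv'.1 hwu
    have hgh : g h = Θ.symm (a * w') * g F := by
      apply Θ.injective
      rw [map_mul, Θ.apply_symm_apply, ← hw, ← ha]
      linear_combination (-(a * f)) * hw'
    have hk : gk h = rS (Θ.symm (a * w')) * gk F := by
      rw [← hrS, show MvPowerSeries.map (algebraMap (ResidueField A) L) (gk F) = g F from rfl, ← hgh]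
      exact (hrS' _).symm
    obtain ⟨C₀, hC₀⟩ := PSLib.exists_polynomial_sub_mem (rS (Θ.symm (a * w'))) i
    obtain ⟨C', hC'⟩ := MvPolynomial.map_surjective (residue A) residue_surjective C₀
    have h1 : gk (h - MvPolynomial.aeval x C' * F) ∈ PSLib.vars N (ResidueField A) ^ i := by
      rw [map_sub, map_mul, IsHS.toSeries_aeval (residue A) gk hgka hgkx, hC', hk, ← sub_mul]
      exact Ideal.mul_mem_right _ _ hC₀
    have h2 := hH.mem_of_toSeries_mem (residue A) (fun a ha => (residue_eq_zero_iff a).1 ha) gk hgka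
      hgkx h1
    rw [← sub_add_cancel h (MvPolynomial.aeval x C' * F), sup_assoc]
    exact add_mem (Submodule.mem_sup_right h2)
      (Submodule.mem_sup_left (Ideal.mul_mem_left _ _ (Ideal.mem_span_singleton_self F)))
  have hFm : g F ∈ PSLib.vars N L ^ 2 := by
    have hΘm : ∀ j, Θ.symm (MvPowerSeries.X j) ∈ PSLib.vars N L := fun j => by
      have hX : (MvPowerSeries.X j : PL) ∈ maximalIdeal PL :=
        vars_eq_maximalIdeal (L := L) ▸ Ideal.subset_span ⟨j, rfl⟩
      rw [vars_eq_maximalIdeal, mem_maximalIdeal, mem_nonunits_iff]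
      exact fun h => (mem_maximalIdeal _).1 hX (by simpa using h.map Θ)
    have h2 : Θ (g F) ∈ PSLib.vars N L ^ 2 := hw ▸ Ideal.mul_mem_left _ _ hf2
    simpa using PSLib.map_pow_le (Θ.symm : PL →ₐ[L] PL) hΘm 2 (Ideal.mem_map_of_mem _ h2)
  -- the residue embedding
  have hgc : ∀ h ∈ maximalIdeal H, MvPowerSeries.constantCoeff (g h) = 0 := fun h hh => by
    have h1 : (Ideal.span (Set.range x)).map g ≤ PSLib.vars N L := by
      simpa using IsHS.toSeries_map_pow g hgx 1
    have h2 := PSLib.mem_vars_iff.1 (h1 (Ideal.mem_map_of_mem _ (hH.sub_eval0_mem h)))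
    rw [map_sub, map_sub, hga, (residue_eq_zero_iff _).2 ((hH.mem_maximalIdeal_iff_eval0 h).1 hh),
      map_zero, map_zero, map_zero, sub_zero] at h2
    exact h2
  let j : ResidueField H →+* L := Ideal.Quotient.lift (maximalIdeal H)
    ((MvPowerSeries.constantCoeff (σ := Fin N) (R := L)).comp g) hgc
  have hj : ∀ h, j (residue H h) = MvPowerSeries.constantCoeff (g h) := fun h => rfl
  have hFH : F ∈ maximalIdeal H := by
    rw [← residue_eq_zero_iff, ← map_eq_zero j, hj]
    exact PSLib.mem_vars_iff.1 (Ideal.pow_le_self two_ne_zero hFm)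
  have hker : RingHom.ker Φ = Ideal.span {F} := by
    refine le_antisymm ?_ ((Ideal.span_singleton_le_iff_mem _).2 hΦF)
    have hle : RingHom.ker Φ ≤ Ideal.span {F} ⊔ 𝔞 := by
      intro h hh
      haveI : IsNoetherianRing (H ⧸ 𝔞) := hH.isNoetherianRing_fibre
      haveI : IsNoetherianRing (H ⧸ (Ideal.span {F} ⊔ 𝔞)) :=
        isNoetherianRing_of_surjective (H ⧸ 𝔞) _ (Ideal.Quotient.factor le_sup_right)
          (Ideal.Quotient.factor_surjective le_sup_right)
      have h𝔞le : 𝔞 ≤ maximalIdeal H :=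
        Ideal.map_le_iff_le_comap.2 fun a ha => (hH.mem_maximalIdeal_iff a).2 ha
      have hKle : Ideal.span {F} ⊔ 𝔞 ≤ maximalIdeal H :=
        sup_le ((Ideal.span_singleton_le_iff_mem _).2 hFH) h𝔞le
      haveI : Nontrivial (H ⧸ (Ideal.span {F} ⊔ 𝔞)) := Ideal.Quotient.nontrivial_iff.2 fun h =>
        (maximalIdeal.isMaximal H).ne_top (top_le_iff.1 (h ▸ hKle))
      haveI : IsLocalRing (H ⧸ (Ideal.span {F} ⊔ 𝔞)) := .of_surjective' _ Ideal.Quotient.mk_surjective
      have hne : (Ideal.span (Set.range x)).map (Ideal.Quotient.mk (Ideal.span {F} ⊔ 𝔞)) ≠ ⊤ := by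
        intro htop
        obtain ⟨r, hr, hr1⟩ := (Ideal.mem_map_iff_of_surjective _ Ideal.Quotient.mk_surjective).1
          ((Ideal.eq_top_iff_one _).1 htop)
        rw [← map_one (Ideal.Quotient.mk (Ideal.span {F} ⊔ 𝔞)), Ideal.Quotient.eq] at hr1
        have := sub_mem (Ideal.span_le.2 (Set.range_subset_iff.2 hH.mem) hr) (hKle hr1)
        rw [sub_sub_cancel] at this
        exact (mem_maximalIdeal _).1 this isUnit_one
      rw [← Ideal.Quotient.eq_zero_iff_mem, ← Ideal.mem_bot,
        ← Ideal.iInf_pow_eq_bot_of_isLocalRing _ hne, Submodule.mem_iInf]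
      intro i
      rw [← Ideal.map_pow]
      obtain ⟨u₁, hu₁, u₂, hu₂, rfl⟩ := Submodule.mem_sup.1 (hdiv h hh i)
      rw [map_add, Ideal.Quotient.eq_zero_iff_mem.2 hu₁, zero_add]
      exact Ideal.mem_map_of_mem _ hu₂
    haveI : Module.Flat A Bh := by
      haveI := Hensel.faithfullyFlat_of_isHenselization BP Bh
      exact Module.Flat.trans A BP Bh
    refine Submodule.le_of_le_smul_of_le_jacobson_bot hΦfg (maximalIdeal_le_jacobson _) fun h hh => ?_
    obtain ⟨u₁, hu₁, u₂, hu₂, rfl⟩ := Submodule.mem_sup.1 (hle hh)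
    refine Submodule.mem_sup.2 ⟨u₁, hu₁, u₂, ?_, rfl⟩
    have hu₁' : Φ u₁ = 0 := by
      obtain ⟨d, rfl⟩ := Ideal.mem_span_singleton'.1 hu₁
      rw [map_mul, hΦF, mul_zero]
    have hu₂' : Φ u₂ = 0 := by
      have : Φ (u₁ + u₂) = 0 := hh
      rwa [map_add, hu₁', zero_add] at this
    rw [smul_eq_mul]
    refine Ideal.mul_mono_left ?_ (IsHS.mem_map_mul_ker Φ hΦsurj hu₂ hu₂')
    exact Ideal.map_le_iff_le_comap.2 fun a ha => (hH.mem_maximalIdeal_iff a).2 ha
  -- the quadratic part
  obtain ⟨M, Z', hM, hZ', hZ'c⟩ := exists_transform Θ.symm (Θ.symm w) (hwu.map _) Z₁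
  have hgF : g F = MvPowerSeries.X ⬝ᵥ (Z' *ᵥ MvPowerSeries.X) := by
    rw [← hZ', ← hZ₁, ← map_mul, hw, Θ.symm_apply_apply]
  set Z : Matrix (Fin N) (Fin N) L := Z'.map MvPowerSeries.constantCoeff with hZ
  have hc0 : MvPowerSeries.constantCoeff (Θ.symm w) ≠ 0 :=
    ((MvPowerSeries.isUnit_iff_constantCoeff).1 (hwu.map Θ.symm)).ne_zero
  have hexp : ∀ (Lf : Fin N → H) (Q : Fin N → Fin N → H),
      (∀ i, hH.proj Finset.univ (Lf i) = Lf i) →
      F = hH.proj Finset.univ F + ∑ i, Lf i * x i + ∑ i, ∑ l, Q i l * x i * x l →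
      (∀ i, j (residue H (Lf i)) = 0) ∧
        fold (Matrix.of fun i l => j (residue H (Q i l))) = fold Z := by
    intro Lf Q hL hF
    let W : Matrix (Fin N) (Fin N) PL := Matrix.of fun i l => g (Q i l)
    have hF' : g F = MvPowerSeries.C (j (residue H F)) +
        (∑ i, MvPowerSeries.C (j (residue H (Lf i))) * MvPowerSeries.X i) +
        MvPowerSeries.X ⬝ᵥ (W *ᵥ MvPowerSeries.X) := by
      have hfix : ∀ z, hH.proj Finset.univ z = z → g z = MvPowerSeries.C (j (residue H z)) := by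
        intro z hz
        rw [hH.proj_univ] at hz
        rw [hj, ← hz, hga, MvPowerSeries.constantCoeff_C]
      have hp0 : g (hH.proj Finset.univ F) = MvPowerSeries.C (j (residue H F)) := by
        rw [hH.proj_univ, hga]
        congr 1
        have : residue H F = residue H (algebraMap A H (hH.eval0 F)) := by
          rw [← sub_eq_zero, ← map_sub, residue_eq_zero_iff]
          exact hH.sub_eval0_mem_maximalIdeal F
        rw [this, hj, hga, MvPowerSeries.constantCoeff_C]
      conv_lhs => rw [hF]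
      simp only [map_add, map_sum, map_mul, hgx, hfix _ (hL _), hp0, dotProduct, mulVec,
        Finset.mul_sum, W, Matrix.of_apply]
      congr 1
      exact Finset.sum_congr rfl fun i _ => Finset.sum_congr rfl fun l _ => by ring
    obtain ⟨⟨h0, h1⟩, hqp⟩ := quadSeries_props W
    have hj0 : j (residue H F) = 0 := by
      rw [(residue_eq_zero_iff F).2 hFH, map_zero]
    rw [hj0, map_zero, zero_add] at hF'
    have hlin : ∀ i, j (residue H (Lf i)) = 0 := fun i => by
      have h2 := ((noLowTerms_iff_mem_sq (g F)).2 hFm).2 i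
      rw [hF', map_add, h1, add_zero, map_sum] at h2
      simpa [MvPowerSeries.coeff_X, Finsupp.single_eq_single_iff] using h2
    refine ⟨hlin, ?_⟩
    simp only [hlin, map_zero, zero_mul, Finset.sum_const_zero, zero_add] at hF'
    have h3 := congrArg VanCyc.quadPart (hF'.symm.trans hgF)
    rw [hqp, (quadSeries_props Z').2] at h3
    exact h3
  obtain ⟨Lf, Q, -, hLf, hF⟩ := hH.exists_expansion₂ Finset.univ F
  have hx0 : ∀ i, residue H (x i) = 0 := fun i => (residue_eq_zero_iff _).2 (hH.mem i)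
  refine ⟨H, inferInstance, inferInstance, inferInstance, x, hH, F, j, Z,
    ⟨(Ideal.quotientEquivAlgOfEq A hker.symm).trans (Ideal.quotientKerAlgEquivOfSurjective hΦsurj)⟩,
    ⟨hFH, fun i => ?_, fun Lf Q hL hF => (hexp Lf Q hL hF).2, fun i l => ?_⟩, ?_, ?_⟩
  · rw [← residue_eq_zero_iff, ← map_eq_zero j, hF, hH.proj_univ]
    simp [map_sum, hx0, apply_ite (residue H), (hexp Lf Q hLf hF).1]
  · have h := congrFun (congrFun (congrArg VanCyc.polarMatrix (hexp Lf Q hLf hF).2) i) l
    rw [polarMatrix_fold, polarMatrix_fold] at h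
    rw [← h, hF, hH.proj_univ]
    have hLd : ∀ a b, hH.pd a (Lf b) = 0 := fun a b => by
      rw [← hLf b, hH.proj_univ, Derivation.map_algebraMap]
    simp [map_sum, hx0, hLd, apply_ite (residue H), apply_ite (hH.pd l), apply_ite j,
      Finset.sum_add_distrib]
    ring
  · rw [hZ'c]
    exact hOrd₁.congr hM hc0
  · rw [hZ'c]
    have h0 : (Z₁.map MvPowerSeries.constantCoeff + (Z₁.map MvPowerSeries.constantCoeff)ᵀ).det ≠ 0 ↔
        VanCyc.NondegQuadSeries f := by
      rw [← quadNondeg_fold_iff, ← hZ₁q]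
      exact ⟨fun h => ⟨hf.1, h⟩, fun h => h.2⟩
    refine ⟨fun hnd => det_congr_ne_zero (h0.2 hnd) hM hc0, fun h => h0.1 fun hzero => h ?_⟩
    rw [(congr_transform M _ _ 0).2, Matrix.det_smul, Matrix.det_mul, Matrix.det_mul, hzero]
    ring

end Groth.Agent.HensMorse
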