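import Groth.Agent.HensMorse.NormalForm
import Groth.Agent.HensMorse.Presentation
import Mathlib.FieldTheory.IsAlgClosed.Basic

/-!
# Normal forms of a series from its quadratic part
-/

noncomputable section

namespace Groth.Agent.HensMorse

open IsLocalRing Matrix

universe u

variable {A : Type u} [CommRing A] [HenselianLocalRing A] {H : Type u} [CommRing H]
  [HenselianLocalRing H] [Algebra A H]

theorem quad_subst {R : Type u} [CommRing R] {N : ℕ} (Q G : Fin N → Fin N → R) (x : Fin N → R) :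
    ∑ i, ∑ l, Q i l * (∑ a, G i a * x a) * (∑ b, G l b * x b) =
      ∑ a, ∑ b, (∑ i, ∑ l, Q i l * G i a * G l b) * x a * x b := by
  have h1 : ∀ i l, Q i l * (∑ a, G i a * x a) * (∑ b, G l b * x b) =
      ∑ a, ∑ b, Q i l * G i a * G l b * x a * x b := by
    intro i l
    rw [mul_assoc, Finset.sum_mul_sum, Finset.mul_sum]
    refine Finset.sum_congr rfl fun a _ => ?_
    rw [Finset.mul_sum]
    exact Finset.sum_congr rfl fun b _ => by ring
  simp only [h1, Finset.sum_mul]
  calc
    _ = ∑ i, ∑ a, ∑ l, ∑ b, Q i l * G i a * G l b * x a * x b :=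
      Finset.sum_congr rfl fun i _ => Finset.sum_comm
    _ = ∑ a, ∑ i, ∑ l, ∑ b, Q i l * G i a * G l b * x a * x b := Finset.sum_comm
    _ = ∑ a, ∑ i, ∑ b, ∑ l, Q i l * G i a * G l b * x a * x b :=
      Finset.sum_congr rfl fun a _ => Finset.sum_congr rfl fun i _ => Finset.sum_comm
    _ = _ := Finset.sum_congr rfl fun a _ => Finset.sum_comm

namespace IsHS

variable {N : ℕ} {x : Fin N → H} (hH : IsHS A H x)

include hH

theorem residue_pd_pd (h : H) (Lf : Fin N → H) (Q : Fin N → Fin N → H)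
    (hL : ∀ i, hH.proj Finset.univ (Lf i) = Lf i)
    (hh : h = hH.proj Finset.univ h + ∑ i, Lf i * x i + ∑ i, ∑ l, Q i l * x i * x l)
    (i l : Fin N) :
    residue H (hH.pd l (hH.pd i h)) = residue H (Q i l) + residue H (Q l i) := by
  have hx0 : ∀ i, residue H (x i) = 0 := fun i => (residue_eq_zero_iff _).2 (hH.mem i)
  have hLd : ∀ a b, hH.pd a (Lf b) = 0 := fun a b => by
    rw [← hL b, hH.proj_univ, Derivation.map_algebraMap]
  rw [hh, hH.proj_univ]
  simp [map_sum, hx0, hLd, apply_ite (residue H), apply_ite (hH.pd l), Finset.sum_add_distrib,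
    add_comm]

theorem proj_univ_idem (h : H) :
    hH.proj Finset.univ (hH.proj Finset.univ h) = hH.proj Finset.univ h := by
  rw [hH.proj_univ h, AlgHom.commutes]

/-- Linear substitutions. -/
theorem exists_linear (G : Matrix (Fin N) (Fin N) (ResidueField H)) (hG : IsUnit G.det) :
    ∃ (ω : H ≃ₐ[A] H) (G' : Matrix (Fin N) (Fin N) A),
      (∀ i l, residue H (algebraMap A H (G' i l)) = G i l) ∧
      ∀ i, ω (x i) = ∑ l, algebraMap A H (G' i l) * x l := by
  choose G' hG' using fun i l => hH.exists_residue_lift (G i l)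
  obtain ⟨ω, hω⟩ := hH.exists_automorphism (fun i => ∑ l, algebraMap A H (G' i l) * x l)
    (fun i => Ideal.sum_mem _ fun l _ => Ideal.mul_mem_left _ _ (hH.mem l)) (by
      rw [show hH.jac (fun i => ∑ l, algebraMap A H (G' i l) * x l) = G from ?_]
      · exact hG
      ext i j
      simp [jac, map_sum, ← hG', apply_ite (residue H)])
  exact ⟨ω, Matrix.of G', hG', hω⟩

end IsHS

section classify

variable {L : Type u} [Field L]

theorem QuadAt.isUnit_jac {N : ℕ} {x : Fin N → H} {hH : IsHS A H x} {F : H}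
    {j : ResidueField H →+* L} {Z : Matrix (Fin N) (Fin N) L} (h : QuadAt hH F j Z)
    (hdet : (Z + Zᵀ).det ≠ 0) : IsUnit (hH.jac fun i => hH.pd i F).det := by
  rw [isUnit_iff_ne_zero, ← map_ne_zero j, RingHom.map_det]
  convert hdet
  ext i l
  exact h.2.2.2 i l

/-- A degenerate ordinary quadratic part gives the degenerate normal form. -/
theorem QuadAt.exists_normalForm [IsAlgClosed L] {r : ℕ} {x : Fin (r + 1) → H} {hH : IsHS A H x}
    {F : H} {j : ResidueField H →+* L} {Z : Matrix (Fin (r + 1)) (Fin (r + 1)) L}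
    (h : QuadAt hH F j Z) (hOrd : Ord Z) (hdet : (Z + Zᵀ).det = 0) :
    ∃ (a' : Fin r → Fin r → A) (b c : A) (φ : H ≃ₐ[A] H) (u : H), VanCyc.QuadNondeg a' ∧
      b ∈ maximalIdeal A ∧ c ∈ maximalIdeal A ∧ IsUnit u ∧
      φ F = u * (x 0 ^ 2 + algebraMap A H b * x 0 + algebraMap A H c +
        MvPolynomial.aeval (x ∘ Fin.succ) (VanCyc.quadPoly a')) := by
  classical
  obtain ⟨hF, hd, hexp, hpp⟩ := h
  obtain ⟨Lf, Q, -, hLf, hFe⟩ := hH.exists_expansion₂ Finset.univ F
  set q : Matrix (Fin (r + 1)) (Fin (r + 1)) (ResidueField H) :=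
    Matrix.of fun i l => residue H (Q i l) with hq
  have hfold : fold (q.map j) = fold Z := hexp Lf Q hLf hFe
  have hOq : Ord (q.map j) := by
    rw [← quadOrd_fold_iff, hfold, quadOrd_fold_iff]; exact hOrd
  have hSj : (q + qᵀ).map j = Z + Zᵀ := by
    rw [← polarMatrix_fold Z, ← hfold, polarMatrix_fold]
    ext i l; simp
  -- a null vector of the Hessian
  obtain ⟨v₀, hv₀, hSv₀⟩ : ∃ v₀ ≠ 0, (q + qᵀ) *ᵥ v₀ = 0 := Matrix.exists_mulVec_eq_zero_iff.2 (by
    rw [← map_eq_zero j, RingHom.map_det, RingHom.mapMatrix_apply, hSj]; exact hdet)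
  obtain ⟨i₀, hi₀⟩ := Function.ne_iff.1 hv₀
  set G : Matrix (Fin (r + 1)) (Fin (r + 1)) (ResidueField H) :=
    ((1 : Matrix (Fin (r + 1)) (Fin (r + 1)) _).updateCol i₀ v₀).submatrix id (Equiv.swap 0 i₀)
    with hGdef
  have hG : IsUnit G.det := by
    rw [hGdef, Matrix.det_permute', isUnit_iff_ne_zero]
    refine mul_ne_zero ?_ ?_
    · rcases Int.units_eq_one_or (Equiv.Perm.sign (Equiv.swap (0 : Fin (r + 1)) i₀)) with h | h <;>
        simp [h]
    · rw [← Matrix.cramer_apply, Matrix.cramer_one]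
      exact hi₀
  have hG0 : ∀ i, G i 0 = v₀ i := fun i => by simp [hGdef]
  have hSG : ∀ i, ((q + qᵀ) * G) i 0 = 0 := fun i => by
    rw [Matrix.mul_apply]
    simp only [hG0]
    exact congrFun hSv₀ i
  -- change the coordinates
  obtain ⟨ω, G', hG', hω⟩ := hH.exists_linear G hG
  have hωm : ∀ i, ω (x i) ∈ maximalIdeal H := fun i => by
    rw [hω]; exact Ideal.sum_mem _ fun l _ => Ideal.mul_mem_left _ _ (hH.mem l)
  have hx0 : ∀ i, residue H (x i) = 0 := fun i => (residue_eq_zero_iff _).2 (hH.mem i)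
  have hp : hH.proj Finset.univ (ω F) = hH.proj Finset.univ F := by
    rw [hH.proj_univ, hH.proj_univ]
    refine congrArg _ (AlgHom.congr_fun (hH.hom_ext (T := A) ⟨fun _ h => h⟩
      (f := hH.eval0.comp ω.toAlgHom) (g := hH.eval0) (fun i => ?_) fun i => ?_) F)
    · simp [hω, map_sum]
    · simp [hω, map_sum]
  have hωc : ∀ y, hH.proj Finset.univ y = y → ω y = y := fun y hy => by
    rw [← hy, hH.proj_univ, AlgEquiv.commutes]
  let Lf' : Fin (r + 1) → H := fun l => ∑ i, Lf i * algebraMap A H (G' i l)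
  let Q' : Fin (r + 1) → Fin (r + 1) → H := fun a b =>
    ∑ i, ∑ l, ω (Q i l) * algebraMap A H (G' i a) * algebraMap A H (G' l b)
  have hL' : ∀ i, hH.proj Finset.univ (Lf' i) = Lf' i := fun i => by simp [Lf', map_sum, hLf]
  have hFe' : ω F = hH.proj Finset.univ (ω F) + ∑ i, Lf' i * x i +
      ∑ a, ∑ b, Q' a b * x a * x b := by
    conv_lhs => rw [hFe]
    rw [hp]
    simp only [map_add, map_sum, map_mul, hωc _ (hLf _), hωc _ (hH.proj_univ_idem F), hω, Lf']
    rw [quad_subst]
    congr 2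
    simp only [Finset.sum_mul, Finset.mul_sum, mul_assoc]
    exact Finset.sum_comm
  set q' : Matrix (Fin (r + 1)) (Fin (r + 1)) (ResidueField H) :=
    Matrix.of fun a b => residue H (Q' a b) with hq'
  have hq'G : q' = Gᵀ * q * G := by
    ext a b
    simp only [hq', Matrix.of_apply, Q', map_sum, map_mul, hG',
      hH.residue_endo ω.toAlgHom hωm, Matrix.mul_apply, Matrix.transpose_apply, Finset.sum_mul]
    rw [Finset.sum_comm]
    refine Finset.sum_congr rfl fun i _ => Finset.sum_congr rfl fun l _ => ?_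
    rw [show residue H (ω (Q l i)) = residue H (Q l i) from hH.residue_endo ω.toAlgHom hωm _]
    simp only [hq, Matrix.of_apply]
    ring
  have hS'G : q' + q'ᵀ = Gᵀ * ((q + qᵀ) * G) := by
    rw [hq'G, Matrix.transpose_mul, Matrix.transpose_mul, Matrix.transpose_transpose,
      Matrix.add_mul, Matrix.mul_add, Matrix.mul_assoc]
  have hS'0 : ∀ i, (q' + q'ᵀ) i 0 = 0 := fun i => by
    rw [hS'G, Matrix.mul_apply]
    exact Finset.sum_eq_zero fun l _ => by rw [hSG, mul_zero]
  have hS'0' : ∀ i, (q' + q'ᵀ) 0 i = 0 := fun i => by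
    rw [← hS'0 i]
    simp [Matrix.add_apply, add_comm]
  have hpp' : ∀ i l, residue H (hH.pd l (hH.pd i (ω F))) = (q' + q'ᵀ) i l := fun i l =>
    hH.residue_pd_pd (ω F) Lf' Q' hL' hFe' i l
  set M := G.map j with hM
  have hMdet : IsUnit M.det := by
    rw [hM, show (G.map j).det = j G.det from (RingHom.map_det j G).symm]
    exact hG.map j
  have hOq' : Ord (q'.map j) := by
    have := hOq.congr hMdet (one_ne_zero (α := L))
    rwa [one_smul, hM, ← Matrix.transpose_map, ← Matrix.map_mul, ← Matrix.map_mul, ← hq'G] at this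
  have hQ00 : residue H (Q' 0 0) ≠ 0 := by
    intro h0
    have h1 := hOq' (Pi.single 0 1) (by
      rw [single_dotProduct, mulVec_single_one, one_mul]
      show j (q' 0 0) = 0
      rw [hq', Matrix.of_apply, h0, map_zero]) (by
      ext i
      rw [mulVec_single_one]
      show j (q' i 0) + j (q' 0 i) = 0
      rw [← map_add, show q' i 0 + q' 0 i = 0 from hS'0 i, map_zero])
    simpa using congrFun h1 0
  have hd' : ∀ i, hH.pd i (ω F) ∈ maximalIdeal H := fun i => by
    rw [← residue_eq_zero_iff]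
    refine (hH.residue_pd_endo ω.toAlgHom hωm i F).trans (Finset.sum_eq_zero fun l _ => ?_)
    rw [(residue_eq_zero_iff _).2 (hd l), zero_mul]
  have hJ : IsUnit ((hH.jac fun i => hH.pd i (ω F)).submatrix Fin.succ Fin.succ).det := by
    rw [isUnit_iff_ne_zero]
    intro h0
    obtain ⟨w, hw, hsub⟩ := Matrix.exists_mulVec_eq_zero_iff.2 h0
    have hsub' : ∀ i : Fin r, ∑ l : Fin r, (q' + q'ᵀ) i.succ l.succ * w l = 0 := fun i => by
      have := congrFun hsub i
      simpa [mulVec, dotProduct, IsHS.jac, hpp'] using this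
    set Z' := q'.map j with hZ'
    obtain ⟨t, ht⟩ := IsAlgClosed.exists_pow_nat_eq
      (-(∑ i : Fin r, ∑ l : Fin r, j (w i) * (Z' i.succ l.succ * j (w l))) / Z' 0 0) (n := 2)
      two_pos
    have hZ00 : Z' 0 0 ≠ 0 := by
      show j (q' 0 0) ≠ 0
      rw [map_ne_zero]
      exact hQ00
    let y : Fin (r + 1) → L := Fin.cons t fun l => j (w l)
    have hanti : ∀ l, Z' 0 l + Z' l 0 = 0 := fun l => by
      show j (q' 0 l) + j (q' l 0) = 0
      rw [← map_add, show q' 0 l + q' l 0 = 0 from hS'0' l, map_zero]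
    have hy0 := hOq' y ?_ ?_
    · refine hw (funext fun l => ?_)
      have := congrFun hy0 l.succ
      simpa [y] using this
    · rw [eq_div_iff hZ00] at ht
      have hcross : ∑ l : Fin r, t * (Z' 0 l.succ * j (w l)) +
          ∑ i : Fin r, j (w i) * (Z' i.succ 0 * t) = 0 := by
        rw [← Finset.sum_add_distrib]
        refine Finset.sum_eq_zero fun l _ => ?_
        linear_combination (t * j (w l)) * hanti l.succ
      simp only [dotProduct, mulVec, Fin.sum_univ_succ, y, Fin.cons_zero, Fin.cons_succ, mul_add,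
        Finset.mul_sum, Finset.sum_add_distrib]
      linear_combination hcross + ht
    · ext i
      simp only [mulVec, dotProduct, Fin.sum_univ_succ, y, Fin.cons_zero, Fin.cons_succ,
        Matrix.add_apply, Matrix.transpose_apply, Pi.zero_apply]
      refine Fin.cases ?_ (fun i => ?_) i
      · rw [hanti, zero_mul, zero_add]
        exact Finset.sum_eq_zero fun l _ => by rw [hanti, zero_mul]
      · rw [add_comm (Z' i.succ 0), hanti, zero_mul, zero_add]
        have := congrArg j (hsub' i)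
        simp only [map_sum, map_mul, Matrix.add_apply, Matrix.transpose_apply, map_add,
          map_zero] at this
        exact this
  have hF' : ω F ∈ maximalIdeal H := hH.map_mem_maximalIdeal hH.isLocalHom ω.toAlgHom hωm hF
  obtain ⟨a', b, c, φ, u, ha', hb, hc, hu, he⟩ := hH.exists_normalForm_deg (ω F) hF' hd'
    (fun i => by rw [hpp']; exact hS'0 i) hJ Lf' Q' hL' hFe' hQ00
  exact ⟨a', b, c, ω.trans φ, u, ha', hb, hc, hu, he⟩

end classify

end Groth.Agent.HensMorse
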