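import Groth.Agent.HensMorse.Series

/-!
# Coordinates on the closed fibre at a quadratic point
-/

noncomputable section

namespace Groth.Agent.HensMorse

open IsLocalRing Matrix

universe u

/-- Comparison data between a local `k`-algebra `O` and a power series quotient over an extension
`L` of `k`: `T` receives `O` and retracts to it `k`-linearly. -/
structure Point (k L : Type u) [Field k] [Field L] [Algebra k L] (O : Type u) [CommRing O]
    [IsLocalRing O] [Algebra k O] {N : ℕ} (f : MvPowerSeries (Fin N) L) where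
  T : Type u
  [inst : CommRing T]
  [alg : Algebra L T]
  ι : O →+* T
  r : L →ₗ[k] k
  r_one : r 1 = 1
  rT : T →+ O
  rT_smul : ∀ (a : L) (o : O), rT (algebraMap L T a * ι o) = o * algebraMap k O (r a)
  rT_mul : ∀ (o : O) (t : T), rT (ι o * t) = o * rT t
  ι_alg : ∀ c : k, ι (algebraMap k O c) = algebraMap L T (algebraMap k L c)
  ρ : T →ₐ[L] MvPowerSeries (Fin N) L ⧸ Ideal.span {f}
  map_eq : ((maximalIdeal O).map ι).map ρ =
    (PSLib.vars N L).map (Ideal.Quotient.mk (Ideal.span {f}))
  mem_pow : ∀ (i : ℕ) (t : T),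
    ρ t ∈ (PSLib.vars N L).map (Ideal.Quotient.mk (Ideal.span {f})) ^ i →
      t ∈ ((maximalIdeal O).map ι) ^ i

attribute [instance] Point.inst Point.alg

namespace Point

variable {k L : Type u} [Field k] [Field L] [Algebra k L] {O : Type u} [CommRing O] [IsLocalRing O]
  [Algebra k O] {N : ℕ} {f : MvPowerSeries (Fin N) L} (D : Point k L O f)

/-- Apply the retraction to the coefficients. -/
def rPoly {σ : Type} (p : MvPolynomial σ L) : MvPolynomial σ k :=
  ∑ d ∈ p.support, MvPolynomial.monomial d (D.r (p.coeff d))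

theorem coeff_rPoly {σ : Type} (p : MvPolynomial σ L) (d : σ →₀ ℕ) :
    (D.rPoly p).coeff d = D.r (p.coeff d) := by
  classical
  simp only [rPoly, MvPolynomial.coeff_sum, MvPolynomial.coeff_monomial, Finset.sum_ite_eq']
  split_ifs with h
  · rfl
  · rw [MvPolynomial.notMem_support_iff.1 h, map_zero]

theorem rT_mem {i : ℕ} {t : D.T} (ht : t ∈ ((maximalIdeal O).map D.ι) ^ i) :
    D.rT t ∈ maximalIdeal O ^ i := by
  rw [← Ideal.map_pow] at ht
  suffices ∀ s : D.T, D.rT (s * t) ∈ maximalIdeal O ^ i by simpa using this 1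
  refine Submodule.span_induction (p := fun z _ => ∀ s, D.rT (s * z) ∈ maximalIdeal O ^ i)
    ?_ ?_ ?_ ?_ ht
  · rintro _ ⟨o, ho, rfl⟩ s
    rw [mul_comm, D.rT_mul]
    exact Ideal.mul_mem_right _ _ ho
  · intro s; simp
  · intro a b _ _ ha hb s
    rw [mul_add, map_add]
    exact add_mem (ha s) (hb s)
  · intro c a _ ha s
    rw [smul_eq_mul, ← mul_assoc]
    exact ha _

/-- A relation over `L` to order `i` gives one over `k`. -/
theorem aeval_rPoly_mem {σ : Type} (z : σ → O) (p : MvPolynomial σ L) {i : ℕ}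
    (h : MvPolynomial.aeval (fun l => D.ρ (D.ι (z l))) p ∈
      (PSLib.vars N L).map (Ideal.Quotient.mk (Ideal.span {f})) ^ i) :
    MvPolynomial.aeval z (D.rPoly p) ∈ maximalIdeal O ^ i := by
  rw [← MvPolynomial.comp_aeval_apply] at h
  have h1 := D.rT_mem (D.mem_pow i _ h)
  convert h1 using 1
  conv_rhs => rw [p.as_sum]
  simp only [rPoly, map_sum, MvPolynomial.aeval_monomial]
  refine Finset.sum_congr rfl fun d _ => ?_
  rw [show (d.prod fun a n => D.ι (z a) ^ n) = D.ι (d.prod fun a n => z a ^ n) by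
    simp [Finsupp.prod, map_prod], D.rT_smul, mul_comm]

theorem ρι_mem {o : O} (ho : o ∈ maximalIdeal O) :
    D.ρ (D.ι o) ∈ (PSLib.vars N L).map (Ideal.Quotient.mk (Ideal.span {f})) := by
  rw [← D.map_eq]
  exact Ideal.mem_map_of_mem _ (Ideal.mem_map_of_mem _ ho)

/-- The linear coefficients. -/
def lin (g : MvPowerSeries (Fin N) L) : Fin N → L :=
  fun j => MvPowerSeries.coeff (Finsupp.single j 1) g

theorem lin_mul {w : MvPowerSeries (Fin N) L} (g : MvPowerSeries (Fin N) L)
    (hw : w ∈ PSLib.vars N L) : lin (g * w) = MvPowerSeries.constantCoeff g • lin w := by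
  funext j
  have h : (g - MvPowerSeries.C (MvPowerSeries.constantCoeff g)) * w ∈ PSLib.vars N L ^ 2 := by
    rw [sq]
    refine Ideal.mul_mem_mul ?_ hw
    rw [PSLib.mem_vars_iff]; simp
  have h2 := PSLib.mem_pow_iff.1 h (Finsupp.single j 1) (by simp [Finsupp.degree_single])
  rw [sub_mul, map_sub, MvPowerSeries.coeff_C_mul, sub_eq_zero] at h2
  exact h2

theorem lin_sq {g : MvPowerSeries (Fin N) L} (hg : g ∈ PSLib.vars N L ^ 2) : lin g = 0 :=
  funext fun j => PSLib.mem_pow_iff.1 hg _ (by simp [Finsupp.degree_single])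

theorem mem_sq_of_lin_eq_zero {g : MvPowerSeries (Fin N) L} (hg : g ∈ PSLib.vars N L)
    (h : lin g = 0) : g ∈ PSLib.vars N L ^ 2 := by
  rw [← noLowTerms_iff_mem_sq]
  exact ⟨PSLib.mem_vars_iff.1 hg, congrFun h⟩

theorem lin_span {s : ℕ} (c : Fin s → MvPowerSeries (Fin N) L) {w : Fin s → MvPowerSeries (Fin N) L}
    (hw : ∀ l, w l ∈ PSLib.vars N L) :
    lin (∑ l, c l * w l) = ∑ l, MvPowerSeries.constantCoeff (c l) • lin (w l) := by
  simp only [← lin_mul _ (hw _)]
  funext j
  simp [lin]

/-- Coordinates: generators of the maximal ideal mapping to a system of variables. -/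
theorem exists_coordinates [IsNoetherianRing O] (hf : f ∈ PSLib.vars N L ^ 2) :
    ∃ (y : Fin N → O) (θ : MvPowerSeries (Fin N) L ≃ₐ[L] MvPowerSeries (Fin N) L),
      maximalIdeal O = Ideal.span (Set.range y) ∧
      ∀ j, Ideal.Quotient.mk (Ideal.span {f}) (θ (MvPowerSeries.X j)) = D.ρ (D.ι (y j)) := by
  classical
  obtain ⟨s, z, hz⟩ := Submodule.fg_iff_exists_fin_generating_family.1
    (IsNoetherian.noetherian (maximalIdeal O))
  replace hz : Ideal.span (Set.range z) = maximalIdeal O := hz
  have hzm : ∀ l, z l ∈ maximalIdeal O := fun l => hz ▸ Ideal.subset_span ⟨l, rfl⟩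
  set Qm := (PSLib.vars N L).map (Ideal.Quotient.mk (Ideal.span {f})) with hQm
  have hlift : ∀ l, ∃ w ∈ PSLib.vars N L, Ideal.Quotient.mk _ w = D.ρ (D.ι (z l)) := fun l =>
    (Ideal.mem_map_iff_of_surjective _ Ideal.Quotient.mk_surjective).1 (D.ρι_mem (hzm l))
  choose w hwm hw using hlift
  have hspan : Submodule.span L (Set.range fun l => lin (w l)) = ⊤ := by
    rw [eq_top_iff]
    intro v _
    have key : ∀ j, Pi.single j 1 ∈ Submodule.span L (Set.range fun l => lin (w l)) := by
      intro j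
      have h1 : Qm ≤ (Ideal.span (Set.range w)).map (Ideal.Quotient.mk (Ideal.span {f})) := by
        rw [hQm, ← D.map_eq, ← hz]
        simp only [Ideal.map_span, ← Set.range_comp]
        refine (Ideal.span_le.2 ?_)
        rintro _ ⟨l, rfl⟩
        exact Ideal.subset_span ⟨l, hw l⟩
      obtain ⟨g, hg, hge⟩ := (Ideal.mem_map_iff_of_surjective _ Ideal.Quotient.mk_surjective).1
        (h1 (Ideal.mem_map_of_mem _ (Ideal.subset_span ⟨j, rfl⟩)))
      obtain ⟨c, hc⟩ := Ideal.mem_span_range_iff_exists_fun.1 hg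
      have hsq : (MvPowerSeries.X j : MvPowerSeries (Fin N) L) - g ∈ PSLib.vars N L ^ 2 :=
        (Ideal.span_singleton_le_iff_mem _).2 hf ((Ideal.Quotient.eq).1 hge.symm)
      have h3 := lin_sq hsq
      have h4 : lin (MvPowerSeries.X j : MvPowerSeries (Fin N) L) = Pi.single j 1 := by
        funext i
        simp [lin, MvPowerSeries.coeff_X, Pi.single_apply, Finsupp.single_eq_single_iff]
      have h5 : lin g = Pi.single j 1 := by
        rw [← h4]
        funext i
        have := congrFun h3 i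
        simp only [lin, map_sub, Pi.zero_apply, sub_eq_zero] at this
        exact this.symm
      rw [← h5, ← hc, lin_span c hwm]
      exact Submodule.sum_mem _ fun l _ => Submodule.smul_mem _ _ (Submodule.subset_span ⟨l, rfl⟩)
    rw [pi_eq_sum_univ' v]
    exact Submodule.sum_mem _ fun j _ => by
      convert Submodule.smul_mem _ (v j) (key j) using 1
  obtain ⟨b, hb, hbspan, hbli⟩ := exists_linearIndependent L (Set.range fun l => lin (w l))
  rw [hspan] at hbspan
  let B : Module.Basis b L (Fin N → L) := Module.Basis.mk hbli (by rw [Subtype.range_coe, hbspan])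
  haveI : Fintype b := FiniteDimensional.fintypeBasisIndex B
  have hcard : Fintype.card b = N := by
    rw [← Module.finrank_eq_card_basis B, Module.finrank_fin_fun]
  let e : Fin N ≃ b := (Fintype.equivFinOfCardEq hcard).symm
  choose S hS using fun j => hb (e j).2
  replace hS : ∀ j, lin (w (S j)) = (e j : Fin N → L) := hS
  have hsp : ∀ v : Fin N → L, ∃ c : Fin N → L, v = ∑ j, c j • lin (w (S j)) := fun v => by
    refine ⟨fun j => B.repr v (e j), ?_⟩
    conv_lhs => rw [← B.sum_repr v]
    rw [← e.sum_comp]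
    exact Finset.sum_congr rfl fun j _ => by
      rw [hS, show B (e j) = (e j : Fin N → L) from Module.Basis.mk_apply _ _ _]
  have happrox : ∀ {g}, g ∈ PSLib.vars N L → ∃ c : Fin N → L,
      g - ∑ j, MvPowerSeries.C (c j) * w (S j) ∈ PSLib.vars N L ^ 2 := by
    intro g hg
    obtain ⟨c, hc⟩ := hsp (lin g)
    refine ⟨c, mem_sq_of_lin_eq_zero
      (sub_mem hg (Ideal.sum_mem _ fun j _ => Ideal.mul_mem_left _ _ (hwm _))) ?_⟩
    funext i
    have := congrFun hc i
    simp only [lin, map_sub, map_sum, MvPowerSeries.coeff_C_mul, Finset.sum_apply, Pi.smul_apply,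
      smul_eq_mul, Pi.zero_apply] at this ⊢
    rw [this, sub_self]
  refine ⟨fun j => z (S j), ?_⟩
  have hgen : maximalIdeal O = Ideal.span (Set.range fun j => z (S j)) := by
    refine le_antisymm ?_ (Ideal.span_le.2 (Set.range_subset_iff.2 fun j => hzm _))
    refine Submodule.le_of_le_smul_of_le_jacobson_bot (IsNoetherian.noetherian _)
      (maximalIdeal_le_jacobson _) ?_
    rw [smul_eq_mul, ← sq]
    conv_lhs => rw [← hz]
    rw [Ideal.span_le]
    rintro _ ⟨l, rfl⟩
    obtain ⟨c, hc⟩ := happrox (hwm l)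
    let p : MvPolynomial (Fin s) L :=
      MvPolynomial.X l - ∑ j, MvPolynomial.C (c j) * MvPolynomial.X (S j)
    have h := D.aeval_rPoly_mem z p (i := 2) (by
      rw [← Ideal.map_pow]
      convert Ideal.mem_map_of_mem (Ideal.Quotient.mk (Ideal.span {f})) hc using 1
      simp only [p, map_sub, map_sum, map_mul, MvPolynomial.aeval_X, MvPolynomial.aeval_C, hw]
      rfl)
    have hr : D.rPoly p =
        MvPolynomial.X l - ∑ j, MvPolynomial.C (D.r (c j)) * MvPolynomial.X (S j) := by
      ext d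
      simp only [coeff_rPoly, p, MvPolynomial.coeff_sub, MvPolynomial.coeff_sum, map_sub, map_sum,
        MvPolynomial.coeff_C_mul, MvPolynomial.coeff_X']
      congr 1
      · split_ifs
        exacts [D.r_one, map_zero _]
      · refine Finset.sum_congr rfl fun j _ => ?_
        split_ifs <;> simp
    rw [hr] at h
    simp only [map_sub, map_sum, map_mul, MvPolynomial.aeval_X, MvPolynomial.aeval_C] at h
    rw [SetLike.mem_coe, ← sub_add_cancel (z l) (∑ j, algebraMap k O (D.r (c j)) * z (S j))]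
    refine add_mem (Submodule.mem_sup_right h) (Submodule.mem_sup_left ?_)
    exact Ideal.sum_mem _ fun j _ => Ideal.mul_mem_left _ _ (Ideal.subset_span ⟨j, rfl⟩)
  obtain ⟨φ, hφ⟩ := PSLib.exists_algHom (R := L) (PSLib.vars N L) (fun j => w (S j)) fun j => hwm _
  have hφm : ∀ j, φ (MvPowerSeries.X j) ∈ PSLib.vars N L := fun j => (hφ j).symm ▸ hwm _
  have hbij := PSLib.bijective_of_first_order φ hφm fun m => by
    obtain ⟨c, hc⟩ := happrox (g := MvPowerSeries.X m) (Ideal.subset_span ⟨m, rfl⟩)
    rw [← sub_add_cancel (MvPowerSeries.X m) (∑ j, MvPowerSeries.C (c j) * w (S j))]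
    refine add_mem (Submodule.mem_sup_right hc) (Submodule.mem_sup_left ?_)
    exact Ideal.sum_mem _ fun j _ => Ideal.mul_mem_left _ _ (Ideal.subset_span ⟨j, hφ j⟩)
  refine ⟨AlgEquiv.ofBijective φ hbij, hgen, fun j => ?_⟩
  show Ideal.Quotient.mk _ (φ (MvPowerSeries.X j)) = _
  rw [hφ, hw]

end Point

end Groth.Agent.HensMorse
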