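import Groth.Agent.HensMorse.Inverse

/-!
# The henselization at the origin of `A[x]/(p)` as a quotient of the henselian series ring
-/

noncomputable section

namespace Groth.Agent.HensMorse

open IsLocalRing MvPolynomial

universe u

variable {A : Type u} [CommRing A] [HenselianLocalRing A] {H : Type u} [CommRing H]
  [HenselianLocalRing H] [Algebra A H] {N : ℕ} {x : Fin N → H} (hH : IsHS A H x)

namespace IsHS

include hH

theorem mem_maximalIdeal_of_mem_originIdeal {p : MvPolynomial (Fin N) A}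
    (hp : p ∈ VanCyc.originIdeal A (N := N)) : aeval x p ∈ maximalIdeal H := by
  have : VanCyc.originIdeal A (N := N) ≤ (maximalIdeal H).comap (aeval x).toRingHom := by
    refine sup_le (Ideal.map_le_iff_le_comap.2 fun a ha => ?_) (Ideal.span_le.2 ?_)
    · simp only [Ideal.mem_comap, AlgHom.toRingHom_eq_coe, RingHom.coe_coe, aeval_C]
      exact (hH.mem_maximalIdeal_iff a).2 ha
    · rintro _ ⟨i, rfl⟩
      simpa using hH.mem i
  exact this hp

/-- A henselization of `(A[x]/(p))_Q`, `Q` the origin, is `H ⧸ (p)`. -/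
theorem nonempty_algEquiv_model (p : MvPolynomial (Fin N) A)
    (Q : Ideal (MvPolynomial (Fin N) A ⧸ Ideal.span {p})) [Q.IsPrime]
    (hQA : ∀ a ∈ maximalIdeal A, Ideal.Quotient.mk (Ideal.span {p}) (MvPolynomial.C a) ∈ Q)
    (hQX : ∀ i, Ideal.Quotient.mk (Ideal.span {p}) (X i) ∈ Q)
    (C : Type u) [CommRing C] [IsLocalRing C] [Algebra (Localization.AtPrime Q) C]
    [IsLocalHom (algebraMap (Localization.AtPrime Q) C)]
    [hC : Hensel.IsHenselization (Localization.AtPrime Q) C] [Algebra A C]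
    [IsScalarTower A (Localization.AtPrime Q) C] :
    Nonempty ((H ⧸ Ideal.span {aeval x p}) ≃ₐ[A] C) := by
  haveI := hC.henselian
  let P := MvPolynomial (Fin N) A
  let R₀ := P ⧸ Ideal.span {p}
  let L := Localization.AtPrime Q
  have hQ : Q.comap (Ideal.Quotient.mk (Ideal.span {p})) = VanCyc.originIdeal A (N := N) := by
    refine (isMaximal_originIdeal.eq_of_le (Ideal.IsPrime.ne_top inferInstance) (sup_le
      (Ideal.map_le_iff_le_comap.2 hQA) (Ideal.span_le.2 ?_))).symm
    rintro _ ⟨i, rfl⟩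
    exact hQX i
  have hp : p ∈ VanCyc.originIdeal A (N := N) := by
    rw [← hQ, Ideal.mem_comap, Ideal.Quotient.eq_zero_iff_mem.2 (Ideal.mem_span_singleton_self p)]
    exact zero_mem Q
  have hG : aeval x p ∈ maximalIdeal H := hH.mem_maximalIdeal_of_mem_originIdeal hp
  let E := H ⧸ Ideal.span {aeval x p}
  haveI : Nontrivial E := Ideal.Quotient.nontrivial_iff.2 fun h =>
    (maximalIdeal.isMaximal H).ne_top (top_le_iff.1 (h ▸ (Ideal.span_singleton_le_iff_mem _).2 hG))
  haveI : IsLocalRing E := .of_surjective' _ Ideal.Quotient.mk_surjective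
  haveI : HenselianLocalRing E := Hensel.henselianLocalRing_of_finite H _
  haveI : IsLocalHom (Ideal.Quotient.mk (Ideal.span {aeval x p})) :=
    IsLocalHom.of_surjective _ Ideal.Quotient.mk_surjective
  let mkE : H →ₐ[A] E := Ideal.Quotient.mkₐ A _
  have hmkE : ∀ {h}, h ∈ maximalIdeal H → mkE h ∈ maximalIdeal E := fun {h} hh => by
    rw [mem_maximalIdeal, mem_nonunits_iff]
    intro hu
    exact (mem_maximalIdeal _).1 hh ((isUnit_map_iff (Ideal.Quotient.mk _) h).1 hu)
  -- from `C`
  let f₀ : R₀ →ₐ[A] E := Ideal.Quotient.liftₐ _ (mkE.comp (aeval x)) fun a ha => by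
    obtain ⟨r, rfl⟩ := Ideal.mem_span_singleton'.1 ha
    rw [map_mul]
    show _ * Ideal.Quotient.mk _ (aeval x p) = 0
    rw [Ideal.Quotient.eq_zero_iff_mem.2 (Ideal.mem_span_singleton_self _), mul_zero]
  have hf₀ : Q ≤ (maximalIdeal E).comap f₀.toRingHom := fun y hy => by
    obtain ⟨y, rfl⟩ := Ideal.Quotient.mk_surjective y
    exact hmkE (hH.mem_maximalIdeal_of_mem_originIdeal (hQ ▸ hy))
  have hQmax : Q.IsMaximal := by
    rw [← Ideal.map_comap_of_surjective _ Ideal.Quotient.mk_surjective Q, hQ]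
    refine (Ideal.map_eq_top_or_isMaximal_of_surjective _ Ideal.Quotient.mk_surjective
      isMaximal_originIdeal).resolve_left fun h => Ideal.IsPrime.ne_top ‹Q.IsPrime› ?_
    rwa [← Ideal.map_comap_of_surjective _ Ideal.Quotient.mk_surjective Q, hQ]
  have hQeq : Q = (maximalIdeal E).comap f₀.toRingHom :=
    hQmax.eq_of_le (Ideal.comap_ne_top _ (maximalIdeal.isMaximal E).ne_top) hf₀
  have hunit : ∀ y : Q.primeCompl, IsUnit (f₀ (y : R₀)) := fun y => by
    by_contra h
    exact y.2 (hQeq.ge ((mem_maximalIdeal _).2 h))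
  let f : L →ₐ[A] E := IsLocalization.liftAlgHom hunit
  have hf : IsLocalHom f.toRingHom := isLocalHom_of_map_le f.toRingHom
    (Ideal.map_le_iff_le_comap.2 fun (z : L) hz => by
      obtain ⟨⟨r, t⟩, hrt⟩ := IsLocalization.surj Q.primeCompl z
      have hlift : ∀ r : R₀, f (algebraMap R₀ L r) = f₀ r := fun r => IsLocalization.lift_eq hunit r
      have hrQ : r ∈ Q := (IsLocalization.AtPrime.to_map_mem_maximal_iff L Q r).1
        (hrt ▸ Ideal.mul_mem_right _ _ hz)
      have h1 : f z * f₀ (t : R₀) = f₀ r := by rw [← hlift, ← hlift, ← map_mul, hrt]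
      show f z ∈ maximalIdeal E
      exact (Ideal.mul_unit_mem_iff_mem _ (hunit t)).1 (h1 ▸ hf₀ hrQ))
  obtain ⟨g, hg, -⟩ := hC.universal E f.toRingHom hf
  let g' : C →ₐ[A] E := ⟨g, fun a => by
    show g (algebraMap A C a) = _
    rw [IsScalarTower.algebraMap_apply A L C]
    exact (DFunLike.congr_fun hg _).trans (f.commutes a)⟩
  -- from `H`
  let π : P →ₐ[A] C :=
    (IsScalarTower.toAlgHom A L C).comp ((IsScalarTower.toAlgHom A R₀ L).comp (Ideal.Quotient.mkₐ A _))
  have hπm : ∀ {y : P}, Ideal.Quotient.mk (Ideal.span {p}) y ∈ Q → π y ∈ maximalIdeal C :=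
    fun {y} hy => by
      show algebraMap L C (algebraMap R₀ L _) ∈ maximalIdeal C
      rw [mem_maximalIdeal, mem_nonunits_iff, isUnit_map_iff]
      exact (mem_maximalIdeal _).1 ((IsLocalization.AtPrime.to_map_mem_maximal_iff L Q _).2 hy)
  have hlC : IsLocalHom (algebraMap A C) := isLocalHom_of_map_le _
    (Ideal.map_le_iff_le_comap.2 fun a ha => by
      show algebraMap A C a ∈ maximalIdeal C
      rw [← π.commutes a]
      exact hπm (hQA a ha))
  let φ : H →ₐ[A] C := hH.lift hlC (fun i => π (X i)) fun i => hπm (hQX i)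
  have hφp : φ.comp (aeval x) = π := by
    ext i
    simp [φ]
  let φ' : E →ₐ[A] C := Ideal.Quotient.liftₐ _ φ fun a ha => by
    obtain ⟨r, rfl⟩ := Ideal.mem_span_singleton'.1 ha
    rw [map_mul, ← AlgHom.comp_apply φ (aeval x), hφp]
    show _ * algebraMap L C (algebraMap R₀ L (Ideal.Quotient.mk (Ideal.span {p}) p)) = 0
    rw [Ideal.Quotient.eq_zero_iff_mem.2 (Ideal.mem_span_singleton_self p), map_zero, map_zero,
      mul_zero]
  have hgπ : ∀ y, g' (π y) = mkE (aeval x y) := fun y =>
    (DFunLike.congr_fun hg (algebraMap R₀ L _)).trans (IsLocalization.lift_eq _ _)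
  have h1 : g'.comp φ' = AlgHom.id A E := by
    refine Ideal.Quotient.algHom_ext A ?_
    refine hH.hom_ext (T := E) ?_ (fun i => ?_) fun i => ?_
    · exact isLocalHom_of_map_le _ (Ideal.map_le_iff_le_comap.2 fun a ha =>
        hmkE ((hH.mem_maximalIdeal_iff a).2 ha))
    · show g' (φ (x i)) ∈ _
      rw [hH.lift_x, hgπ, aeval_X]
      exact hmkE (hH.mem i)
    · show g' (φ (x i)) = mkE (x i)
      rw [hH.lift_x, hgπ, aeval_X]
  have h2 : φ'.comp g' = AlgHom.id A C := by
    refine AlgHom.coe_ringHom_injective ?_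
    refine (hC.universal C (algebraMap L C) inferInstance).unique ?_ (RingHom.id_comp _)
    refine IsLocalization.ringHom_ext Q.primeCompl (RingHom.ext fun y => ?_)
    obtain ⟨y, rfl⟩ := Ideal.Quotient.mk_surjective y
    show φ' (g' (π y)) = π y
    rw [hgπ]
    exact AlgHom.congr_fun hφp y
  exact ⟨AlgEquiv.ofAlgHom φ' g' h2 h1⟩

end IsHS

end Groth.Agent.HensMorse
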