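import Groth.Agent.HensMorse.Coordinates
import Groth.Agent.PSQuad.Hypersurface
import Mathlib.RingTheory.EssentialFiniteness
import Mathlib.RingTheory.Ideal.GoingUp

/-!
# Comparison data at ordinary quadratic points
-/

noncomputable section

namespace Groth.Agent.HensMorse

open IsLocalRing

universe u

variable {L : Type u} [Field L] {N : ℕ}

/-- A Noetherian local ring maps to its completion, detecting the powers of the maximal ideal. -/
theorem exists_rho_local {R : Type u} [CommRing R] [IsLocalRing R] [IsNoetherianRing R]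
    [Algebra L R] {f : MvPowerSeries (Fin N) L} (hf : f ∈ PSLib.vars N L)
    (e : AdicCompletion (maximalIdeal R) R ≃ₐ[L] MvPowerSeries (Fin N) L ⧸ Ideal.span {f}) :
    ∃ ρ : R →ₐ[L] MvPowerSeries (Fin N) L ⧸ Ideal.span {f},
      (maximalIdeal R).map ρ = (PSLib.vars N L).map (Ideal.Quotient.mk (Ideal.span {f})) ∧
      (∀ (i : ℕ) t, ρ t ∈ (PSLib.vars N L).map (Ideal.Quotient.mk (Ideal.span {f})) ^ i →
        t ∈ maximalIdeal R ^ i) ∧
      ∀ (i : ℕ) z, ∃ t, z - ρ t ∈ (PSLib.vars N L).map (Ideal.Quotient.mk (Ideal.span {f})) ^ i := by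
  let C := AdicCompletion (maximalIdeal R) R
  haveI : IsLocalRing (MvPowerSeries (Fin N) L ⧸ Ideal.span {f}) :=
    PSQuad.isLocalRing_quot ((vars_eq_maximalIdeal (L := L)) ▸ hf)
  let ρ : R →ₐ[L] MvPowerSeries (Fin N) L ⧸ Ideal.span {f} :=
    e.toAlgHom.comp (IsScalarTower.toAlgHom L R C)
  have hm : (maximalIdeal R).map (algebraMap R C) = maximalIdeal C :=
    (AdicCompletion.maximalIdeal_eq_map).symm
  have hQ : (PSLib.vars N L).map (Ideal.Quotient.mk (Ideal.span {f})) =
      maximalIdeal (MvPowerSeries (Fin N) L ⧸ Ideal.span {f}) := by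
    rw [vars_eq_maximalIdeal]
    exact IsLocalRing.map_maximalIdeal_of_surjective _ Ideal.Quotient.mk_surjective
  have hρ : (maximalIdeal R).map ρ = maximalIdeal (MvPowerSeries (Fin N) L ⧸ Ideal.span {f}) := by
    rw [show (maximalIdeal R).map ρ = ((maximalIdeal R).map (algebraMap R C)).map e.toAlgHom.toRingHom
      from (Ideal.map_map (algebraMap R C) e.toAlgHom.toRingHom).symm, hm]
    exact IsLocalRing.map_maximalIdeal_of_surjective _ e.surjective
  haveI : Module.FaithfullyFlat R C := by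
    haveI : Module.Flat R C := AdicCompletion.flat_of_isNoetherian (maximalIdeal R)
    exact Module.FaithfullyFlat.of_flat_of_isLocalHom
  refine ⟨ρ, hρ.trans hQ.symm, fun i t ht => ?_, fun i z => ?_⟩
  · rw [hQ, ← hρ, ← Ideal.map_pow] at ht
    rw [show (maximalIdeal R ^ i).map ρ = ((maximalIdeal R ^ i).map (algebraMap R C)).map
      e.toAlgHom.toRingHom from (Ideal.map_map (algebraMap R C) e.toAlgHom.toRingHom).symm] at ht
    obtain ⟨c, hc, hce⟩ := (Ideal.mem_map_iff_of_surjective _ e.surjective).1 ht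
    have h1 : algebraMap R C t ∈ (maximalIdeal R ^ i).map (algebraMap R C) := by
      rwa [← e.injective (show e c = e (algebraMap R C t) from hce)]
    exact (Ideal.comap_map_eq_self_of_faithfullyFlat (B := C) (maximalIdeal R ^ i)).le h1
  · obtain ⟨t, ht⟩ := Adic7.exists_sub_algebraMap_mem (maximalIdeal R)
      (IsNoetherian.noetherian _) (e.symm z) i
    refine ⟨t, ?_⟩
    have h1 := Ideal.mem_map_of_mem e.toAlgHom.toRingHom ht
    rw [hm, Ideal.map_pow, IsLocalRing.map_maximalIdeal_of_surjective _ e.surjective, ← hQ] at h1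
    convert h1 using 1
    show z - ρ t = e (e.symm z - algebraMap R C t)
    rw [map_sub, e.apply_symm_apply]
    rfl

/-- The version at a maximal ideal of a Noetherian ring. -/
theorem exists_rho {T : Type u} [CommRing T] [IsNoetherianRing T] [Algebra L T] (M : Ideal T)
    [M.IsMaximal] {f : MvPowerSeries (Fin N) L} (hf : f ∈ PSLib.vars N L)
    (e : AdicCompletion (maximalIdeal (Localization.AtPrime M)) (Localization.AtPrime M) ≃ₐ[L]
      MvPowerSeries (Fin N) L ⧸ Ideal.span {f}) :
    ∃ ρ : T →ₐ[L] MvPowerSeries (Fin N) L ⧸ Ideal.span {f},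
      M.map ρ = (PSLib.vars N L).map (Ideal.Quotient.mk (Ideal.span {f})) ∧
      (∀ (i : ℕ) t, ρ t ∈ (PSLib.vars N L).map (Ideal.Quotient.mk (Ideal.span {f})) ^ i → t ∈ M ^ i) ∧
      ∀ (i : ℕ) z, ∃ t, z - ρ t ∈ (PSLib.vars N L).map (Ideal.Quotient.mk (Ideal.span {f})) ^ i := by
  let R := Localization.AtPrime M
  haveI : IsNoetherianRing R := IsLocalization.isNoetherianRing M.primeCompl R inferInstance
  obtain ⟨ρ₀, h1, h2, h3⟩ := exists_rho_local (R := R) hf e
  let ρ : T →ₐ[L] MvPowerSeries (Fin N) L ⧸ Ideal.span {f} :=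
    ρ₀.comp (IsScalarTower.toAlgHom L T R)
  have hunit : ∀ {s : T}, s ∉ M → ∀ i, M ^ i ⊔ Ideal.span {s} = ⊤ := fun {s} hs i =>
    Ideal.pow_sup_eq_top
      ((‹M.IsMaximal›).1.2 _ (lt_of_le_of_ne le_sup_left fun h => hs
        (h.symm ▸ Submodule.mem_sup_right (Ideal.mem_span_singleton_self s))))
  have hback : ∀ (i : ℕ) (t : T), algebraMap T R t ∈ maximalIdeal R ^ i → t ∈ M ^ i := by
    intro i t ht
    rw [← Localization.AtPrime.map_eq_maximalIdeal, ← Ideal.map_pow] at ht
    obtain ⟨⟨a, s⟩, has⟩ := (IsLocalization.mem_map_algebraMap_iff M.primeCompl R).1 ht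
    rw [← map_mul] at has
    obtain ⟨c, hc⟩ := (IsLocalization.eq_iff_exists M.primeCompl R).1 has
    have hcs : (c : T) * s ∉ M := fun h => (Ideal.IsPrime.mem_or_mem inferInstance h).elim c.2 s.2
    have h1 : (1 : T) ∈ M ^ i ⊔ Ideal.span {(c : T) * s} := (hunit hcs i).symm ▸ Submodule.mem_top
    obtain ⟨u, hu, v, hv, huv⟩ := Submodule.mem_sup.1 h1
    obtain ⟨w, rfl⟩ := Ideal.mem_span_singleton'.1 hv
    rw [← mul_one t, ← huv, mul_add]
    refine add_mem (Ideal.mul_mem_left _ _ hu) ?_
    rw [show t * (w * ((c : T) * s)) = w * ((c : T) * (t * s)) by ring, hc]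
    exact Ideal.mul_mem_left _ _ (Ideal.mul_mem_left _ _ a.2)
  refine ⟨ρ, ?_, fun i t ht => hback i t (h2 i _ ht), fun i z => ?_⟩
  · rw [show M.map ρ = (M.map (algebraMap T R)).map ρ₀.toRingHom from
      (Ideal.map_map (algebraMap T R) ρ₀.toRingHom).symm, Localization.AtPrime.map_eq_maximalIdeal]
    exact h1
  · obtain ⟨y, hy⟩ := h3 i z
    obtain ⟨⟨a, s⟩, has⟩ := IsLocalization.surj M.primeCompl y
    obtain ⟨u, hu, v, hv, huv⟩ := Submodule.mem_sup.1
      ((hunit (s := (s : T)) s.2 i).symm ▸ Submodule.mem_top : (1 : T) ∈ M ^ i ⊔ Ideal.span {(s : T)})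
    obtain ⟨w, rfl⟩ := Ideal.mem_span_singleton'.1 hv
    refine ⟨a * w, ?_⟩
    have hdiff : y - algebraMap T R (a * w) ∈ maximalIdeal R ^ i := by
      rw [map_mul, ← has, show y - y * algebraMap T R (s : T) * algebraMap T R w =
        y * (1 - algebraMap T R (w * s)) by rw [map_mul]; ring,
        ← map_one (algebraMap T R), ← map_sub, ← huv, add_sub_cancel_right,
        ← Localization.AtPrime.map_eq_maximalIdeal, ← Ideal.map_pow]
      exact Ideal.mul_mem_left _ _ (Ideal.mem_map_of_mem _ hu)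
    rw [← sub_add_sub_cancel z (ρ₀ y)]
    refine add_mem hy ?_
    show ρ₀ y - ρ₀ (algebraMap T R (a * w)) ∈ _
    rw [← h1, ← map_sub, ← Ideal.map_pow]
    exact Ideal.mem_map_of_mem _ hdiff

/-- Comparison data when the ground field needs no extension. -/
theorem exists_point_of_completion {k : Type u} [Field k] {O : Type u} [CommRing O] [IsLocalRing O]
    [IsNoetherianRing O] [Algebra k O] {f : MvPowerSeries (Fin N) k} (hf : f ∈ PSLib.vars N k)
    (e : AdicCompletion (maximalIdeal O) O ≃ₐ[k] MvPowerSeries (Fin N) k ⧸ Ideal.span {f}) :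
    Nonempty (Point k k O f) := by
  obtain ⟨ρ, h1, h2, -⟩ := exists_rho_local hf e
  exact ⟨{
    T := O
    ι := RingHom.id O
    r := LinearMap.id
    r_one := rfl
    rT := AddMonoidHom.id O
    rT_smul := fun a o => by
      show algebraMap k O a * o = o * algebraMap k O a
      exact mul_comm _ _
    rT_mul := fun _ _ => rfl
    ι_alg := fun c => rfl
    ρ := ρ
    map_eq := by rw [Ideal.map_id]; exact h1
    mem_pow := fun i t ht => by rw [Ideal.map_id]; exact h2 i t ht }⟩

open scoped TensorProduct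

section geometric

variable {k : Type u} [Field k] {O : Type u} [CommRing O] [IsLocalRing O] [Algebra k O]
  [Algebra k L]

theorem includeRight_isIntegral [Algebra.IsAlgebraic k L] :
    (Algebra.TensorProduct.includeRight : O →ₐ[k] L ⊗[k] O).toRingHom.IsIntegral := by
  set ι := (Algebra.TensorProduct.includeRight : O →ₐ[k] L ⊗[k] O).toRingHom
  intro t
  induction t using TensorProduct.induction_on with
  | zero => exact RingHom.isIntegralElem_zero ι
  | add a b ha hb => exact ha.add ι hb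
  | tmul a o =>
    have h1 : ι.IsIntegralElem ((a ⊗ₜ[k] (1 : O))) := by
      obtain ⟨p, hp, hpa⟩ := (Algebra.IsAlgebraic.isAlgebraic (R := k) a).isIntegral
      refine ⟨p.map (algebraMap k O), hp.map _, ?_⟩
      rw [Polynomial.eval₂_map,
        show ι.comp (algebraMap k O) =
          (Algebra.TensorProduct.includeLeftRingHom (A := L) (B := O)).comp (algebraMap k L) from
          RingHom.ext fun c => by
            show (1 : L) ⊗ₜ[k] algebraMap k O c = algebraMap k L c ⊗ₜ[k] (1 : O)
            rw [Algebra.algebraMap_eq_smul_one, Algebra.algebraMap_eq_smul_one, ← TensorProduct.smul_tmul],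
        show (a ⊗ₜ[k] (1 : O)) = Algebra.TensorProduct.includeLeftRingHom a from rfl,
        ← Polynomial.hom_eval₂, hpa, map_zero]
    rw [show a ⊗ₜ[k] o = (a ⊗ₜ[k] (1 : O)) * ι o by
      show _ = (a ⊗ₜ[k] (1 : O)) * ((1 : L) ⊗ₜ[k] o)
      rw [Algebra.TensorProduct.tmul_mul_tmul, mul_one, one_mul]]
    exact h1.mul ι (ι.isIntegralElem_map)

/-- With a rational residue field, the point upstairs is unique and everything descends. -/
theorem exists_point_of_rational [Algebra.IsAlgebraic k L] [Algebra.EssFiniteType k O]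
    (hres : ∀ o : O, ∃ c : k, o - algebraMap k O c ∈ maximalIdeal O)
    (M : Ideal (L ⊗[k] O)) [M.IsMaximal] {f : MvPowerSeries (Fin N) L} (hf : f ∈ PSLib.vars N L)
    (e : AdicCompletion (maximalIdeal (Localization.AtPrime M)) (Localization.AtPrime M) ≃ₐ[L]
      MvPowerSeries (Fin N) L ⧸ Ideal.span {f}) :
    Nonempty (Point k L O f) := by
  let T := L ⊗[k] O
  let ι : O →+* T := (Algebra.TensorProduct.includeRight : O →ₐ[k] T).toRingHom
  obtain ⟨r, hr⟩ := LinearMap.exists_leftInverse_of_injective (Algebra.linearMap k L)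
    (LinearMap.ker_eq_bot.2 (algebraMap k L).injective)
  have hr1 : r 1 = 1 := by simpa using LinearMap.congr_fun hr 1
  let rT : T →ₗ[k] O := (TensorProduct.lid k O).toLinearMap ∘ₗ TensorProduct.map r LinearMap.id
  have hrT : ∀ a o, rT (a ⊗ₜ[k] o) = r a • o := fun a o => by
    show (TensorProduct.lid k O) (r a ⊗ₜ[k] o) = _
    rw [TensorProduct.lid_tmul]
  have hmul : ∀ o t, rT (ι o * t) = o * rT t := by
    intro o t
    induction t using TensorProduct.induction_on with
    | zero => simp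
    | add a b ha hb => rw [mul_add, map_add, map_add, ha, hb, mul_add]
    | tmul a p =>
      show rT (((1 : L) ⊗ₜ[k] o) * (a ⊗ₜ[k] p)) = _
      rw [Algebra.TensorProduct.tmul_mul_tmul, one_mul, hrT, hrT, mul_smul_comm]
  set 𝔪 := (maximalIdeal O).map ι with h𝔪
  have hne : 𝔪 ≠ ⊤ := by
    intro h
    have h1 : ∀ t ∈ 𝔪, ∀ s, rT (s * t) ∈ maximalIdeal O := by
      intro t ht
      refine Submodule.span_induction (p := fun z _ => ∀ s, rT (s * z) ∈ maximalIdeal O)
        ?_ ?_ ?_ ?_ ht
      · rintro _ ⟨o, ho, rfl⟩ s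
        rw [mul_comm, hmul]
        exact Ideal.mul_mem_right _ _ ho
      · intro s; simp
      · intro a b _ _ ha hb s
        rw [mul_add, map_add]
        exact add_mem (ha s) (hb s)
      · intro c a _ ha s
        rw [smul_eq_mul, ← mul_assoc]
        exact ha _
    have h2 := h1 1 (h.symm ▸ Submodule.mem_top) 1
    rw [one_mul, Algebra.TensorProduct.one_def, hrT, hr1, one_smul] at h2
    exact (mem_maximalIdeal _).1 h2 isUnit_one
  have hgen : ∀ t : T, ∃ a : L, t - algebraMap L T a ∈ 𝔪 := by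
    intro t
    induction t using TensorProduct.induction_on with
    | zero => exact ⟨0, by simp⟩
    | add p q hp hq =>
      obtain ⟨a, ha⟩ := hp
      obtain ⟨b, hb⟩ := hq
      exact ⟨a + b, by convert add_mem ha hb using 1; rw [map_add]; ring⟩
    | tmul a o =>
      obtain ⟨c, hc⟩ := hres o
      refine ⟨c • a, ?_⟩
      convert Ideal.mul_mem_left 𝔪 (a ⊗ₜ[k] (1 : O)) (Ideal.mem_map_of_mem ι hc) using 1
      show a ⊗ₜ[k] o - (c • a) ⊗ₜ[k] (1 : O) =
        (a ⊗ₜ[k] (1 : O)) * ((1 : L) ⊗ₜ[k] (o - algebraMap k O c))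
      rw [Algebra.TensorProduct.tmul_mul_tmul, mul_one, one_mul, TensorProduct.tmul_sub,
        TensorProduct.smul_tmul, ← Algebra.algebraMap_eq_smul_one]
  have hmax : 𝔪.IsMaximal := by
    refine Ideal.isMaximal_iff.2 ⟨fun h => hne ((Ideal.eq_top_iff_one _).2 h), fun J t hJ ht htJ => ?_⟩
    obtain ⟨a, ha⟩ := hgen t
    have haJ : algebraMap L T a ∈ J := by simpa using sub_mem htJ (hJ ha)
    have ha0 : a ≠ 0 := fun h => ht (by rw [h, map_zero, sub_zero] at ha; exact ha)
    have := Ideal.mul_mem_left J (algebraMap L T a⁻¹) haJ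
    rwa [← map_mul, inv_mul_cancel₀ ha0, map_one] at this
  have hM : M = 𝔪 := by
    refine (hmax.eq_of_le (Ideal.IsMaximal.ne_top ‹_›) ?_).symm
    haveI := Ideal.isMaximal_comap_of_isIntegral_of_isMaximal' ι includeRight_isIntegral M
    rw [h𝔪, Ideal.map_le_iff_le_comap, IsLocalRing.eq_maximalIdeal (I := M.comap ι) inferInstance]
  haveI : IsNoetherianRing T := Algebra.EssFiniteType.isNoetherianRing L T
  obtain ⟨ρ, h1, h2, -⟩ := exists_rho M hf e
  exact ⟨{
    T := T
    ι := ι
    r := r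
    r_one := hr1
    rT := rT.toAddMonoidHom
    rT_smul := fun a o => by
      show rT ((a ⊗ₜ[k] (1 : O)) * ((1 : L) ⊗ₜ[k] o)) = _
      rw [Algebra.TensorProduct.tmul_mul_tmul, mul_one, one_mul, hrT, Algebra.smul_def, mul_comm]
    rT_mul := hmul
    ι_alg := fun c => by
      show (1 : L) ⊗ₜ[k] algebraMap k O c = algebraMap k L c ⊗ₜ[k] (1 : O)
      rw [Algebra.algebraMap_eq_smul_one, Algebra.algebraMap_eq_smul_one, ← TensorProduct.smul_tmul]
    ρ := ρ
    map_eq := by
      show 𝔪.map ρ = _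
      rw [← hM]; exact h1
    mem_pow := fun i t ht => by
      show t ∈ 𝔪 ^ i
      rw [← hM]; exact h2 i t ht }⟩

end geometric

end Groth.Agent.HensMorse
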