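import Groth.Agent.HensMorse.Classify
import Groth.Agent.HensMorse.Models
import Groth.Agent.HensMorse.Points

/-!
# Henselizations at quadratic points of flat families
-/

noncomputable section

namespace Groth.Agent.HensMorse

open IsLocalRing Matrix

universe u

variable {A : Type u} [CommRing A] [HenselianLocalRing A]

section model

variable {H : Type u} [CommRing H] [HenselianLocalRing H] [Algebra A H] {N : ℕ} {x : Fin N → H}

omit [HenselianLocalRing H] in
theorem nonempty_quotient_algEquiv (F : H) (φ : H ≃ₐ[A] H) (u G : H) (hu : IsUnit u)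
    (he : φ F = u * G) : Nonempty ((H ⧸ Ideal.span {F}) ≃ₐ[A] H ⧸ Ideal.span {G}) :=
  ⟨Ideal.quotientEquivAlg _ _ φ (by
    rw [Ideal.map_span, Set.image_singleton]
    show _ = Ideal.span {φ F}
    rw [he, Ideal.span_singleton_mul_left_unit hu])⟩

theorem nonempty_algEquiv_quadModel (hH : IsHS A H x) (a : Fin N → Fin N → A) (b : A)
    [(VanCyc.originQuot A a b).IsPrime] (C : Type u) [CommRing C] [IsLocalRing C]
    [Algebra (Localization.AtPrime (VanCyc.originQuot A a b)) C]
    [IsLocalHom (algebraMap (Localization.AtPrime (VanCyc.originQuot A a b)) C)]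
    [Hensel.IsHenselization (Localization.AtPrime (VanCyc.originQuot A a b)) C]
    [Algebra A C] [IsScalarTower A (Localization.AtPrime (VanCyc.originQuot A a b)) C] :
    Nonempty ((H ⧸ Ideal.span {MvPolynomial.aeval x (VanCyc.quadPoly a - MvPolynomial.C b)})
      ≃ₐ[A] C) :=
  hH.nonempty_algEquiv_model _ (VanCyc.originQuot A a b)
    (fun _ ha => Ideal.mem_map_of_mem _ (Submodule.mem_sup_left (Ideal.mem_map_of_mem _ ha)))
    (fun i => Ideal.mem_map_of_mem _ (Submodule.mem_sup_right (Ideal.subset_span ⟨i, rfl⟩))) C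

theorem nonempty_algEquiv_degModel {m : ℕ} {x : Fin (2 * m + 1) → H} (hH : IsHS A H x)
    (a' : Fin (2 * m) → Fin (2 * m) → A) (b c : A) (hb : b ∈ maximalIdeal A) (hc : c ∈ maximalIdeal A)
    (Q : Ideal (VanCyc.degQuadRing A a' b c)) [Q.IsPrime] (hQ : VanCyc.sideIdeal A a' b c ≤ Q)
    (C : Type u) [CommRing C] [IsLocalRing C] [Algebra (Localization.AtPrime Q) C]
    [IsLocalHom (algebraMap (Localization.AtPrime Q) C)]
    [Hensel.IsHenselization (Localization.AtPrime Q) C]
    [Algebra A C] [IsScalarTower A (Localization.AtPrime Q) C] :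
    Nonempty ((H ⧸ Ideal.span {x 0 ^ 2 + algebraMap A H b * x 0 + algebraMap A H c +
      MvPolynomial.aeval (x ∘ Fin.succ) (VanCyc.quadPoly a')}) ≃ₐ[A] C) := by
  classical
  set mk := Ideal.Quotient.mk (Ideal.span {VanCyc.degQuadPoly A a' b c})
  have hC : ∀ a ∈ maximalIdeal A, mk (MvPolynomial.C a) ∈ Q := fun a ha =>
    hQ (Ideal.mem_map_of_mem _ (Submodule.mem_sup_left (Ideal.mem_map_of_mem _ ha)))
  have hS : ∀ i : Fin (2 * m), mk (MvPolynomial.X i.succ) ∈ Q := fun i =>
    hQ (Ideal.mem_map_of_mem _ (Submodule.mem_sup_right (Ideal.subset_span ⟨i, rfl⟩)))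
  have hren : mk (MvPolynomial.rename Fin.succ (VanCyc.quadPoly a')) ∈ Q := by
    simp only [VanCyc.quadPoly, map_sum]
    refine Ideal.sum_mem _ fun i _ => Ideal.sum_mem _ fun l _ => ?_
    split_ifs
    · simp only [map_mul, MvPolynomial.rename_X]
      exact Ideal.mul_mem_left _ _ (hS l)
    · simp
  have hX : mk (MvPolynomial.X 0) ∈ Q := by
    refine ‹Q.IsPrime›.mem_of_pow_mem 2 ?_
    have h0 : mk (VanCyc.degQuadPoly A a' b c) ∈ Q := by
      rw [show mk (VanCyc.degQuadPoly A a' b c) = 0 from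
        Ideal.Quotient.eq_zero_iff_mem.2 (Ideal.mem_span_singleton_self _)]
      exact zero_mem _
    rw [show mk (VanCyc.degQuadPoly A a' b c) = mk (MvPolynomial.X 0) ^ 2 +
      mk (MvPolynomial.C b) * mk (MvPolynomial.X 0) + mk (MvPolynomial.C c) +
      mk (MvPolynomial.rename Fin.succ (VanCyc.quadPoly a')) from rfl] at h0
    exact (Submodule.add_mem_iff_left Q (Ideal.mul_mem_right _ _ (hC b hb))).1
      ((Submodule.add_mem_iff_left Q (hC c hc)).1 ((Submodule.add_mem_iff_left Q hren).1 h0))
  have he : MvPolynomial.aeval x (VanCyc.degQuadPoly A a' b c) =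
      x 0 ^ 2 + algebraMap A H b * x 0 + algebraMap A H c +
        MvPolynomial.aeval (x ∘ Fin.succ) (VanCyc.quadPoly a') := by
    simp [VanCyc.degQuadPoly, MvPolynomial.aeval_rename]
  rw [← he]
  exact hH.nonempty_algEquiv_model _ Q hC (Fin.cases hX hS) C

end model

section fibre

variable (B₀ : Type u) [CommRing B₀] [Algebra A B₀] (P : Ideal B₀) [P.IsPrime]
  (hP : (maximalIdeal A).map (algebraMap A B₀) ≤ P)

include hP in
theorem map_maximalIdeal_le :
    (maximalIdeal A).map (algebraMap A (Localization.AtPrime P)) ≤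
      maximalIdeal (Localization.AtPrime P) := by
  rw [IsScalarTower.algebraMap_eq A B₀ (Localization.AtPrime P), ← Ideal.map_map]
  exact (Ideal.map_mono hP).trans Localization.AtPrime.map_eq_maximalIdeal.le

include hP in
theorem isLocalRing_fibQuot : IsLocalRing (VanCyc.fibQuot A (Localization.AtPrime P)) :=
  haveI : Nontrivial (VanCyc.fibQuot A (Localization.AtPrime P)) :=
    Ideal.Quotient.nontrivial_iff.2 fun h =>
      (maximalIdeal.isMaximal _).ne_top (top_le_iff.1 (h ▸ map_maximalIdeal_le B₀ P hP))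
  .of_surjective' _ Ideal.Quotient.mk_surjective

theorem fibHom_residue (a : A) :
    VanCyc.fibHom A (Localization.AtPrime P) (residue A a) =
      Ideal.Quotient.mk _ (algebraMap A (Localization.AtPrime P) a) :=
  rfl

theorem essFiniteType_fibQuot [Algebra.FinitePresentation A B₀] :
    @Algebra.EssFiniteType (ResidueField A) (VanCyc.fibQuot A (Localization.AtPrime P)) _ _
      (VanCyc.fibHom A (Localization.AtPrime P)).toAlgebra := by
  let O := VanCyc.fibQuot A (Localization.AtPrime P)
  let _ : Algebra (ResidueField A) O := (VanCyc.fibHom A _).toAlgebra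
  haveI : IsScalarTower A (ResidueField A) O := .of_algebraMap_eq fun _ => rfl
  haveI : Algebra.EssFiniteType B₀ (Localization.AtPrime P) :=
    Algebra.EssFiniteType.of_isLocalization _ P.primeCompl
  haveI : Algebra.EssFiniteType A (Localization.AtPrime P) :=
    Algebra.EssFiniteType.comp A B₀ _
  haveI : Algebra.EssFiniteType A O :=
    Algebra.EssFiniteType.comp A (Localization.AtPrime P) O
  exact Algebra.EssFiniteType.of_comp A (ResidueField A) O

theorem exists_sub_mem_maximalIdeal [P.IsMaximal] (z : Localization.AtPrime P) :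
    ∃ y : B₀, z - algebraMap B₀ _ y ∈ maximalIdeal (Localization.AtPrime P) := by
  let BP := Localization.AtPrime P
  obtain ⟨⟨r, s⟩, hrs⟩ := IsLocalization.surj P.primeCompl z
  obtain ⟨t, i, hi, ht⟩ := (Ideal.IsMaximal.exists_inv ‹P.IsMaximal› s.2)
  refine ⟨r * t, ?_⟩
  rw [map_mul, ← hrs, show z - z * algebraMap B₀ BP (s : B₀) * algebraMap B₀ BP t =
    z * (1 - algebraMap B₀ BP (t * s)) by rw [map_mul]; ring, ← map_one (algebraMap B₀ BP),
    ← map_sub, ← ht, add_sub_cancel_left]
  exact Ideal.mul_mem_left _ _ ((IsLocalization.AtPrime.to_map_mem_maximal_iff BP P i).2 hi)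

end fibre

theorem ordQuadSeries_of_nondeg {k : Type u} [Field k] {N : ℕ} {f : MvPowerSeries (Fin N) k}
    (hf : VanCyc.NondegQuadSeries f) : VanCyc.OrdQuadSeries f := by
  refine ⟨hf.1, fun v _ h => ?_⟩
  have := congrArg ((VanCyc.polarMatrix (VanCyc.quadPart f))⁻¹ *ᵥ ·) h
  simpa [Matrix.mulVec_mulVec, Matrix.nonsing_inv_mul _ hf.2] using this

end Groth.Agent.HensMorse
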