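import Groth.Agent.HensMorse.Newton
import Groth.Agent.Hensel.Newton

/-!
# Inverse function theorem, existence and quotients of henselian series rings
-/

noncomputable section

namespace Groth.Agent.HensMorse

open IsLocalRing MvPolynomial

universe u

variable {A : Type u} [CommRing A] [HenselianLocalRing A] {H : Type u} [CommRing H]
  [HenselianLocalRing H] [Algebra A H] {N : ℕ} {x : Fin N → H} (hH : IsHS A H x)

namespace IsHS

include hH

theorem exists_leftInverse (φ : H →ₐ[A] H) (hφ : ∀ i, φ (x i) ∈ maximalIdeal H)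
    (hJ : IsUnit (hH.jac fun i => φ (x i)).det) :
    ∃ ψ : H →ₐ[A] H, (∀ i, ψ (x i) ∈ maximalIdeal H) ∧ ψ.comp φ = AlgHom.id A H := by
  classical
  obtain ⟨S, hS⟩ := Sys.exists_root_family (Finset.univ : Finset (Fin N)) (fun i => φ (x i))
    fun i => hH.exists_sys _
  choose g hg using fun i => hS i (Finset.mem_univ i)
  let y : Fin N ⊕ S.ι → H := Sum.elim x S.t
  have hg' : ∀ i, aeval y (g i) = φ (x i) := hg
  let v : Fin N ⊕ S.ι → MvPolynomial (Fin N ⊕ S.ι) H :=
    Sum.elim (fun i => map (algebraMap A H) (g i) - C (x i))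
      (fun l => map (algebraMap A H) (S.P l))
  have hev : ∀ (b : Fin N ⊕ S.ι → H) (p : MvPolynomial (Fin N ⊕ S.ι) A),
      eval b (map (algebraMap A H) p) = aeval b p := fun b p => by
    rw [eval_map]; rfl
  have hpd : ∀ (b : Fin N ⊕ S.ι → H) (p : MvPolynomial (Fin N ⊕ S.ι) A) j,
      eval b (pderiv j (map (algebraMap A H) p)) = aeval b (pderiv j p) := fun b p j => by
    rw [pderiv_map, hev]
  have h₀ : ∀ i, eval y (v i) ∈ maximalIdeal H := by
    rintro (i | l)
    · simp only [v, Sum.elim_inl, map_sub, eval_C, hev, hg']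
      exact sub_mem (hφ i) (hH.mem i)
    · simp only [v, Sum.elim_inr, hev]
      rw [S.root]; exact zero_mem _
  let gx : Matrix (Fin N) (Fin N) H := Matrix.of fun i j => aeval y (pderiv (Sum.inl j) (g i))
  let gt : Matrix (Fin N) S.ι H := Matrix.of fun i j => aeval y (pderiv (Sum.inr j) (g i))
  let Px : Matrix S.ι (Fin N) H := Matrix.of fun l j => aeval y (pderiv (Sum.inl j) (S.P l))
  let Pt : Matrix S.ι S.ι H := Matrix.of fun l j => aeval y (pderiv (Sum.inr j) (S.P l))
  let D : Matrix S.ι (Fin N) H := Matrix.of fun l j => hH.pd j (S.t l)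
  let Jac : Matrix (Fin N) (Fin N) H := Matrix.of fun i j => hH.pd j (φ (x i))
  have hchain : ∀ (p : MvPolynomial (Fin N ⊕ S.ι) A) j, hH.pd j (aeval y p) =
      aeval y (pderiv (Sum.inl j) p) + ∑ l, aeval y (pderiv (Sum.inr l) p) * D l j := by
    intro p j
    rw [derivation_aeval, Fintype.sum_sum_type]
    congr 1
    simp [y, hH.pd_x]
  have e1 : gx + gt * D = Jac := by
    ext i j
    simp only [Matrix.add_apply, Matrix.mul_apply, gx, gt, Jac, Matrix.of_apply, ← hg', hchain]
  have e2 : Px + Pt * D = 0 := by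
    ext l j
    simp only [Matrix.add_apply, Matrix.mul_apply, Px, Pt, Matrix.of_apply, Matrix.zero_apply]
    rw [← hchain, S.root, map_zero]
  have hJac : IsUnit Jac.det := by
    refine IsUnit.of_map (residue H) _ ?_
    rw [RingHom.map_det]
    exact hJ
  have hM : IsUnit (Matrix.fromBlocks gx gt Px Pt).det := by
    have := congrArg Matrix.det (Matrix.fromBlocks_multiply gx gt Px Pt
      (1 : Matrix (Fin N) (Fin N) H) (0 : Matrix (Fin N) S.ι H) D (1 : Matrix S.ι S.ι H))
    rw [Matrix.det_mul, Matrix.det_fromBlocks_zero₁₂] at this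
    simp only [Matrix.det_one, mul_one, Matrix.mul_one, Matrix.mul_zero, zero_add, e1, e2,
      Matrix.det_fromBlocks_zero₂₁] at this
    rw [this]
    exact hJac.mul S.det
  have hJ' : IsUnit (Ideal.Quotient.mk (maximalIdeal H)
      (Matrix.of fun i j => eval y (pderiv j (v i))).det) := by
    refine IsUnit.map _ ?_
    rw [show (Matrix.of fun i j => eval y (pderiv j (v i))) = Matrix.fromBlocks gx gt Px Pt from ?_]
    · exact hM
    ext (i | i) (j | j) <;> simp [v, hpd, gx, gt, Px, Pt]
  obtain ⟨b, hb, hby⟩ := Hensel.exists_root_of_isUnit_jacobian (maximalIdeal H) v y h₀ hJ'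
  have hbm : ∀ i, b (Sum.inl i) ∈ maximalIdeal H := fun i => by
    have := add_mem (hby (Sum.inl i)) (hH.mem i)
    simpa [y] using this
  let ψ := hH.endo (fun i => b (Sum.inl i)) hbm
  have hψm : ∀ i, ψ (x i) ∈ maximalIdeal H := fun i => by rw [hH.endo_x]; exact hbm i
  have hψy : ψ ∘ y = Sum.elim (b ∘ Sum.inl) (ψ ∘ S.t) := by
    ext (i | i)
    · exact hH.endo_x _ _ i
    · rfl
  have hψ : ∀ p, ψ (aeval y p) = aeval (Sum.elim (b ∘ Sum.inl) (ψ ∘ S.t)) p := fun p => by
    rw [← hψy, comp_aeval_apply]; rfl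
  -- the second block of the root is the image of the auxiliary roots
  have hbt : b ∘ Sum.inr = ψ ∘ S.t := by
    let T : MvPolynomial (Fin N ⊕ S.ι) A →ₐ[A] MvPolynomial S.ι H :=
      aeval (Sum.elim (fun i => C (b (Sum.inl i))) X)
    have hT : ∀ (a : S.ι → H) p, eval a (T p) = aeval (Sum.elim (b ∘ Sum.inl) a) p := by
      intro a p
      have : ((aeval (R := H) a).restrictScalars A).comp T =
          aeval (Sum.elim (b ∘ Sum.inl) a) := by
        ext (i | i) <;> simp [T]
      simpa using AlgHom.congr_fun this p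
    refine root_unique (fun l => T (S.P l)) (ψ ∘ S.t) (b ∘ Sum.inr) (fun l => ?_) (fun l => ?_)
      (fun l => ?_) ?_
    · rw [hT, ← hψ, S.root, map_zero]
    · have := hb (Sum.inr l)
      simp only [v, Sum.elim_inr, hev] at this
      rw [hT]
      convert this using 3
      ext (i | i) <;> rfl
    · have h1 : b (Sum.inr l) - S.t l ∈ maximalIdeal H := hby (Sum.inr l)
      have h2 := hH.endo_sub_mem ψ hψm (S.t l)
      simpa using sub_mem h1 h2
    · have : (Matrix.of fun l j => eval (ψ ∘ S.t) (pderiv j (T (S.P l)))) =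
          ψ.toRingHom.mapMatrix Pt := by
        ext l j
        simp only [Matrix.of_apply, RingHom.mapMatrix_apply, Matrix.map_apply, Pt,
          AlgHom.toRingHom_eq_coe, RingHom.coe_coe, hψ]
        rw [← hT]
        congr 1
        rw [show pderiv j (T (S.P l)) = ((pderiv j).restrictScalars A) (T (S.P l)) from rfl,
          derivation_aeval, Fintype.sum_sum_type]
        simp [T, pderiv_X, Pi.single_apply, eq_comm (a := j)]
      rw [this, ← RingHom.map_det]
      exact S.det.map _
  refine ⟨ψ, hψm, hH.endo_ext (fun i => ?_) fun i => ?_⟩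
  · exact hH.map_mem_maximalIdeal hH.isLocalHom ψ hψm (hφ i)
  · show ψ (φ (x i)) = x i
    rw [← hg', hψ, ← hbt]
    have := hb (Sum.inl i)
    simp only [v, Sum.elim_inl, map_sub, eval_C, hev, sub_eq_zero] at this
    rw [← this]
    congr 2
    ext (i | i) <;> rfl

/-- The inverse function theorem. -/
theorem bijective_of_isUnit_jac (φ : H →ₐ[A] H) (hφ : ∀ i, φ (x i) ∈ maximalIdeal H)
    (hJ : IsUnit (hH.jac fun i => φ (x i)).det) : Function.Bijective φ := by
  obtain ⟨ψ, hψm, hψ⟩ := hH.exists_leftInverse φ hφ hJ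
  have hd := congrArg Matrix.det (hH.jac_comp ψ φ hψm)
  rw [show (fun i => ψ (φ (x i))) = x from funext fun i => AlgHom.congr_fun hψ (x i), hH.jac_id,
    Matrix.det_one, Matrix.det_mul] at hd
  obtain ⟨χ, -, hχ⟩ := hH.exists_leftInverse ψ hψm
    (IsUnit.mul_iff.1 (hd ▸ isUnit_one)).2
  refine ⟨(Function.LeftInverse.injective (g := ψ) (AlgHom.congr_fun hψ)),
    Function.RightInverse.surjective (g := ψ) fun h => ?_⟩
  calc φ (ψ h) = χ (ψ (φ (ψ h))) := (AlgHom.congr_fun hχ _).symm
    _ = χ (ψ h) := congrArg χ (AlgHom.congr_fun hψ _)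
    _ = h := AlgHom.congr_fun hχ h

/-- The automorphism with given values on the variables. -/
theorem exists_automorphism (y : Fin N → H) (hy : ∀ i, y i ∈ maximalIdeal H)
    (hJ : IsUnit (hH.jac y).det) : ∃ φ : H ≃ₐ[A] H, ∀ i, φ (x i) = y i := by
  have h1 : (fun i => hH.endo y hy (x i)) = y := funext (hH.endo_x y hy)
  exact ⟨AlgEquiv.ofBijective (hH.endo y hy) (hH.bijective_of_isUnit_jac _
    (fun i => by rw [hH.endo_x]; exact hy i) (by rw [h1]; exact hJ)), hH.endo_x y hy⟩

end IsHS

theorem sub_C_eval_zero_mem {R : Type u} [CommRing R] (p : MvPolynomial (Fin N) R) :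
    p - C (eval 0 p) ∈ Ideal.span (Set.range (X : Fin N → MvPolynomial (Fin N) R)) := by
  induction p using MvPolynomial.induction_on with
  | C a => simp
  | add p q hp hq =>
    convert add_mem hp hq using 1
    simp only [map_add]; ring
  | mul_X p i _ => simp [Ideal.mul_mem_left _ p (Ideal.subset_span (Set.mem_range_self i))]

/-- The origin ideal is the kernel of the evaluation at the closed point. -/
theorem originIdeal_eq_ker :
    VanCyc.originIdeal A (N := N) =
      RingHom.ker ((residue A).comp (eval (0 : Fin N → A))) := by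
  refine le_antisymm (sup_le (Ideal.map_le_iff_le_comap.2 fun a ha => ?_) (Ideal.span_le.2 ?_))
    fun p hp => ?_
  · simpa [residue_eq_zero_iff] using ha
  · rintro _ ⟨i, rfl⟩; simp
  · rw [← sub_add_cancel p (C (eval 0 p))]
    refine add_mem (Submodule.mem_sup_right (sub_C_eval_zero_mem p)) (Submodule.mem_sup_left ?_)
    exact Ideal.mem_map_of_mem _ ((residue_eq_zero_iff _).1 hp)

theorem isMaximal_originIdeal : (VanCyc.originIdeal A (N := N)).IsMaximal := by
  rw [originIdeal_eq_ker]
  exact RingHom.ker_isMaximal_of_surjective _ (residue_surjective.comp fun a => ⟨C a, eval_C _⟩)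

theorem isLocalHom_of_map_le {R S : Type*} [CommRing R] [CommRing S] [IsLocalRing R]
    [IsLocalRing S] (f : R →+* S) (h : (maximalIdeal R).map f ≤ maximalIdeal S) : IsLocalHom f :=
  ((local_hom_TFAE f).out 0 2).2 h

/-- Any henselization of `A[x]` at the origin is a henselian series ring. -/
theorem isHS_of_isHenselization {N : ℕ} [hp : (VanCyc.originIdeal A (N := N)).IsPrime]
    (H : Type u) [CommRing H] [HenselianLocalRing H]
    [Algebra (Localization.AtPrime (VanCyc.originIdeal A (N := N))) H]
    [IsLocalHom (algebraMap (Localization.AtPrime (VanCyc.originIdeal A (N := N))) H)]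
    [hh : Hensel.IsHenselization (Localization.AtPrime (VanCyc.originIdeal A (N := N))) H]
    [Algebra A H] [IsScalarTower A (Localization.AtPrime (VanCyc.originIdeal A (N := N))) H] :
    IsHS A H (fun i => algebraMap (Localization.AtPrime (VanCyc.originIdeal A (N := N))) H
      (algebraMap (MvPolynomial (Fin N) A) _ (X i))) := by
  let M := VanCyc.originIdeal A (N := N)
  let L := Localization.AtPrime M
  have hXm : ∀ i, (X i : MvPolynomial (Fin N) A) ∈ M := fun i =>
    Submodule.mem_sup_right (Ideal.subset_span ⟨i, rfl⟩)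
  have hlL : ∀ {p : MvPolynomial (Fin N) A}, p ∈ M → algebraMap L H (algebraMap _ L p) ∈
      maximalIdeal H := fun {p} hp => by
    rw [mem_maximalIdeal, mem_nonunits_iff, isUnit_map_iff]
    exact (mem_maximalIdeal _).1 ((IsLocalization.AtPrime.to_map_mem_maximal_iff L M p).2 hp)
  refine ⟨isLocalHom_of_map_le _ (Ideal.map_le_iff_le_comap.2 fun a ha => ?_),
    fun i => hlL (hXm i), fun T _ _ _ hT y hy => ?_⟩
  · show algebraMap A H a ∈ maximalIdeal H
    rw [IsScalarTower.algebraMap_apply A L H,
      IsScalarTower.algebraMap_apply A (MvPolynomial (Fin N) A) L]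
    exact hlL (Submodule.mem_sup_left (Ideal.mem_map_of_mem _ ha))
  · have hle : M ≤ (maximalIdeal T).comap (aeval y).toRingHom := by
      refine sup_le (Ideal.map_le_iff_le_comap.2 fun a ha => ?_) (Ideal.span_le.2 ?_)
      · simp only [Ideal.mem_comap, AlgHom.toRingHom_eq_coe, RingHom.coe_coe, aeval_C]
        simp only [mem_maximalIdeal, mem_nonunits_iff, isUnit_map_iff] at ha ⊢
        exact ha
      · rintro _ ⟨i, rfl⟩
        simpa using hy i
    have hMeq : M = (maximalIdeal T).comap (aeval y).toRingHom :=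
      isMaximal_originIdeal.eq_of_le (Ideal.comap_ne_top _ (maximalIdeal.isMaximal T).ne_top) hle
    have hunit : ∀ p : M.primeCompl, IsUnit (aeval y (p : MvPolynomial (Fin N) A)) := fun p => by
      by_contra h
      exact p.2 (hMeq.ge ((mem_maximalIdeal _).2 h))
    let f : L →ₐ[A] T := IsLocalization.liftAlgHom hunit
    have hf : IsLocalHom f.toRingHom := isLocalHom_of_map_le _ (by
      rw [← Localization.AtPrime.map_eq_maximalIdeal, Ideal.map_map,
        show f.toRingHom.comp (algebraMap _ L) = (aeval y).toRingHom from IsLocalization.lift_comp _]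
      exact Ideal.map_le_iff_le_comap.2 hle)
    obtain ⟨g, hg, hu⟩ := hh.universal T f.toRingHom hf
    have hfp : ∀ p, f (algebraMap _ L p) = aeval y p := IsLocalization.lift_eq _
    refine ⟨⟨g, fun a => ?_⟩, fun i => ?_, fun g' hg' => ?_⟩
    · show g (algebraMap A H a) = _
      rw [IsScalarTower.algebraMap_apply A L H]
      exact (DFunLike.congr_fun hg _).trans (f.commutes a)
    · exact (DFunLike.congr_fun hg _).trans ((hfp _).trans (aeval_X _ _))
    · refine AlgHom.coe_ringHom_injective (hu g'.toRingHom ?_)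
      refine IsLocalization.ringHom_ext M.primeCompl ?_
      refine MvPolynomial.ringHom_ext (fun a => ?_) fun i => ?_
      · show g' (algebraMap L H (algebraMap _ L (C a))) = f (algebraMap _ L (C a))
        rw [hfp, aeval_C, ← MvPolynomial.algebraMap_eq,
          ← IsScalarTower.algebraMap_apply A (MvPolynomial (Fin N) A) L,
          ← IsScalarTower.algebraMap_apply A L H, g'.commutes]
      · show g' _ = f (algebraMap _ L (X i))
        rw [hfp, aeval_X]
        exact hg' i

variable (A) in
/-- Henselian series rings exist. -/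
theorem exists_isHS (N : ℕ) : ∃ (H : Type u) (_ : CommRing H) (_ : HenselianLocalRing H)
    (_ : Algebra A H) (x : Fin N → H), IsHS A H x := by
  haveI : (VanCyc.originIdeal A (N := N)).IsPrime := isMaximal_originIdeal.isPrime
  let L := Localization.AtPrime (VanCyc.originIdeal A (N := N))
  let : Algebra A (Hensel.LocalHenz L) :=
    Algebra.compHom _ (algebraMap A L)
  have : IsScalarTower A L (Hensel.LocalHenz L) := .of_algebraMap_eq' rfl
  exact ⟨Hensel.LocalHenz L, _, inferInstance, _, _, isHS_of_isHenselization _⟩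

end Groth.Agent.HensMorse
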