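import Groth.Agent.HensMorse.Inverse

/-!
# The Morse lemma in henselian series rings
-/

noncomputable section

namespace Groth.Agent.HensMorse

open IsLocalRing Matrix

universe u

section fold

variable {R : Type u} [CommRing R] {r : ℕ}

/-- The upper triangular table of the quadratic form `z ↦ zᵀ Z z`. -/
def fold (Z : Matrix (Fin r) (Fin r) R) : Matrix (Fin r) (Fin r) R :=
  fun i j => if i = j then Z i j else if i < j then Z i j + Z j i else 0

theorem dotProduct_fold (Z : Matrix (Fin r) (Fin r) R) (z : Fin r → R) :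
    z ⬝ᵥ (fold Z *ᵥ z) = z ⬝ᵥ (Z *ᵥ z) := by
  have h1 : ∀ i j, z i * (fold Z i j * z j) =
      (if i ≤ j then z i * (Z i j * z j) else 0) + (if i < j then z i * (Z j i * z j) else 0) := by
    intro i j
    rcases lt_trichotomy i j with h | h | h
    · simp only [fold, h.ne, if_false, h, if_true, h.le]; ring
    · subst h; simp [fold]
    · simp [fold, h.ne', not_lt.2 h.le, not_le.2 h]
  simp only [dotProduct, mulVec, Finset.mul_sum, h1, Finset.sum_add_distrib]
  conv_lhs =>
    arg 2
    rw [Finset.sum_comm]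
  rw [← Finset.sum_add_distrib]
  refine Finset.sum_congr rfl fun i _ => ?_
  rw [← Finset.sum_add_distrib]
  refine Finset.sum_congr rfl fun j _ => ?_
  rcases lt_or_ge j i with h | h
  · simp only [not_le.2 h, h, if_true, if_false, zero_add]; ring
  · simp only [h, not_lt.2 h, if_true, if_false, add_zero]

theorem fold_map {S : Type*} [CommRing S] (f : R →+* S) (Z : Matrix (Fin r) (Fin r) R) :
    fold (Z.map f) = (fold Z).map f := by
  ext i j
  simp only [fold, Matrix.map_apply]
  split_ifs <;> simp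

/-- The upper triangular matrix of a coefficient table. -/
def upper (a : Fin r → Fin r → R) : Matrix (Fin r) (Fin r) R :=
  fun i j => if i ≤ j then a i j else 0

theorem upper_add_transpose (a : Fin r → Fin r → R) :
    upper a + (upper a)ᵀ = VanCyc.polarMatrix a := by
  ext i j
  rcases lt_trichotomy i j with h | h | h
  · simp [upper, VanCyc.polarMatrix, h.ne, h, h.le, not_le.2 h]
  · subst h; simp [upper, VanCyc.polarMatrix, two_mul]
  · simp [upper, VanCyc.polarMatrix, h.ne', not_lt.2 h.le, h.le, not_le.2 h]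

theorem polarMatrix_fold (Z : Matrix (Fin r) (Fin r) R) :
    VanCyc.polarMatrix (fold Z) = Z + Zᵀ := by
  ext i j
  rcases lt_trichotomy i j with h | h | h
  · simp [fold, VanCyc.polarMatrix, h.ne, h]
  · subst h; simp [fold, VanCyc.polarMatrix, two_mul]
  · simp [fold, VanCyc.polarMatrix, h.ne', h.ne, not_lt.2 h.le, h, add_comm]

theorem polarMatrix_map {S : Type*} [CommRing S] (f : R →+* S) (a : Fin r → Fin r → R) :
    (VanCyc.polarMatrix a).map f = VanCyc.polarMatrix fun i j => f (a i j) := by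
  ext i j
  simp only [VanCyc.polarMatrix, Matrix.map_apply]
  split_ifs <;> simp [map_ofNat]

theorem aeval_quadPoly {S : Type*} [CommRing S] [Algebra R S] (a : Fin r → Fin r → R)
    (z : Fin r → S) :
    MvPolynomial.aeval z (VanCyc.quadPoly a) =
      z ⬝ᵥ ((upper a).map (algebraMap R S) *ᵥ z) := by
  simp only [VanCyc.quadPoly, map_sum, dotProduct, mulVec, Finset.mul_sum, upper, Matrix.map_apply]
  refine Finset.sum_congr rfl fun i _ => Finset.sum_congr rfl fun j _ => ?_
  split_ifs <;> simp <;> ring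

theorem upper_fold (Z : Matrix (Fin r) (Fin r) R) : upper (fold Z) = fold Z := by
  ext i j
  by_cases h : i ≤ j
  · simp [upper, h]
  · have h' : j < i := lt_of_not_ge h
    simp [upper, fold, h, h'.ne', not_lt.2 h'.le]

theorem dotProduct_mulVec_swap (u v : Fin r → R) (Z : Matrix (Fin r) (Fin r) R) :
    u ⬝ᵥ (Z *ᵥ v) = v ⬝ᵥ (Zᵀ *ᵥ u) := by
  rw [dotProduct_comm v, mulVec_transpose, dotProduct_mulVec]

theorem quad_identity (U₀ U : Matrix (Fin r) (Fin r) R) (z : Fin r → R) :
    (z + U *ᵥ z) ⬝ᵥ (U₀ *ᵥ (z + U *ᵥ z)) =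
      z ⬝ᵥ ((U₀ + (U₀ + U₀ᵀ) * U + Uᵀ * U₀ * U) *ᵥ z) := by
  have h1 : (U *ᵥ z) ⬝ᵥ (U₀ *ᵥ z) = z ⬝ᵥ (U₀ᵀ *ᵥ (U *ᵥ z)) := dotProduct_mulVec_swap _ _ _
  have h2 : (U *ᵥ z) ⬝ᵥ (U₀ *ᵥ (U *ᵥ z)) = z ⬝ᵥ (Uᵀ *ᵥ (U₀ *ᵥ (U *ᵥ z))) := by
    rw [dotProduct_comm, dotProduct_mulVec_swap]
  simp only [Matrix.add_mulVec, ← Matrix.mulVec_mulVec, Matrix.mulVec_add, dotProduct_add,
    add_dotProduct, h1, h2]
  abel

end fold

variable {A : Type u} [CommRing A] [HenselianLocalRing A] {H : Type u} [CommRing H]
  [HenselianLocalRing H] [Algebra A H] {N : ℕ} {x : Fin N → H} (hH : IsHS A H x)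

namespace IsHS

include hH

/-- The composite `A → H → H ⧸ 𝔪` is surjective. -/
theorem exists_residue_lift (c : ResidueField H) :
    ∃ a : A, residue H (algebraMap A H a) = c := by
  obtain ⟨h, rfl⟩ := residue_surjective c
  refine ⟨hH.eval0 h, ?_⟩
  rw [eq_comm, ← sub_eq_zero, ← map_sub, residue_eq_zero_iff]
  exact hH.sub_eval0_mem_maximalIdeal h

/-- The Morse lemma with parameters: a quadratic expression in some of the variables is
equivalent to its value at the closed point. -/
theorem exists_morse {r : ℕ} (e : Fin r → Fin N) (he : Function.Injective e)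
    (a : Fin r → Fin r → A) (ha : VanCyc.QuadNondeg a) (Q : Matrix (Fin r) (Fin r) H)
    (hQ : ∀ i j, i ≤ j → fold Q i j - algebraMap A H (a i j) ∈ maximalIdeal H) :
    ∃ φ : H ≃ₐ[A] H, (∀ h, φ (hH.proj (Finset.univ.image e) h) = hH.proj (Finset.univ.image e) h) ∧
      φ (MvPolynomial.aeval (x ∘ e) (VanCyc.quadPoly a)) = (x ∘ e) ⬝ᵥ (Q *ᵥ (x ∘ e)) := by
  classical
  let P := {p : Fin r × Fin r // p.1 ≤ p.2}
  let M := MvPolynomial P H
  let U₀ : Matrix (Fin r) (Fin r) H := (upper a).map (algebraMap A H)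
  let S : Matrix (Fin r) (Fin r) H := U₀ + U₀ᵀ
  have hS : IsUnit S.det := by
    have : S = (VanCyc.polarMatrix a).map (algebraMap A H) := by
      rw [← upper_add_transpose]
      ext i j
      simp [S, U₀]
    rw [this, ← RingHom.mapMatrix_apply, ← RingHom.map_det]
    exact ha.map _
  let D : P → H := fun p => fold Q p.1.1 p.1.2 - algebraMap A H (a p.1.1 p.1.2)
  let Tm : Matrix (Fin r) (Fin r) M :=
    fun i j => if h : i ≤ j then MvPolynomial.X (⟨(i, j), h⟩ : P) else 0
  let U : Matrix (Fin r) (Fin r) M := (S⁻¹).map MvPolynomial.C * Tm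
  let Z : Matrix (Fin r) (Fin r) M := Uᵀ * U₀.map MvPolynomial.C * U
  let v : P → M := fun p => MvPolynomial.X p + fold Z p.1.1 p.1.2 - MvPolynomial.C (D p)
  let ev : M →+* H := MvPolynomial.eval (0 : P → H)
  have hU0 : ∀ i j, ev (U i j) = 0 := fun i j => by
    simp only [U, Matrix.mul_apply, map_sum, map_mul]
    refine Finset.sum_eq_zero fun l _ => ?_
    by_cases h : l ≤ j
    · refine mul_eq_zero_of_right _ ?_
      simp only [Tm, dif_pos h, ev]
      exact MvPolynomial.eval_X _
    · simp only [Tm, dif_neg h, map_zero, mul_zero]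
  have hZ0 : ∀ i j, ev (Z i j) = 0 := fun i j => by
    simp only [Z, Matrix.mul_apply, map_sum, map_mul, hU0, mul_zero, Finset.sum_const_zero]
  have hdZ : ∀ p i j, ev (MvPolynomial.pderiv p (Z i j)) = 0 := fun p i j => by
    simp only [Z, Matrix.mul_apply, Matrix.transpose_apply, Finset.sum_mul, map_sum,
      Derivation.leibniz, smul_eq_mul, map_add, map_mul, hU0, mul_zero, zero_mul, add_zero,
      Finset.sum_const_zero]
  have hv : ∀ p, ev (v p) ∈ maximalIdeal H := fun p => by
    have : ev (fold Z p.1.1 p.1.2) = 0 := by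
      simp only [fold]; split_ifs <;> simp [hZ0]
    simp only [v, map_sub, map_add, this]
    rw [show ev (MvPolynomial.X p) = 0 from MvPolynomial.eval_X _,
      show ev (MvPolynomial.C (D p)) = D p from MvPolynomial.eval_C _]
    simpa [D] using neg_mem (hQ p.1.1 p.1.2 p.2)
  have hJ : (Matrix.of fun p q => ev (MvPolynomial.pderiv q (v p))) = 1 := by
    ext p q
    have : ev (MvPolynomial.pderiv q (fold Z p.1.1 p.1.2)) = 0 := by
      simp only [fold]; split_ifs <;> simp [hdZ]
    simp only [v, Matrix.of_apply, map_sub, map_add, this, MvPolynomial.pderiv_C, map_zero,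
      sub_zero, add_zero, MvPolynomial.pderiv_X, Matrix.one_apply, Pi.single_apply]
    split_ifs with h₁
    · simp [ev]
    · simp [ev]
  obtain ⟨t, ht, ht0⟩ := Hensel.exists_root_of_isUnit_jacobian (maximalIdeal H) v 0 hv
    (by
      refine IsUnit.map _ ?_
      rw [show (Matrix.of fun p q => MvPolynomial.eval 0 (MvPolynomial.pderiv q (v p))) =
        (1 : Matrix P P H) from hJ, Matrix.det_one]
      exact isUnit_one)
  let et : M →+* H := MvPolynomial.eval t
  let T : Matrix (Fin r) (Fin r) H := fun i j => if h : i ≤ j then t ⟨(i, j), h⟩ else 0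
  have hT : ∀ i j, T i j ∈ maximalIdeal H := fun i j => by
    simp only [T]
    split_ifs with h
    · simpa using ht0 ⟨(i, j), h⟩
    · exact zero_mem _
  have hTm : Tm.map et = T := by
    ext i j
    by_cases h : i ≤ j
    · show et (Tm i j) = T i j
      simp only [Tm, T, dif_pos h, et]
      exact MvPolynomial.eval_X _
    · show et (Tm i j) = T i j
      simp only [Tm, T, dif_neg h, map_zero]
  let V : Matrix (Fin r) (Fin r) H := S⁻¹ * T
  have hV : ∀ i j, V i j ∈ maximalIdeal H := fun i j =>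
    show ∑ l, S⁻¹ i l * T l j ∈ _ from Ideal.sum_mem _ fun l _ => Ideal.mul_mem_left _ _ (hT l j)
  have hetC : ∀ (W : Matrix (Fin r) (Fin r) H), (W.map MvPolynomial.C).map et = W := fun W => by
    ext i j; exact MvPolynomial.eval_C _
  have hU : U.map et = V := by
    rw [Matrix.map_mul, hetC, hTm]
  have hZ : Z.map et = Vᵀ * U₀ * V := by
    rw [Matrix.map_mul, Matrix.map_mul, hetC, hU, Matrix.transpose_map, hU]
  have heq : U₀ + T + fold (Vᵀ * U₀ * V) = fold Q := by
    ext i j
    rw [← hZ, fold_map]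
    by_cases h : i ≤ j
    · have := ht ⟨(i, j), h⟩
      simp only [v, D, map_sub, map_add, MvPolynomial.eval_X, MvPolynomial.eval_C] at this
      show algebraMap A H (upper a i j) + T i j + et (fold Z i j) = fold Q i j
      simp only [T, upper, h, dif_pos, if_true]
      linear_combination this
    · have h' : j < i := lt_of_not_ge h
      show algebraMap A H (upper a i j) + T i j + et (fold Z i j) = fold Q i j
      simp [T, upper, fold, h, h'.ne', not_lt.2 h'.le]
  let z : Fin r → H := x ∘ e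
  let y : Fin N → H := Function.extend e (z + V *ᵥ z) x
  have hye : ∀ l, y (e l) = z l + (V *ᵥ z) l := fun l => by
    simp [y, he.extend_apply]
  have hyo : ∀ i, i ∉ Finset.univ.image e → y i = x i := fun i hi => by
    simp only [y]
    exact Function.extend_apply' _ _ _ (by simpa using hi)
  have hVz : ∀ l, (V *ᵥ z) l ∈ maximalIdeal H := fun l =>
    show ∑ m, V l m * z m ∈ _ from Ideal.sum_mem _ fun m _ => Ideal.mul_mem_right _ _ (hV l m)
  have hy : ∀ i, y i ∈ maximalIdeal H := fun i => by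
    by_cases hi : i ∈ Finset.univ.image e
    · obtain ⟨l, -, rfl⟩ := Finset.mem_image.1 hi
      rw [hye]; exact add_mem (hH.mem _) (hVz l)
    · rw [hyo i hi]; exact hH.mem i
  have hjac : hH.jac y = 1 := by
    rw [← hH.jac_id]
    ext i j
    simp only [jac]
    by_cases hi : i ∈ Finset.univ.image e
    · obtain ⟨l, -, rfl⟩ := Finset.mem_image.1 hi
      have hx0 : ∀ m, residue H (x m) = 0 := fun m => (residue_eq_zero_iff _).2 (hH.mem m)
      have hV0 : ∀ m, residue H (V l m) = 0 := fun m => (residue_eq_zero_iff _).2 (hV l m)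
      simp [hye, z, mulVec, dotProduct, map_sum, hx0, hV0, apply_ite (residue H)]
    · rw [hyo i hi]
  obtain ⟨φ, hφ⟩ := hH.exists_automorphism y hy (by rw [hjac, Matrix.det_one]; exact isUnit_one)
  refine ⟨φ, fun h => ?_, ?_⟩
  · refine AlgHom.congr_fun (hH.endo_ext (f := φ.toAlgHom.comp (hH.proj _))
      (g := hH.proj _) (fun i => ?_) fun i => ?_) h
    · simp only [AlgHom.comp_apply, hH.proj_x]
      split_ifs with hi
      · simp
      · simp [hφ, hy]
    · simp only [AlgHom.comp_apply, hH.proj_x]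
      split_ifs with hi
      · simp
      · simp [hφ, hyo i hi]
  · have h1 : φ.toAlgHom (MvPolynomial.aeval (x ∘ e) (VanCyc.quadPoly a)) =
        MvPolynomial.aeval (z + V *ᵥ z) (VanCyc.quadPoly a) := by
      rw [MvPolynomial.comp_aeval_apply]
      congr 2
      funext l
      simp [hφ, hye]
    rw [show φ _ = φ.toAlgHom _ from rfl, h1, aeval_quadPoly]
    show (z + V *ᵥ z) ⬝ᵥ (U₀ *ᵥ (z + V *ᵥ z)) = z ⬝ᵥ (Q *ᵥ z)
    have hSV : (U₀ + U₀ᵀ) * V = T := by
      show S * (S⁻¹ * T) = T
      rw [← Matrix.mul_assoc, Matrix.mul_nonsing_inv S hS, Matrix.one_mul]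
    rw [quad_identity, hSV, ← dotProduct_fold Q, ← heq]
    simp only [Matrix.add_mulVec, dotProduct_add, dotProduct_fold]

/-- Normal form at a critical point in the variables of `s`. -/
theorem exists_critical (s : Finset (Fin N)) (F : H)
    (hd : ∀ i ∈ s, hH.pd i F ∈ maximalIdeal H)
    (hJ : IsUnit (hH.jac fun i => if i ∈ s then hH.pd i F else x i).det) :
    ∃ (σ : Fin N → H) (τ : H ≃ₐ[A] H) (Q : Fin N → Fin N → H),
      (∀ i, σ i ∈ maximalIdeal H) ∧ (∀ i, hH.proj s (σ i) = σ i) ∧
      (∀ i ∉ s, σ i = x i) ∧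
      (∀ i, τ (x i) = if i ∈ s then x i + σ i else x i) ∧
      (∀ i ∈ s, hH.proj s (τ (hH.pd i F)) = 0) ∧
      (∀ i ∉ s, (∀ j, Q i j = 0) ∧ ∀ j, Q j i = 0) ∧
      (∀ i ∈ s, ∀ j ∈ s, residue H (hH.pd j (hH.pd i F)) = residue H (Q i j) + residue H (Q j i)) ∧
      τ F = hH.proj s (τ F) + ∑ i, ∑ j, Q i j * x i * x j := by
  classical
  obtain ⟨φ, hφ⟩ := hH.exists_automorphism (fun i => if i ∈ s then hH.pd i F else x i)
    (fun i => by split_ifs with hi; exacts [hd i hi, hH.mem i]) hJ
  let ev : H →ₐ[A] H := (hH.proj s).comp φ.symm.toAlgHom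
  let σ : Fin N → H := fun i => ev (x i)
  have hφm : ∀ {h}, h ∈ maximalIdeal H → φ.symm h ∈ maximalIdeal H := fun {h} hh => by
    simpa [mem_nonunits_iff] using (mem_maximalIdeal _).1 hh
  have hπm : ∀ i, hH.proj s (x i) ∈ maximalIdeal H := fun i => by
    rw [hH.proj_x]; split_ifs; exacts [zero_mem _, hH.mem i]
  have hσm : ∀ i, σ i ∈ maximalIdeal H := fun i =>
    hH.map_mem_maximalIdeal hH.isLocalHom _ hπm (hφm (hH.mem i))
  have hidem : ∀ y, hH.proj s (hH.proj s y) = hH.proj s y := by
    intro y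
    refine AlgHom.congr_fun (hH.endo_ext (f := (hH.proj s).comp (hH.proj s)) (g := hH.proj s)
      (fun i => ?_) fun i => ?_) y
    · exact hH.map_mem_maximalIdeal hH.isLocalHom _ hπm (hπm i)
    · simp only [AlgHom.comp_apply, hH.proj_x]
      split_ifs with hi
      · simp
      · simp [hH.proj_x, hi]
  have hσout : ∀ i ∉ s, σ i = x i := fun i hi => by
    have : φ.symm (x i) = x i := by rw [AlgEquiv.symm_apply_eq, hφ, if_neg hi]
    simp [σ, ev, this, hH.proj_x, hi]
  let yp : Fin N → H := fun i => if i ∈ s then x i + σ i else x i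
  let ym : Fin N → H := fun i => if i ∈ s then x i - σ i else x i
  have hyp : ∀ i, yp i ∈ maximalIdeal H := fun i => by
    simp only [yp]; split_ifs; exacts [add_mem (hH.mem i) (hσm i), hH.mem i]
  have hym : ∀ i, ym i ∈ maximalIdeal H := fun i => by
    simp only [ym]; split_ifs; exacts [sub_mem (hH.mem i) (hσm i), hH.mem i]
  let tp := hH.endo yp hyp
  let tm := hH.endo ym hym
  have hfix : ∀ (t : H →ₐ[A] H), (∀ i ∉ s, t (x i) = x i) → ∀ h,
      t (hH.proj s h) = hH.proj s h := by
    intro t ht h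
    refine AlgHom.congr_fun (hH.endo_ext (f := t.comp (hH.proj s)) (g := hH.proj s)
      (fun i => ?_) fun i => ?_) h
    · simp only [AlgHom.comp_apply, hH.proj_x]
      split_ifs with hi
      · simp
      · simp [ht i hi, hH.mem]
    · simp only [AlgHom.comp_apply, hH.proj_x]
      split_ifs with hi
      · simp
      · simp [ht i hi]
  have htp : ∀ h, tp (hH.proj s h) = hH.proj s h := hfix tp fun i hi => by simp [tp, yp, hi]
  have htm : ∀ h, tm (hH.proj s h) = hH.proj s h := hfix tm fun i hi => by simp [tm, ym, hi]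
  have hσfix : ∀ i, hH.proj s (σ i) = σ i := fun i => hidem _
  have hinv₁ : tp.comp tm = AlgHom.id A H := hH.endo_ext (fun i => by
      exact hH.map_mem_maximalIdeal hH.isLocalHom tp (fun i => by simp [tp, hyp]) (by simp [tm, hym]))
    fun i => by
      simp only [AlgHom.comp_apply, tm, hH.endo_x, ym, AlgHom.id_apply]
      split_ifs with hi
      · rw [map_sub, ← hσfix i, htp, hσfix]
        simp [tp, yp, hi]
      · simp [tp, yp, hi]
  have hinv₂ : tm.comp tp = AlgHom.id A H := hH.endo_ext (fun i => by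
      exact hH.map_mem_maximalIdeal hH.isLocalHom tm (fun i => by simp [tm, hym]) (by simp [tp, hyp]))
    fun i => by
      simp only [AlgHom.comp_apply, tp, hH.endo_x, yp, AlgHom.id_apply]
      split_ifs with hi
      · rw [map_add, ← hσfix i, htm, hσfix]
        simp [tm, ym, hi]
      · simp [tm, ym, hi]
  let τ : H ≃ₐ[A] H := AlgEquiv.ofAlgHom tp tm hinv₁ hinv₂
  have hev : (hH.proj s).comp tp = ev := hH.endo_ext (fun i => by
      exact hH.map_mem_maximalIdeal hH.isLocalHom _ hπm (by simp [tp, hyp]))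
    fun i => by
      simp only [AlgHom.comp_apply, tp, hH.endo_x, yp]
      split_ifs with hi
      · rw [map_add, hH.proj_x, if_pos hi, zero_add, hσfix]
      · rw [hH.proj_x, if_neg hi]; exact (hσout i hi).symm
  have hev' : ∀ h, hH.proj s (tp h) = ev h := fun h => AlgHom.congr_fun hev h
  have hvan : ∀ i ∈ s, ev (hH.pd i F) = 0 := fun i hi => by
    have : φ.symm (hH.pd i F) = x i := by rw [AlgEquiv.symm_apply_eq, hφ, if_pos hi]
    simp [ev, this, hH.proj_x, hi]
  obtain ⟨L, Q, hout, hLfix, hexp⟩ := hH.exists_expansion₂ s (tp F)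
  have htmp : ∀ h, tm (tp h) = h := AlgHom.congr_fun hinv₂
  have hback := congrArg tm hexp
  rw [htmp] at hback
  simp only [map_add, map_sum, map_mul] at hback
  have hLm : ∀ i, tm (L i) = L i := fun i => by rw [← hLfix i, htm]
  have htx : ∀ i, tm (x i) = ym i := fun i => hH.endo_x _ _ i
  simp only [htm, hLm, htx] at hback
  have hdσ : ∀ i ∈ s, ∀ l, hH.pd i (ym l) = if l = i then 1 else 0 := fun i hi l => by
    simp only [ym]
    split_ifs with hl h₂ h₂
    · rw [map_sub, hH.pd_x, if_pos h₂, ← hσfix l, hH.pd_proj hi, sub_zero]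
    · rw [map_sub, hH.pd_x, if_neg h₂, ← hσfix l, hH.pd_proj hi, sub_zero]
    · rw [hH.pd_x, if_pos h₂]
    · rw [hH.pd_x, if_neg h₂]
  have hdL : ∀ i ∈ s, ∀ l, hH.pd i (L l) = 0 := fun i hi l => by rw [← hLfix l, hH.pd_proj hi]
  have hevy : ∀ l ∈ s, ev (ym l) = 0 := fun l hl => by
    have : tp (ym l) = x l := by
      rw [← htx, ← AlgHom.comp_apply, hinv₁, AlgHom.id_apply]
    rw [← hev', this, hH.proj_x, if_pos hl]
  have hevL : ∀ l, ev (L l) = L l := fun l => by rw [← hev', ← hLfix l, htp, hidem]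
  have hL0 : ∀ i, L i = 0 := by
    intro i
    by_cases hi : i ∈ s
    · have h1 := hvan i hi
      rw [hback] at h1
      simp only [map_add, map_sum, Derivation.leibniz, smul_eq_mul, hdσ i hi, hdL i hi,
        hH.pd_proj hi, map_mul, hevL] at h1
      have h2 : ∀ a b, ev (tm (Q a b)) * ev (ym a) = 0 ∧ ev (tm (Q a b)) * ev (ym b) = 0 := by
        intro a b
        constructor
        · by_cases ha : a ∈ s
          · simp [hevy a ha]
          · simp [(hout a ha).2.1 b]
        · by_cases hb : b ∈ s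
          · simp [hevy b hb]
          · simp [(hout b hb).2.2 a]
      rw [Finset.sum_eq_zero (fun a _ => Finset.sum_eq_zero fun b _ => ?_), add_zero] at h1
      · simpa using h1
      · simp only [apply_ite ev, map_one, map_zero, mul_ite, ite_mul, mul_zero, zero_mul]
        have ha := (h2 a b).1
        have hb := (h2 a b).2
        split_ifs <;> grind
    · exact (hout i hi).1
  refine ⟨σ, τ, Q, hσm, hσfix, hσout, fun i => hH.endo_x _ _ i, fun i hi => ?_,
    fun i hi => (hout i hi).2, fun i hi j hj => ?_, ?_⟩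
  · show hH.proj s (tp _) = 0
    rw [hev', hvan i hi]
  · have hy0 : ∀ l, residue H (ym l) = 0 := fun l => (residue_eq_zero_iff _).2 (hym l)
    rw [hback]
    simp [hL0, map_sum, hdσ i hi, hdσ j hj, hH.pd_proj hi, hy0,
      hH.residue_endo tm (fun l => by rw [htx]; exact hym l), apply_ite (hH.pd j),
      apply_ite (residue H)]
    simp [Finset.sum_add_distrib, Finset.sum_ite_eq', add_comm]
  · show tp F = _
    simp only [hL0, zero_mul, Finset.sum_const_zero, add_zero] at hexp
    exact hexp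

end IsHS

end Groth.Agent.HensMorse
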