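import Groth.Agent.HensMorse.Basic

/-!
# Implicit algebraic presentations in henselian series rings and the inverse function theorem
-/

noncomputable section

namespace Groth.Agent.HensMorse

open IsLocalRing MvPolynomial

universe u v

/-- Chain rule for derivations at an evaluated polynomial. -/
theorem derivation_aeval {A : Type u} [CommRing A] {H : Type u} [CommRing H] [Algebra A H]
    (D : Derivation A H H) {σ : Type v} [Fintype σ] [DecidableEq σ] (y : σ → H)
    (p : MvPolynomial σ A) : D (aeval y p) = ∑ i, aeval y (pderiv i p) * D (y i) := by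
  induction p using MvPolynomial.induction_on with
  | C a => simp
  | add p q hp hq => simp [hp, hq, add_mul, Finset.sum_add_distrib]
  | mul_X p l hp =>
    rw [map_mul, Derivation.leibniz, hp, aeval_X]
    simp only [smul_eq_mul, pderiv_mul, map_add, map_mul, aeval_X, add_mul, Finset.sum_add_distrib,
      pderiv_X]
    rw [add_comm]
    congr 1
    · rw [Finset.mul_sum]
      exact Finset.sum_congr rfl fun i _ => by ring
    · rw [Finset.sum_eq_single l]
      · simp [mul_comm]
      · intro b _ hb; simp [hb]
      · simp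

/-- A simple root of a square system in a local ring is unique in its residue class. -/
theorem root_unique {H : Type u} [CommRing H] [IsLocalRing H] {σ : Type v} [Fintype σ]
    [DecidableEq σ] (p : σ → MvPolynomial σ H) (a b : σ → H) (ha : ∀ l, eval a (p l) = 0)
    (hb : ∀ l, eval b (p l) = 0) (hab : ∀ l, b l - a l ∈ maximalIdeal H)
    (hJ : IsUnit (Matrix.of fun l j => eval a (pderiv j (p l))).det) : b = a := by
  classical
  set I : Ideal H := Ideal.span (Set.range fun l => b l - a l) with hI
  have hd : ∀ l, b l - a l ∈ I := fun l => Ideal.subset_span ⟨l, rfl⟩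
  have hIm : I ≤ maximalIdeal H := Ideal.span_le.2 (Set.range_subset_iff.2 hab)
  have hlin : ∀ q : MvPolynomial σ H,
      eval b q - eval a q - ∑ j, eval a (pderiv j q) * (b j - a j) ∈ maximalIdeal H * I ∧
        eval b q - eval a q ∈ I := by
    intro q
    induction q using MvPolynomial.induction_on with
    | C c => simp
    | add q q' hq hq' =>
      constructor
      · convert add_mem hq.1 hq'.1 using 1
        simp [add_mul, Finset.sum_add_distrib]; ring
      · convert add_mem hq.2 hq'.2 using 1
        simp; ring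
    | mul_X q l hq =>
      constructor
      · convert add_mem (Ideal.mul_mem_right (a l) _ hq.1)
          (Ideal.mul_mem_mul (hIm hq.2) (hd l)) using 1
        simp only [map_mul, eval_X, pderiv_mul, map_add, add_mul, Finset.sum_add_distrib, pderiv_X]
        rw [Finset.sum_eq_single (f := fun j => eval a q * _ * (b j - a j)) l
          (fun j _ hj => by simp [hj]) (by simp), sub_mul (_ - _), Finset.sum_mul,
          Finset.sum_congr rfl fun j _ => mul_right_comm (eval a (pderiv j q)) (a l) (b j - a j)]
        simp only [Pi.single_eq_same, map_one, mul_one]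
        ring
      · convert add_mem (Ideal.mul_mem_right (a l) _ hq.2) (Ideal.mul_mem_left _ (eval b q) (hd l))
          using 1
        simp; ring
  set J := Matrix.of fun l j => eval a (pderiv j (p l))
  have h1 : ∀ l, ∑ j, J l j * (b j - a j) ∈ maximalIdeal H * I := fun l => by
    have := (hlin (p l)).1
    rw [ha, hb, sub_zero, zero_sub] at this
    simpa [J] using neg_mem this
  have hle : I ≤ maximalIdeal H • I := by
    rw [hI, Ideal.span_le]
    rintro _ ⟨l, rfl⟩
    have h3 : b - a = J⁻¹.mulVec (J.mulVec (b - a)) := by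
      rw [Matrix.mulVec_mulVec, Matrix.nonsing_inv_mul J hJ, Matrix.one_mulVec]
    have h4 : (b - a) l ∈ maximalIdeal H * I := by
      rw [h3]
      exact Ideal.sum_mem _ fun j _ => Ideal.mul_mem_left _ _ (h1 j)
    exact h4
  have h0 : I = ⊥ := Submodule.eq_bot_of_le_smul_of_le_jacobson_bot _ _
    (Submodule.fg_span (Set.finite_range _)) hle (maximalIdeal_le_jacobson _)
  funext l
  have := hd l
  rw [h0, Ideal.mem_bot, sub_eq_zero] at this
  exact this

variable {A : Type u} [CommRing A] [HenselianLocalRing A] {H : Type u} [CommRing H]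
  [HenselianLocalRing H] [Algebra A H] {N : ℕ}

/-- A square system of polynomial equations over `A[x]` with a simple root in `H`. -/
structure Sys (x : Fin N → H) where
  ι : Type
  [fin : Fintype ι]
  [dec : DecidableEq ι]
  t : ι → H
  P : ι → MvPolynomial (Fin N ⊕ ι) A
  root : ∀ l, aeval (Sum.elim x t) (P l) = 0
  det : IsUnit (Matrix.of fun l j => aeval (Sum.elim x t) (pderiv (Sum.inr j) (P l))).det

attribute [instance] Sys.fin Sys.dec

namespace Sys

variable {x : Fin N → H}

/-- The elements presented by the system. -/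
def range (S : Sys (A := A) x) : Subalgebra A H := (aeval (Sum.elim x S.t)).range

/-- The empty system. -/
def empty : Sys (A := A) x where
  ι := PEmpty
  t := PEmpty.elim
  P := PEmpty.elim
  root := fun l => l.elim
  det := by simp

/-- Two systems side by side. -/
def prod (S T : Sys (A := A) x) : Sys (A := A) x where
  ι := S.ι ⊕ T.ι
  t := Sum.elim S.t T.t
  P := Sum.elim (fun l => rename (Sum.map id Sum.inl) (S.P l))
    (fun l => rename (Sum.map id Sum.inr) (T.P l))
  root := by
    rintro (l | l)
    · simp only [Sum.elim_inl, aeval_rename]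
      convert S.root l using 3
      ext (i | i) <;> rfl
    · simp only [Sum.elim_inr, aeval_rename]
      convert T.root l using 3
      ext (i | i) <;> rfl
  det := by
    classical
    have e1 : (Sum.elim x (Sum.elim S.t T.t)) ∘ Sum.map id Sum.inl = Sum.elim x S.t := by
      ext (i | i) <;> rfl
    have e2 : (Sum.elim x (Sum.elim S.t T.t)) ∘ Sum.map id Sum.inr = Sum.elim x T.t := by
      ext (i | i) <;> rfl
    rw [show (Matrix.of fun l j => aeval (Sum.elim x (Sum.elim S.t T.t))
        (pderiv (Sum.inr j) (Sum.elim (fun l => rename (Sum.map id Sum.inl) (S.P l))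
          (fun l => rename (Sum.map id Sum.inr) (T.P l)) l))) =
      Matrix.fromBlocks (Matrix.of fun l j => aeval (Sum.elim x S.t) (pderiv (Sum.inr j) (S.P l)))
        0 0 (Matrix.of fun l j => aeval (Sum.elim x T.t) (pderiv (Sum.inr j) (T.P l))) from ?_,
      Matrix.det_fromBlocks_zero₂₁]
    · exact S.det.mul T.det
    ext (l | l) (j | j)
    · simp only [Matrix.of_apply, Sum.elim_inl, Matrix.fromBlocks_apply₁₁]
      rw [show (Sum.inr (Sum.inl j) : Fin N ⊕ S.ι ⊕ T.ι) =
        Sum.map id Sum.inl (Sum.inr j : Fin N ⊕ S.ι) from rfl,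
        pderiv_rename (Sum.map_injective.2 ⟨Function.injective_id, Sum.inl_injective⟩),
        aeval_rename, e1]
    · simp only [Matrix.of_apply, Sum.elim_inl, Matrix.fromBlocks_apply₁₂, Matrix.zero_apply]
      rw [pderiv_eq_zero_of_notMem_vars, map_zero]
      intro h
      obtain ⟨(i | i), -, hi⟩ := Finset.mem_image.1 (vars_rename _ _ h) <;> simp at hi
    · simp only [Matrix.of_apply, Sum.elim_inr, Matrix.fromBlocks_apply₂₁, Matrix.zero_apply]
      rw [pderiv_eq_zero_of_notMem_vars, map_zero]
      intro h
      obtain ⟨(i | i), -, hi⟩ := Finset.mem_image.1 (vars_rename _ _ h) <;> simp at hi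
    · simp only [Matrix.of_apply, Sum.elim_inr, Matrix.fromBlocks_apply₂₂]
      rw [show (Sum.inr (Sum.inr j) : Fin N ⊕ S.ι ⊕ T.ι) =
        Sum.map id Sum.inr (Sum.inr j : Fin N ⊕ T.ι) from rfl,
        pderiv_rename (Sum.map_injective.2 ⟨Function.injective_id, Sum.inr_injective⟩),
        aeval_rename, e2]

theorem range_le_left (S T : Sys (A := A) x) : S.range ≤ (S.prod T).range := by
  rintro _ ⟨p, rfl⟩
  refine ⟨rename (Sum.map id Sum.inl) p, ?_⟩
  show aeval _ (rename _ p) = aeval (Sum.elim x _) p
  refine (aeval_rename _ _ _).trans ?_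
  congr 2
  ext (i | i) <;> rfl

theorem range_le_right (S T : Sys (A := A) x) : T.range ≤ (S.prod T).range := by
  rintro _ ⟨p, rfl⟩
  refine ⟨rename (Sum.map id Sum.inr) p, ?_⟩
  show aeval _ (rename _ p) = aeval (Sum.elim x _) p
  refine (aeval_rename _ _ _).trans ?_
  congr 2
  ext (i | i) <;> rfl

/-- Adjoin a simple root of one more equation. -/
def extend (S : Sys (A := A) x) (a : H) (q : MvPolynomial (Fin N ⊕ (S.ι ⊕ Unit)) A)
    (hq : aeval (Sum.elim x (Sum.elim S.t fun _ => a)) q = 0)
    (hq' : IsUnit (aeval (Sum.elim x (Sum.elim S.t fun _ => a))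
      (pderiv (Sum.inr (Sum.inr ())) q))) : Sys (A := A) x where
  ι := S.ι ⊕ Unit
  t := Sum.elim S.t fun _ => a
  P := Sum.elim (fun l => rename (Sum.map id Sum.inl) (S.P l)) fun _ => q
  root := by
    rintro (l | l)
    · simp only [Sum.elim_inl, aeval_rename]
      convert S.root l using 3
      ext (i | i) <;> rfl
    · exact hq
  det := by
    classical
    let y : Fin N ⊕ (S.ι ⊕ Unit) → H := Sum.elim x (Sum.elim S.t fun _ => a)
    have e1 : y ∘ Sum.map id Sum.inl = Sum.elim x S.t := by
      ext (i | i) <;> rfl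
    rw [show (Matrix.of fun l j => aeval y
        (pderiv (Sum.inr j) (Sum.elim (fun l => rename (Sum.map id Sum.inl) (S.P l))
          (fun _ => q) l))) =
      Matrix.fromBlocks (Matrix.of fun l j => aeval (Sum.elim x S.t) (pderiv (Sum.inr j) (S.P l)))
        0 (Matrix.of fun _ j => aeval y (pderiv (Sum.inr (Sum.inl j)) q))
        (Matrix.of fun _ _ => aeval y (pderiv (Sum.inr (Sum.inr ())) q)) from ?_,
      Matrix.det_fromBlocks_zero₁₂]
    · exact S.det.mul (by simpa using hq')
    ext (l | l) (j | j)
    · simp only [Matrix.of_apply, Sum.elim_inl, Matrix.fromBlocks_apply₁₁]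
      rw [show (Sum.inr (Sum.inl j) : Fin N ⊕ S.ι ⊕ Unit) =
        Sum.map id Sum.inl (Sum.inr j : Fin N ⊕ S.ι) from rfl,
        pderiv_rename (Sum.map_injective.2 ⟨Function.injective_id, Sum.inl_injective⟩),
        aeval_rename, e1]
    · simp only [Matrix.of_apply, Sum.elim_inl, Matrix.fromBlocks_apply₁₂, Matrix.zero_apply]
      rw [pderiv_eq_zero_of_notMem_vars, map_zero]
      intro h
      obtain ⟨(i | i), -, hi⟩ := Finset.mem_image.1 (vars_rename _ _ h) <;> simp at hi
    · rfl
    · rfl

theorem range_le_extend (S : Sys (A := A) x) (a : H) (q) (hq) (hq') :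
    S.range ≤ (S.extend a q hq hq').range := by
  rintro _ ⟨p, rfl⟩
  refine ⟨rename (Sum.map id Sum.inl) p, ?_⟩
  show aeval _ (rename _ p) = aeval (Sum.elim x _) p
  refine (aeval_rename _ _ _).trans ?_
  congr 2
  ext (i | i) <;> rfl

theorem mem_range_extend (S : Sys (A := A) x) (a : H) (q) (hq) (hq') :
    a ∈ (S.extend a q hq hq').range :=
  ⟨X (Sum.inr (Sum.inr ())), by show aeval _ (X _) = a; rw [aeval_X]; rfl⟩

theorem exists_root_family {ι : Type} (s : Finset ι) (h : ι → H)
    (hh : ∀ i, ∃ S : Sys (A := A) x, h i ∈ S.range) :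
    ∃ S : Sys (A := A) x, ∀ i ∈ s, h i ∈ S.range := by
  classical
  induction s using Finset.induction with
  | empty => exact ⟨empty, by simp⟩
  | insert i s _ ih =>
    obtain ⟨S, hS⟩ := ih
    obtain ⟨T, hT⟩ := hh i
    refine ⟨S.prod T, fun j hj => ?_⟩
    rcases Finset.mem_insert.1 hj with rfl | hj
    exacts [S.range_le_right T hT, S.range_le_left T (hS j hj)]

end Sys

/-- The presented elements. -/
def presented (x : Fin N → H) : Subalgebra A H where
  carrier := {h | ∃ S : Sys (A := A) x, h ∈ S.range}
  mul_mem' := fun ⟨S, hS⟩ ⟨T, hT⟩ =>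
    ⟨S.prod T, mul_mem (S.range_le_left T hS) (S.range_le_right T hT)⟩
  add_mem' := fun ⟨S, hS⟩ ⟨T, hT⟩ =>
    ⟨S.prod T, add_mem (S.range_le_left T hS) (S.range_le_right T hT)⟩
  algebraMap_mem' := fun a => ⟨Sys.empty, Subalgebra.algebraMap_mem _ a⟩

theorem mem_presented {x : Fin N → H} {h : H} :
    h ∈ presented (A := A) x ↔ ∃ S : Sys (A := A) x, h ∈ S.range := Iff.rfl

theorem x_mem_presented (x : Fin N → H) (i : Fin N) : x i ∈ presented (A := A) x :=
  ⟨Sys.empty, X (Sum.inl i), by simp⟩

theorem isUnit_presented_iff (x : Fin N → H) (a : presented (A := A) x) :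
    IsUnit a ↔ IsUnit (a : H) := by
  refine ⟨fun h => h.map (presented (A := A) x).val, fun h => ?_⟩
  obtain ⟨S, p, hp⟩ := a.2
  let u : H := ↑h.unit⁻¹
  have hu : (a : H) * u = 1 := h.mul_val_inv
  let q : MvPolynomial (Fin N ⊕ (S.ι ⊕ Unit)) A :=
    rename (Sum.map id Sum.inl) p * X (Sum.inr (Sum.inr ())) - 1
  have e1 : (Sum.elim x (Sum.elim S.t fun (_ : Unit) => u)) ∘ Sum.map id Sum.inl = Sum.elim x S.t := by
    ext (i | i) <;> rfl
  have hp' : aeval (Sum.elim x S.t) p = (a : H) := hp
  have hq : aeval (Sum.elim x (Sum.elim S.t fun _ => u)) q = 0 := by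
    simp [q, aeval_rename, e1, hp', hu]
  have hd : pderiv (Sum.inr (Sum.inr ())) q = rename (Sum.map id Sum.inl) p := by
    classical
    simp only [q, map_sub, pderiv_mul, pderiv_one, sub_zero, pderiv_X_self, mul_one]
    rw [pderiv_eq_zero_of_notMem_vars, zero_mul, zero_add]
    intro h
    obtain ⟨(i | i), -, hi⟩ := Finset.mem_image.1 (vars_rename _ _ h) <;> simp at hi
  have hq' : IsUnit (aeval (Sum.elim x (Sum.elim S.t fun _ => u))
      (pderiv (Sum.inr (Sum.inr ())) q)) := by
    rw [hd, aeval_rename, e1, hp']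
    exact h
  have : u ∈ presented (A := A) x := ⟨S.extend u q hq hq', S.mem_range_extend u q hq hq'⟩
  exact isUnit_iff_exists_inv.2 ⟨⟨u, this⟩, Subtype.ext hu⟩

instance isLocalRing_presented (x : Fin N → H) : IsLocalRing (presented (A := A) x) :=
  .of_nonunits_add fun a b ha hb => by
    simp only [mem_nonunits_iff, isUnit_presented_iff] at ha hb ⊢
    exact IsLocalRing.nonunits_add ha hb

theorem henselianLocalRing_presented (x : Fin N → H) :
    HenselianLocalRing (presented (A := A) x) where
  is_henselian := by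
    intro f hf a₀ h₁ h₂
    classical
    let f' : Polynomial H := f.map (presented (A := A) x).val.toRingHom
    obtain ⟨a, ha, haa⟩ := HenselianLocalRing.is_henselian f' (hf.map _) (a₀ : H)
      (by
        rw [mem_maximalIdeal, mem_nonunits_iff, isUnit_presented_iff] at h₁
        rw [mem_maximalIdeal, mem_nonunits_iff, Polynomial.eval_map]
        convert h₁ using 2
        exact Polynomial.eval₂_at_apply _ _)
      (by
        rw [Polynomial.derivative_map, Polynomial.eval_map]
        convert (isUnit_presented_iff x _).1 h₂ using 1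
        exact Polynomial.eval₂_at_apply _ _)
    have hunit : IsUnit (f'.derivative.eval a) := by
      have h3 : IsUnit (f'.derivative.eval (a₀ : H)) := by
        rw [Polynomial.derivative_map, Polynomial.eval_map]
        convert (isUnit_presented_iff x _).1 h₂ using 1
        exact Polynomial.eval₂_at_apply _ _
      rw [← residue_ne_zero_iff_isUnit] at h3 ⊢
      have he : residue H a = residue H (a₀ : H) := by
        rw [← sub_eq_zero, ← map_sub, residue_eq_zero_iff]; exact haa
      rwa [← Polynomial.eval_map_apply, he, Polynomial.eval_map_apply]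
    obtain ⟨S, hS⟩ := Sys.exists_root_family (Finset.range (f.natDegree + 1))
      (fun i => (f.coeff i : H)) fun i => (f.coeff i).2
    choose c hc using fun i : Finset.range (f.natDegree + 1) => hS i.1 i.2
    let X' : MvPolynomial (Fin N ⊕ (S.ι ⊕ Unit)) A := X (Sum.inr (Sum.inr ()))
    let q : MvPolynomial (Fin N ⊕ (S.ι ⊕ Unit)) A :=
      ∑ i : Finset.range (f.natDegree + 1), rename (Sum.map id Sum.inl) (c i) * X' ^ i.1
    let y : Fin N ⊕ (S.ι ⊕ Unit) → H := Sum.elim x (Sum.elim S.t fun _ => a)
    have e1 : y ∘ Sum.map id Sum.inl = Sum.elim x S.t := by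
      ext (i | i) <;> rfl
    have hc' : ∀ i, aeval (Sum.elim x S.t) (c i) = f'.coeff i.1 := fun i => by
      rw [Polynomial.coeff_map]; exact hc i
    have hdeg : f'.natDegree < f.natDegree + 1 :=
      Nat.lt_succ_of_le Polynomial.natDegree_map_le
    have hq : aeval y q = 0 := by
      rw [← ha.eq_zero, Polynomial.eval_eq_sum_range' hdeg,
        ← Finset.sum_coe_sort (Finset.range (f.natDegree + 1))]
      simp [q, X', aeval_rename, e1, hc', y]
    have hq' : IsUnit (aeval y (pderiv (Sum.inr (Sum.inr ())) q)) := by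
      convert hunit using 1
      conv_rhs => rw [f'.as_sum_range' _ hdeg]
      simp only [q, map_sum, Polynomial.eval_finsetSum]
      rw [← Finset.sum_coe_sort (Finset.range (f.natDegree + 1))]
      refine Finset.sum_congr rfl fun i _ => ?_
      rw [pderiv_mul, pderiv_eq_zero_of_notMem_vars (f := rename _ _), pderiv_pow]
      · simp [X', aeval_rename, e1, hc', y, Polynomial.derivative_monomial, mul_assoc]
      intro h
      obtain ⟨(j | j), -, hj⟩ := Finset.mem_image.1 (vars_rename _ _ h) <;> simp at hj
    refine ⟨⟨a, S.extend a q hq hq', S.mem_range_extend a q hq hq'⟩, ?_, ?_⟩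
    · refine Subtype.ext ?_
      show (presented (A := A) x).val.toRingHom (f.eval _) = 0
      rw [← Polynomial.eval₂_at_apply, ← Polynomial.eval_map]
      exact ha
    · rw [mem_maximalIdeal, mem_nonunits_iff, isUnit_presented_iff]
      exact (mem_maximalIdeal _).1 haa

namespace IsHS

variable {x : Fin N → H} (hH : IsHS A H x)

include hH

theorem exists_sys (h : H) : ∃ S : Sys (A := A) x, h ∈ S.range := by
  let H' := presented (A := A) x
  haveI : HenselianLocalRing H' := henselianLocalRing_presented x
  have hl : IsLocalHom (algebraMap A H') := ⟨fun a ha =>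
    hH.isLocalHom.map_nonunit a ((isUnit_presented_iff x _).1 ha)⟩
  have hm : ∀ i, (⟨x i, x_mem_presented x i⟩ : H') ∈ maximalIdeal H' := fun i => by
    rw [mem_maximalIdeal, mem_nonunits_iff, isUnit_presented_iff]
    exact (mem_maximalIdeal _).1 (hH.mem i)
  let g := hH.lift hl (fun i => ⟨x i, x_mem_presented x i⟩) hm
  have : H'.val.comp g = AlgHom.id A H := hH.endo_ext (fun i => by simpa [g] using hH.mem i)
    fun i => by simp [g]
  rw [show h = ((g h : H') : H) from (AlgHom.congr_fun this h).symm]
  exact (g h).2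

end IsHS

end Groth.Agent.HensMorse
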