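import Groth.Agent.HensMorse.Morse
import Groth.Agent.Weierstrass7.Basic

/-!
# Normal forms of series with an ordinary quadratic point
-/

noncomputable section

namespace Groth.Agent.HensMorse

open IsLocalRing Matrix

universe u

variable {A : Type u} [CommRing A] [HenselianLocalRing A] {H : Type u} [CommRing H]
  [HenselianLocalRing H] [Algebra A H]

section nondegenerate

variable {N : ℕ} {x : Fin N → H} (hH : IsHS A H x)

namespace IsHS

include hH

theorem isUnit_det_of_residue {r : ℕ} (a : Matrix (Fin r) (Fin r) A)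
    (h : IsUnit ((a.map (algebraMap A H)).map (residue H)).det) : IsUnit a.det := by
  have := hH.isLocalHom
  rw [← RingHom.mapMatrix_apply, ← RingHom.map_det, ← RingHom.mapMatrix_apply,
    ← RingHom.map_det] at h
  exact IsUnit.of_map (algebraMap A H) _ (IsUnit.of_map (residue H) _ h)

/-- A table over `A` lifting the quadratic form `Q` at the closed point. -/
theorem exists_table {r : ℕ} (Q : Matrix (Fin r) (Fin r) H)
    (h : IsUnit (Q.map (residue H) + (Q.map (residue H))ᵀ).det) :
    ∃ a : Fin r → Fin r → A, VanCyc.QuadNondeg a ∧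
      ∀ i j, i ≤ j → fold Q i j - algebraMap A H (a i j) ∈ maximalIdeal H := by
  choose a ha using fun i j => hH.exists_residue_lift (residue H (fold Q i j))
  refine ⟨a, hH.isUnit_det_of_residue _ ?_, fun i j _ => ?_⟩
  · rw [← polarMatrix_fold, fold_map] at h
    rw [polarMatrix_map, polarMatrix_map]
    rw [show (fun i j => residue H (algebraMap A H (a i j))) = (fold Q).map (residue H) from
      funext fun i => funext fun j => ha i j]
    exact h
  · rw [← residue_eq_zero_iff, map_sub, ha, sub_self]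

/-- Normal form of a series with non-degenerate Hessian. -/
theorem exists_normalForm_nondeg (F : H) (hF : F ∈ maximalIdeal H)
    (hd : ∀ i, hH.pd i F ∈ maximalIdeal H)
    (hJ : IsUnit (hH.jac fun i => hH.pd i F).det) :
    ∃ (a : Fin N → Fin N → A) (b : A) (φ : H ≃ₐ[A] H), VanCyc.QuadNondeg a ∧
      b ∈ maximalIdeal A ∧
      φ F = MvPolynomial.aeval x (VanCyc.quadPoly a - MvPolynomial.C b) := by
  obtain ⟨σ, τ, Q, hσm, -, -, hτ, -, -, hQ, hτF⟩ :=
    hH.exists_critical Finset.univ F (fun i _ => hd i) (by simpa using hJ)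
  let Qm : Matrix (Fin N) (Fin N) H := Q
  obtain ⟨a, ha, haQ⟩ := hH.exists_table Qm (by
    convert hJ using 2
    ext i j
    simp [Qm, jac, hQ i (Finset.mem_univ i) j (Finset.mem_univ j)])
  obtain ⟨φ, -, hφ⟩ := hH.exists_morse id Function.injective_id a ha Qm haQ
  refine ⟨a, -hH.eval0 (τ F), τ.trans φ.symm, ha, neg_mem ?_, ?_⟩
  · rw [← hH.mem_maximalIdeal_iff_eval0]
    exact hH.map_mem_maximalIdeal hH.isLocalHom τ.toAlgHom
      (fun i => by simpa [hτ] using add_mem (hH.mem i) (hσm i)) hF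
  · rw [AlgEquiv.trans_apply, AlgEquiv.symm_apply_eq, map_sub, map_sub,
      MvPolynomial.aeval_C, φ.commutes, map_neg, sub_neg_eq_add, add_comm]
    conv_lhs => rw [hτF, hH.proj_univ]
    congr 1
    rw [Function.comp_id] at hφ
    rw [hφ]
    simp [Qm, dotProduct, mulVec, Finset.mul_sum, mul_comm, mul_left_comm]

end IsHS

end nondegenerate

section degenerate

theorem succ_image {r : ℕ} {i : Fin (r + 1)} :
    i ∈ (Finset.univ : Finset (Fin r)).image Fin.succ ↔ i ≠ 0 := by
  simp [Fin.exists_succ_eq]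

variable {r : ℕ} {x : Fin (r + 1) → H} (hH : IsHS A H x)

namespace IsHS

include hH

/-- Weierstrass preparation in degree two along the first variable. -/
theorem exists_quadratic_prep (g : H)
    (hg : hH.proj ((Finset.univ : Finset (Fin r)).image Fin.succ) g = g) (w : H) (hw : IsUnit w)
    (hgw : g - w * x 0 ^ 2 ∈ (maximalIdeal A).map (algebraMap A H)) :
    ∃ (b c : A) (v : H), b ∈ maximalIdeal A ∧ c ∈ maximalIdeal A ∧ IsUnit v ∧
      g = v * (x 0 ^ 2 + algebraMap A H b * x 0 + algebraMap A H c) := by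
  classical
  let B := Hensel.PairHenz (Polynomial A) (Ideal.span {(Polynomial.X : Polynomial A)})
  let : Algebra A B := Algebra.compHom B (algebraMap A (Polynomial A))
  haveI : IsScalarTower A (Polynomial A) B := .of_algebraMap_eq' rfl
  have hB : Hens2.IsPairHenselization (Polynomial A) (Ideal.span {(Polynomial.X : Polynomial A)}) B :=
    Hensel.isPairHenselization_pairHenz _ _
  let t : B := algebraMap (Polynomial A) B Polynomial.X
  haveI : IsLocalRing B := Weierstrass7.isLocalRing hB
  obtain ⟨ε, hεA, hεt, -, hu⟩ := Weierstrass7.exists_constant hB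
  have hlB : IsLocalHom (algebraMap A B) := ⟨fun a ha => by
    have := ha.map ε; rwa [hεA] at this⟩
  have htm : t ∈ maximalIdeal B := by
    rw [mem_maximalIdeal, mem_nonunits_iff, hu, hεt]
    exact not_isUnit_zero
  haveI : HenselianRing B (Ideal.span {t}) := by
    have := hB.1
    rwa [Ideal.map_span, Set.image_singleton] at this
  haveI : Nontrivial (B ⧸ Ideal.span {t}) := Ideal.Quotient.nontrivial_iff.2 fun h =>
    (maximalIdeal.isMaximal B).ne_top (top_le_iff.1 (h ▸ (Ideal.span_singleton_le_iff_mem _).2 htm))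
  haveI : IsLocalRing (B ⧸ Ideal.span {t}) := .of_surjective' _ Ideal.Quotient.mk_surjective
  haveI : HenselianLocalRing (B ⧸ Ideal.span {t}) := by
    have : Module.Finite A (B ⧸ Ideal.span {t}) :=
      Module.Finite.of_surjective (Algebra.linearMap A (B ⧸ Ideal.span {t})) fun z => by
        obtain ⟨z, rfl⟩ := Ideal.Quotient.mk_surjective z
        obtain ⟨a, ha⟩ := Weierstrass7.surjective_mod_X hB z
        exact ⟨a, ((Ideal.Quotient.eq (I := Ideal.span {t})).2 ha).symm⟩
    exact Hensel.henselianLocalRing_of_finite A _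
  haveI : HenselianLocalRing B := Hensel.henselianLocalRing_of_quotient B (Ideal.span {t})
  let α : H →ₐ[A] B := hH.lift hlB (fun i => if i = 0 then t else 0) fun i => by
    split_ifs; exacts [htm, zero_mem _]
  let f₀ : Polynomial A →+* H := (Polynomial.aeval (x 0)).toRingHom
  haveI : HenselianRing H (Ideal.span {x 0}) :=
    Hensel.henselianRing_of_le (J := maximalIdeal H) ((Ideal.span_singleton_le_iff_mem _).2 (hH.mem 0))
  obtain ⟨β, hβ, -⟩ := hB.2 H (Ideal.span {x 0}) f₀ inferInstance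
    (by rw [Ideal.map_span, Set.image_singleton]; simp [f₀])
  have hβp : ∀ p, β (algebraMap (Polynomial A) B p) = Polynomial.aeval (x 0) p :=
    DFunLike.congr_fun hβ
  let β' : B →ₐ[A] H := ⟨β, fun a => by
    rw [IsScalarTower.algebraMap_apply A (Polynomial A) B]
    exact (hβp _).trans ((Polynomial.aeval (x 0)).commutes a)⟩
  have hβt : β' t = x 0 := (hβp _).trans (Polynomial.aeval_X _)
  have hαx : ∀ i, α (x i) = if i = 0 then t else 0 := hH.lift_x _ _ _
  have key : β'.comp α = hH.proj ((Finset.univ : Finset (Fin r)).image Fin.succ) := by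
    refine hH.endo_ext (fun i => ?_) fun i => ?_
    · rw [AlgHom.comp_apply, hαx]
      split_ifs
      · rw [hβt]; exact hH.mem 0
      · rw [map_zero]; exact zero_mem _
    · rw [AlgHom.comp_apply, hαx, hH.proj_x]
      by_cases hi : i = 0
      · subst hi; simp [succ_image, hβt]
      · simp [succ_image, hi]
  have hmap : ∀ {z : H}, z ∈ (maximalIdeal A).map (algebraMap A H) →
      α z ∈ (maximalIdeal A).map (algebraMap A B) := fun {z} hz => by
    have := Ideal.mem_map_of_mem α hz
    rwa [show ((maximalIdeal A).map (algebraMap A H)).map α = (maximalIdeal A).map (algebraMap A B)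
      from (Ideal.map_map (algebraMap A H) α.toRingHom).trans
        (congrArg (Ideal.map · _) α.comp_algebraMap)] at this
  have hgt : α g - α w * t ^ 2 ∈ (maximalIdeal A).map (algebraMap A B) := by
    have := hmap hgw
    simpa [hαx] using this
  have hnot : α g ∉ (maximalIdeal A).map (algebraMap A B) := fun h => by
    have h2 : α w * t ^ 2 ∈ (maximalIdeal A).map (algebraMap A B) := by
      simpa using sub_mem h hgt
    exact Weierstrass7.pow_notMem hB 2 ((Ideal.unit_mul_mem_iff_mem _ (hw.map α)).1 h2)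
  obtain ⟨P, v, hP, hlow, hgP⟩ := Weierstrass7.exists_prep hB hnot
  set 𝔞 := (maximalIdeal A).map (algebraMap A B) with h𝔞
  have hPt : algebraMap (Polynomial A) B P - t ^ P.natDegree ∈ 𝔞 := by
    conv in algebraMap (Polynomial A) B P => rw [hP.as_sum]
    rw [map_add, map_pow, add_sub_cancel_left, map_sum]
    refine Ideal.sum_mem _ fun i hi => ?_
    rw [map_mul]
    refine Ideal.mul_mem_right _ _ ?_
    rw [Weierstrass7.algebraMap_C]
    exact Ideal.mem_map_of_mem _ (hlow i (Finset.mem_range.1 hi))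
  have hkey : t ^ P.natDegree * (v : B) - α w * t ^ 2 ∈ 𝔞 := by
    have h1 := Ideal.mul_mem_right (v : B) _ hPt
    convert sub_mem hgt h1 using 1
    rw [hgP]; ring
  have hdeg : P.natDegree = 2 := by
    rcases lt_trichotomy P.natDegree 2 with h | h | h
    · exfalso
      obtain ⟨d, hd⟩ := Nat.exists_eq_add_of_lt h
      have hu1 : IsUnit ((v : B) - α w * t ^ (d + 1)) := by
        rw [← residue_ne_zero_iff_isUnit, map_sub, map_mul, map_pow,
          (residue_eq_zero_iff _).2 htm, zero_pow (by omega), mul_zero, sub_zero]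
        exact (residue_ne_zero_iff_isUnit _).2 v.isUnit
      refine Weierstrass7.pow_notMem hB P.natDegree ((Ideal.mul_unit_mem_iff_mem _ hu1).1 ?_)
      convert hkey using 1
      rw [show t ^ 2 = t ^ P.natDegree * t ^ (d + 1) by rw [← pow_add]; congr 1]
      show t ^ P.natDegree * _ = _
      ring
    · exact h
    · exfalso
      obtain ⟨d, hd⟩ := Nat.exists_eq_add_of_lt h
      have hu1 : IsUnit ((v : B) * t ^ (d + 1) - α w) := by
        rw [← residue_ne_zero_iff_isUnit, map_sub, map_mul, map_pow,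
          (residue_eq_zero_iff _).2 htm, zero_pow (by omega), mul_zero, zero_sub, neg_ne_zero]
        exact (residue_ne_zero_iff_isUnit _).2 (hw.map α)
      refine Weierstrass7.pow_notMem hB 2 ((Ideal.mul_unit_mem_iff_mem _ hu1).1 ?_)
      convert hkey using 1
      rw [show t ^ P.natDegree = t ^ 2 * t ^ (d + 1) by rw [← pow_add]; congr 1]
      show t ^ 2 * _ = _
      ring
  refine ⟨P.coeff 1, P.coeff 0, β' v, hlow 1 (by omega), hlow 0 (by omega), v.isUnit.map β', ?_⟩
  rw [← hg, ← key, AlgHom.comp_apply, hgP, map_mul, mul_comm]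
  congr 1
  refine (hβp P).trans ?_
  conv_lhs => rw [hP.as_sum, hdeg]
  simp [Finset.sum_range_succ]
  ring

/-- Normal form of a series with a degenerate ordinary quadratic point. -/
theorem exists_normalForm_deg (F : H) (hF : F ∈ maximalIdeal H)
    (hd : ∀ i, hH.pd i F ∈ maximalIdeal H)
    (h₀ : ∀ i, residue H (hH.pd 0 (hH.pd i F)) = 0)
    (hJ : IsUnit ((hH.jac fun i => hH.pd i F).submatrix Fin.succ Fin.succ).det)
    (L : Fin (r + 1) → H) (Q₀ : Fin (r + 1) → Fin (r + 1) → H)
    (hL : ∀ i, hH.proj Finset.univ (L i) = L i)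
    (hexp : F = hH.proj Finset.univ F + ∑ i, L i * x i + ∑ i, ∑ j, Q₀ i j * x i * x j)
    (hQ00 : residue H (Q₀ 0 0) ≠ 0) :
    ∃ (a' : Fin r → Fin r → A) (b c : A) (φ : H ≃ₐ[A] H) (u : H), VanCyc.QuadNondeg a' ∧
      b ∈ maximalIdeal A ∧ c ∈ maximalIdeal A ∧ IsUnit u ∧
      φ F = u * (x 0 ^ 2 + algebraMap A H b * x 0 + algebraMap A H c +
        MvPolynomial.aeval (x ∘ Fin.succ) (VanCyc.quadPoly a')) := by
  classical
  set s := (Finset.univ : Finset (Fin r)).image Fin.succ with hs
  have hmem : ∀ i, i ∈ s ↔ i ≠ 0 := fun i => succ_image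
  -- the Jacobian of `(x₀, ∂F/∂x')`
  have hdet : (hH.jac fun i => if i ∈ s then hH.pd i F else x i).det =
      ((hH.jac fun i => hH.pd i F).submatrix Fin.succ Fin.succ).det := by
    rw [Matrix.det_succ_row_zero, Finset.sum_eq_single (0 : Fin (r + 1))]
    · simp [jac, hmem, Matrix.submatrix, Fin.succ_ne_zero]
    · intro j _ hj
      simp [jac, hmem, Ne.symm hj]
    · simp
  obtain ⟨σ, τ, Q, hσm, hσfix, hσout, hτ, hvan, hQout, hQ, hτF⟩ :=
    hH.exists_critical s F (fun i _ => hd i) (by rw [hdet]; exact hJ)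
  set g := hH.proj s (τ F) with hg
  let e : H →ₐ[A] H := (hH.proj s).comp τ.toAlgHom
  have he : ∀ i, e (x i) = if i = 0 then x 0 else σ i := fun i => by
    show hH.proj s (τ (x i)) = _
    rw [hτ]
    simp only [hmem]
    by_cases hi : i = 0
    · subst hi; simp [hH.proj_x, hmem]
    · simp [hi, hH.proj_x, hmem, hσfix]
  set 𝔞 := (maximalIdeal A).map (algebraMap A H) with h𝔞
  let K : Ideal H := 𝔞 ⊔ Ideal.span {x 0}
  let J : Ideal H := 𝔞 ⊔ Ideal.span {x 0 ^ 2}
  have halg : ∀ {a : A}, a ∈ maximalIdeal A → algebraMap A H a ∈ 𝔞 := fun ha =>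
    Ideal.mem_map_of_mem _ ha
  have hproj : ∀ y, hH.proj Finset.univ y = algebraMap A H (hH.eval0 y) := hH.proj_univ
  have h0J : ∀ y, residue H (hH.proj Finset.univ y) = 0 → hH.proj Finset.univ y ∈ 𝔞 := fun y hy => by
    rw [hproj, residue_eq_zero_iff, hH.mem_maximalIdeal_iff] at hy
    rw [hproj]; exact halg hy
  have hσK : ∀ i, σ i ∈ K := fun i => by
    have h1 := hH.sub_eval0_mem (σ i)
    have h2 : (Ideal.span (Set.range x)).map (hH.proj s) ≤ K := by
      rw [Ideal.map_span, Ideal.span_le]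
      rintro _ ⟨_, ⟨j, rfl⟩, rfl⟩
      rw [hH.proj_x]
      by_cases hj : j = 0
      · subst hj
        rw [if_neg (by simp [hmem])]
        exact Submodule.mem_sup_right (Ideal.mem_span_singleton_self _)
      · rw [if_pos ((hmem j).2 hj)]
        exact zero_mem _
    have h3 := h2 (Ideal.mem_map_of_mem _ h1)
    rw [map_sub, hσfix, AlgHom.commutes] at h3
    simpa using add_mem h3 (Submodule.mem_sup_left (S := 𝔞) (T := Ideal.span {x 0})
      (halg ((hH.mem_maximalIdeal_iff_eval0 _).1 (hσm i))))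
  have heK : ∀ i, e (x i) ∈ K := fun i => by
    rw [he]
    split_ifs
    exacts [Submodule.mem_sup_right (Ideal.mem_span_singleton_self _), hσK i]
  have hKK : ∀ {p q}, p ∈ K → q ∈ K → p * q ∈ J := fun {p q} hp hq => by
    obtain ⟨a, ha, _, hb, rfl⟩ := Submodule.mem_sup.1 hp
    obtain ⟨a', ha', _, hb', rfl⟩ := Submodule.mem_sup.1 hq
    obtain ⟨c, rfl⟩ := Ideal.mem_span_singleton'.1 hb
    obtain ⟨c', rfl⟩ := Ideal.mem_span_singleton'.1 hb'
    refine Submodule.mem_sup.2 ⟨a * (a' + c' * x 0) + c * x 0 * a', ?_, c * c' * x 0 ^ 2,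
      Ideal.mem_span_singleton'.2 ⟨_, rfl⟩, by ring⟩
    exact add_mem (Ideal.mul_mem_right _ _ ha) (Ideal.mul_mem_left _ _ ha')
  -- the section lies in `𝔞 + (x₀²)`
  choose L₁ Q₁ hout₁ hL₁ hexp₁ using fun i => hH.exists_expansion₂ Finset.univ (hH.pd i F)
  have hres₁ : ∀ i l, residue H (L₁ i l) = residue H (hH.pd l (hH.pd i F)) := fun i l => by
    conv_rhs => rw [hexp₁ i, hproj]
    simp [map_sum, (residue_eq_zero_iff _).2 (hH.mem _), apply_ite (residue H)]
  have hLeq : ∀ y, hH.proj Finset.univ y = y → e y = y := fun y hy => by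
    rw [← hy, hproj, AlgHom.commutes]
  let M : Matrix (Fin r) (Fin r) H := Matrix.of fun i l => L₁ i.succ l.succ
  have hM : IsUnit M.det := by
    refine IsUnit.of_map (residue H) _ ?_
    rw [RingHom.map_det]
    convert hJ using 2
    ext i l
    simp [M, hres₁, jac]
  have hσJ : ∀ l : Fin r, σ l.succ ∈ J := by
    have hv : ∀ i : Fin r, (M *ᵥ fun l => σ l.succ) i ∈ J := fun i => by
      have h1 : e (hH.pd i.succ F) = 0 := hvan _ ((hmem _).2 (Fin.succ_ne_zero i))
      rw [hexp₁ i.succ] at h1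
      simp only [map_add, map_sum, map_mul, hLeq _ (hL₁ i.succ _)] at h1
      rw [hproj, AlgHom.commutes, Fin.sum_univ_succ] at h1
      simp only [he 0, if_true, he (Fin.succ _), Fin.succ_ne_zero, if_false] at h1
      have e1 : algebraMap A H (hH.eval0 (hH.pd i.succ F)) ∈ J :=
        Submodule.mem_sup_left (halg ((hH.mem_maximalIdeal_iff_eval0 _).1 (hd _)))
      have e2 : L₁ i.succ 0 * x 0 ∈ J := Ideal.mul_mem_right _ _ (Submodule.mem_sup_left (by
        rw [← hL₁ i.succ 0]
        refine h0J _ ?_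
        rw [hL₁, hres₁, h₀]))
      have e3 : ∑ a, ∑ b, e (Q₁ i.succ a b) * e (x a) * e (x b) ∈ J :=
        Ideal.sum_mem _ fun a _ => Ideal.sum_mem _ fun b _ => by
          rw [mul_assoc]; exact Ideal.mul_mem_left _ _ (hKK (heK a) (heK b))
      have heq : (M *ᵥ fun l => σ l.succ) i = ∑ l : Fin r, L₁ i.succ l.succ * σ l.succ := rfl
      rw [heq]
      refine (Submodule.add_mem_iff_right J (add_mem (add_mem e1 e2) e3)).1 ?_
      convert zero_mem J using 1
      linear_combination h1
    intro l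
    have h3 : (fun l => σ l.succ) = M⁻¹ *ᵥ (M *ᵥ fun l => σ l.succ) := by
      rw [Matrix.mulVec_mulVec, Matrix.nonsing_inv_mul M hM, Matrix.one_mulVec]
    rw [congrFun h3 l]
    show ∑ j, M⁻¹ l j * (M *ᵥ fun l => σ l.succ) j ∈ J
    exact Ideal.sum_mem _ fun j _ => Ideal.mul_mem_left _ _ (hv j)
  -- the value along the section
  let C : Ideal H := 𝔞 ⊔ Ideal.span {x 0 ^ 3}
  have hJK : ∀ {p q}, p ∈ J → q ∈ K → p * q ∈ C := fun {p q} hp hq => by
    obtain ⟨a, ha, _, hb, rfl⟩ := Submodule.mem_sup.1 hp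
    obtain ⟨a', ha', _, hb', rfl⟩ := Submodule.mem_sup.1 hq
    obtain ⟨c, rfl⟩ := Ideal.mem_span_singleton'.1 hb
    obtain ⟨c', rfl⟩ := Ideal.mem_span_singleton'.1 hb'
    refine Submodule.mem_sup.2 ⟨a * (a' + c' * x 0) + c * x 0 ^ 2 * a', ?_, c * c' * x 0 ^ 3,
      Ideal.mem_span_singleton'.2 ⟨_, rfl⟩, by ring⟩
    exact add_mem (Ideal.mul_mem_right _ _ ha) (Ideal.mul_mem_left _ _ ha')
  have hgC : g - e (Q₀ 0 0) * x 0 ^ 2 ∈ C := by
    have h1 : g = e F := rfl
    rw [h1, hexp]
    simp only [map_add, map_sum, map_mul, hLeq _ (hL _)]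
    rw [hproj, AlgHom.commutes, Fin.sum_univ_succ (fun a => ∑ b, e (Q₀ a b) * e (x a) * e (x b)),
      Fin.sum_univ_succ (fun b => e (Q₀ 0 b) * e (x 0) * e (x b))]
    have e1 : algebraMap A H (hH.eval0 F) ∈ C :=
      Submodule.mem_sup_left (halg ((hH.mem_maximalIdeal_iff_eval0 _).1 hF))
    have e2 : ∑ i, L i * e (x i) ∈ C := Ideal.sum_mem _ fun i _ =>
      Ideal.mul_mem_right _ _ (Submodule.mem_sup_left (by
        rw [← hL i]
        refine h0J _ ?_
        rw [hL]
        have h2 : residue H (hH.pd i F) = residue H (L i) := by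
          conv_lhs => rw [hexp, hproj]
          simp [map_sum, (residue_eq_zero_iff _).2 (hH.mem _), apply_ite (residue H)]
        rw [← h2, residue_eq_zero_iff]
        exact hd i))
    have e3 : ∑ b : Fin r, e (Q₀ 0 b.succ) * e (x 0) * e (x b.succ) ∈ C :=
      Ideal.sum_mem _ fun b _ => by
        rw [mul_assoc, mul_comm (e (x 0))]
        refine Ideal.mul_mem_left _ _ (hJK ?_ (heK 0))
        rw [he, if_neg (Fin.succ_ne_zero b)]
        exact hσJ b
    have e4 : ∑ a : Fin r, ∑ b, e (Q₀ a.succ b) * e (x a.succ) * e (x b) ∈ C :=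
      Ideal.sum_mem _ fun a _ => Ideal.sum_mem _ fun b _ => by
        rw [mul_assoc]
        refine Ideal.mul_mem_left _ _ (hJK ?_ (heK b))
        rw [he, if_neg (Fin.succ_ne_zero a)]
        exact hσJ a
    have : e (x 0) = x 0 := by simp [he]
    rw [this] at e3 ⊢
    convert add_mem (add_mem (add_mem e1 e2) e3) e4 using 1
    ring
  obtain ⟨μ, hμ, _, hy, hyeq⟩ := Submodule.mem_sup.1 hgC
  obtain ⟨y, rfl⟩ := Ideal.mem_span_singleton'.1 hy
  let w : H := e (Q₀ 0 0) + y * x 0
  have hem : ∀ i, e (x i) ∈ maximalIdeal H := fun i => by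
    rw [he]; split_ifs; exacts [hH.mem 0, hσm i]
  have hw : IsUnit w := by
    rw [← residue_ne_zero_iff_isUnit]
    simp only [w, map_add, map_mul, hH.residue_endo e hem, (residue_eq_zero_iff _).2 (hH.mem 0),
      mul_zero, add_zero]
    exact hQ00
  have hgfix : hH.proj s g = g := by
    refine AlgHom.congr_fun (hH.endo_ext (f := (hH.proj s).comp (hH.proj s)) (g := hH.proj s)
      (fun i => ?_) fun i => ?_) _
    · have hπm : ∀ j, hH.proj s (x j) ∈ maximalIdeal H := fun j => by
        rw [hH.proj_x]; split_ifs; exacts [zero_mem _, hH.mem _]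
      exact hH.map_mem_maximalIdeal hH.isLocalHom _ hπm (hπm i)
    · simp only [AlgHom.comp_apply, hH.proj_x]
      split_ifs with hi
      · simp
      · simp [hH.proj_x, hi]
  obtain ⟨b, c, v, hb, hc', hv, hgv⟩ := hH.exists_quadratic_prep g hgfix w hw (by
    convert hμ using 1
    linear_combination -hyeq)
  obtain ⟨v', hv'⟩ := isUnit_iff_exists_inv.1 hv
  let Qm : Matrix (Fin r) (Fin r) H := Matrix.of fun i j => v' * Q i.succ j.succ
  have hQm : Qm.map (residue H) + (Qm.map (residue H))ᵀ =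
      residue H v' • (hH.jac fun i => hH.pd i F).submatrix Fin.succ Fin.succ := by
    ext i j
    simp [Qm, jac, hQ _ ((hmem _).2 (Fin.succ_ne_zero i)) _ ((hmem _).2 (Fin.succ_ne_zero j)),
      mul_add]
  obtain ⟨a', ha', haQ⟩ := hH.exists_table Qm (by
    rw [hQm, Matrix.det_smul]
    exact (((isUnit_iff_exists_inv.2 ⟨v, (mul_comm v' v).trans hv'⟩ : IsUnit v').map _).pow _).mul hJ)
  obtain ⟨φ, hφfix, hφ⟩ := hH.exists_morse Fin.succ (Fin.succ_injective r) a' ha' Qm haQ
  set p := x 0 ^ 2 + algebraMap A H b * x 0 + algebraMap A H c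
  have hφp : φ p = p := by
    have hx0 : hH.proj s (x 0) = x 0 := by rw [hH.proj_x, if_neg (by simp [hmem])]
    have := hφfix (x 0)
    rw [hx0] at this
    simp [p, this]
  refine ⟨a', b, c, τ.trans φ.symm, φ.symm v, ha', hb, hc', hv.map φ.symm, ?_⟩
  rw [AlgEquiv.trans_apply, AlgEquiv.symm_apply_eq, map_mul, φ.apply_symm_apply, map_add, hφp, hφ,
    hτF, hgv, mul_add v p]
  congr 1
  have h00 : ∀ j, Q 0 j = 0 ∧ Q j 0 = 0 := fun j =>
    ⟨(hQout 0 (by simp [hmem])).1 j, (hQout 0 (by simp [hmem])).2 j⟩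
  rw [Fin.sum_univ_succ]
  simp only [(h00 _).1, zero_mul, Finset.sum_const_zero, zero_add]
  simp only [dotProduct, mulVec, Finset.mul_sum, Qm, Matrix.of_apply, Function.comp_apply]
  refine Finset.sum_congr rfl fun i _ => ?_
  rw [Fin.sum_univ_succ (fun j => Q i.succ j * x i.succ * x j), (h00 i.succ).2, zero_mul, zero_mul,
    zero_add]
  refine Finset.sum_congr rfl fun j _ => ?_
  linear_combination (-(Q i.succ j.succ) * x i.succ * x j.succ) * hv'

end IsHS

end degenerate

end Groth.Agent.HensMorse
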