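import Groth.Agent.HensMorse.Points
import Mathlib.RingTheory.TensorProduct.Basic
import Mathlib.RingTheory.Nakayama
import Mathlib.Algebra.CharP.Lemmas

/-!
# Non-degenerate quadratic points with radicial residue field are rational
-/

noncomputable section

namespace Groth.Agent.HensMorse

open IsLocalRing Matrix
open scoped TensorProduct

universe u

section coeff

variable {L : Type u} [Field L] {N : ℕ}

/-- The linear coefficients of a product. -/
theorem coeff_single_mul (g h : MvPowerSeries (Fin N) L) (i : Fin N) :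
    MvPowerSeries.coeff (Finsupp.single i 1) (g * h) =
      MvPowerSeries.constantCoeff g * MvPowerSeries.coeff (Finsupp.single i 1) h +
        MvPowerSeries.constantCoeff h * MvPowerSeries.coeff (Finsupp.single i 1) g := by
  classical
  set g₀ := MvPowerSeries.constantCoeff g
  set h₀ := MvPowerSeries.constantCoeff h
  have hne : (Finsupp.single i 1 : Fin N →₀ ℕ) ≠ 0 := by simp
  have h2 : (g - MvPowerSeries.C g₀) * (h - MvPowerSeries.C h₀) ∈ PSLib.vars N L ^ 2 := by
    rw [sq]
    exact Ideal.mul_mem_mul (by rw [PSLib.mem_vars_iff]; simp [g₀])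
      (by rw [PSLib.mem_vars_iff]; simp [h₀])
  have h3 := PSLib.mem_pow_iff.1 h2 (Finsupp.single i 1) (by simp [Finsupp.degree_single])
  rw [show (g - MvPowerSeries.C g₀) * (h - MvPowerSeries.C h₀) =
    g * h - MvPowerSeries.C g₀ * h - MvPowerSeries.C h₀ * g + MvPowerSeries.C (g₀ * h₀) by
      rw [map_mul]; ring] at h3
  simp only [map_add, map_sub, MvPowerSeries.coeff_C_mul, MvPowerSeries.coeff_C, hne, if_false,
    add_zero] at h3
  linear_combination h3

end coeff

/-- A surjection of rings over a field has a semilinear section. -/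
theorem exists_semilinear_section {K B L : Type u} [Field K] [CommRing B] [CommRing L]
    (κ : K →+* B) (ev : B →+* L) (hev : Function.Surjective ev) :
    ∃ s : L →+ B, (∀ a, ev (s a) = a) ∧ ∀ c a, s (ev (κ c) * a) = κ c * s a := by
  let _ : Algebra K B := κ.toAlgebra
  let _ : Algebra K L := (ev.comp κ).toAlgebra
  let evA : B →ₐ[K] L := AlgHom.mk ev fun c => rfl
  obtain ⟨s, hs⟩ := evA.toLinearMap.exists_rightInverse_of_surjective (LinearMap.range_eq_top.2 hev)
  refine ⟨s.toAddMonoidHom, fun a => LinearMap.congr_fun hs a, fun c a => ?_⟩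
  have h := map_smul s c a
  rw [Algebra.smul_def, Algebra.smul_def] at h
  exact h

set_option maxHeartbeats 1000000 in
-- long proof by lifted derivations
/-- `rational_of_nondeg` with the series given. -/
theorem rational_of_nondeg_series {k : Type u} [Field k] {O : Type u} [CommRing O] [IsLocalRing O]
    [Algebra k O] [Algebra.EssFiniteType k O] {L : Type u} [Field L] [Algebra k L]
    [Algebra.IsAlgebraic k L] {N : ℕ}
    (hpi : ∀ o : O, ∃ (e : ℕ) (c : k), o ^ ringExpChar k ^ e - algebraMap k O c ∈ maximalIdeal O)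
    (M : Ideal (L ⊗[k] O)) [M.IsMaximal] {f : MvPowerSeries (Fin N) L}
    (hf : VanCyc.NondegQuadSeries f)
    (e : AdicCompletion (maximalIdeal (Localization.AtPrime M)) (Localization.AtPrime M) ≃ₐ[L]
      MvPowerSeries (Fin N) L ⧸ Ideal.span {f}) :
    ∀ o : O, ∃ c : k, o - algebraMap k O c ∈ maximalIdeal O := by
  classical
  let PL := MvPowerSeries (Fin N) L
  let T := L ⊗[k] O
  have hf2 : f ∈ PSLib.vars N L ^ 2 := (noLowTerms_iff_mem_sq f).1 hf.1
  have hfv : f ∈ PSLib.vars N L := Ideal.pow_le_self two_ne_zero hf2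
  haveI : IsNoetherianRing T := Algebra.EssFiniteType.isNoetherianRing L T
  obtain ⟨ρ, hρM, hρpow, hρdense⟩ := exists_rho M hfv e
  let π : PL →ₐ[L] PL ⧸ Ideal.span {f} := Ideal.Quotient.mkₐ L _
  have hπs : Function.Surjective π := Ideal.Quotient.mk_surjective
  let lift : T → PL := fun t => Function.surjInv hπs (ρ t)
  have hlift : ∀ t, π (lift t) = ρ t := fun t => Function.surjInv_eq hπs _
  have hsub : ∀ {g g' : PL}, π g = π g' → g - g' ∈ PSLib.vars N L ^ 2 := fun {g g'} h => by
    have h1 : g - g' ∈ Ideal.span {f} := (Ideal.Quotient.eq).1 h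
    exact (Ideal.span_singleton_le_iff_mem _).2 hf2 h1
  -- value and derivatives at the point
  let ev : T → L := fun t => MvPowerSeries.constantCoeff (lift t)
  have hev : ∀ {g t}, π g = ρ t → ev t = MvPowerSeries.constantCoeff g := fun {g t} h => by
    have h1 := PSLib.mem_pow_iff.1 (hsub ((hlift t).trans h.symm)) 0 (by simp)
    rw [map_sub, sub_eq_zero] at h1
    simpa [ev] using h1
  let δ : Fin N → T → L := fun i t => MvPowerSeries.coeff (Finsupp.single i 1) (lift t)
  have hδ : ∀ {g t} i, π g = ρ t → δ i t = MvPowerSeries.coeff (Finsupp.single i 1) g :=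
    fun {g t} i h => by
      have h1 := PSLib.mem_pow_iff.1 (hsub ((hlift t).trans h.symm)) (Finsupp.single i 1)
        (by simp [Finsupp.degree_single])
      rwa [map_sub, sub_eq_zero] at h1
  have hev_add : ∀ s t, ev (s + t) = ev s + ev t := fun s t => by
    rw [hev (g := lift s + lift t) (by rw [map_add, map_add, hlift, hlift]), map_add]
  have hev_mul : ∀ s t, ev (s * t) = ev s * ev t := fun s t => by
    rw [hev (g := lift s * lift t) (by rw [map_mul, map_mul, hlift, hlift]), map_mul]
  have hev_alg : ∀ a : L, ev (algebraMap L T a) = a := fun a => by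
    rw [hev (g := MvPowerSeries.C a) (by
      rw [ρ.commutes]; exact π.commutes a), MvPowerSeries.constantCoeff_C]
  have hev1 : ev 1 = 1 := by simpa using hev_alg 1
  have hev0 : ev 0 = 0 := by simpa using hev_alg 0
  let evH : T →+* L := ⟨⟨⟨ev, hev1⟩, hev_mul⟩, hev0, hev_add⟩
  have hev_mem : ∀ {t}, t ∈ M ↔ evH t = 0 := by
    intro t
    constructor
    · intro ht
      have h1 : ρ t ∈ (PSLib.vars N L).map π := hρM ▸ Ideal.mem_map_of_mem ρ ht
      obtain ⟨g, hg, hgt⟩ := (Ideal.mem_map_iff_of_surjective π hπs).1 h1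
      show ev t = 0
      rw [hev hgt]
      exact PSLib.mem_vars_iff.1 hg
    · intro ht
      have h1 : lift t ∈ PSLib.vars N L := PSLib.mem_vars_iff.2 ht
      have h2 := Ideal.mem_map_of_mem π h1
      rw [hlift] at h2
      have h3 := hρpow 1 t (by
        rw [show (PSLib.vars N L).map π = (PSLib.vars N L).map (Ideal.Quotient.mk (Ideal.span {f}))
          from rfl] at h2
        simpa only [Submodule.pow_one] using h2)
      simpa only [Submodule.pow_one] using h3
  have hδ_add : ∀ i s t, δ i (s + t) = δ i s + δ i t := fun i s t => by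
    rw [hδ i (g := lift s + lift t) (by rw [map_add, map_add, hlift, hlift]), map_add]
  have hδ_mul : ∀ i s t, δ i (s * t) = evH s * δ i t + evH t * δ i s := fun i s t => by
    rw [hδ i (g := lift s * lift t) (by rw [map_mul, map_mul, hlift, hlift]), coeff_single_mul]
    rfl
  have hδ_alg : ∀ i (a : L), δ i (algebraMap L T a) = 0 := fun i a => by
    rw [hδ i (g := MvPowerSeries.C a) (by rw [ρ.commutes]; exact π.commutes a),
      MvPowerSeries.coeff_C, if_neg (by simp)]
  -- the closed fibre of `O → T`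
  let ι : O →+* T := (Algebra.TensorProduct.includeRight : O →ₐ[k] T).toRingHom
  have hιalg : ∀ c : k, ι (algebraMap k O c) = algebraMap L T (algebraMap k L c) := fun c => by
    show (1 : L) ⊗ₜ[k] algebraMap k O c = algebraMap k L c ⊗ₜ[k] (1 : O)
    rw [Algebra.algebraMap_eq_smul_one, Algebra.algebraMap_eq_smul_one, ← TensorProduct.smul_tmul]
  set 𝔪 := (maximalIdeal O).map ι with h𝔪
  have h𝔪M : 𝔪 ≤ M := by
    haveI := Ideal.isMaximal_comap_of_isIntegral_of_isMaximal' ι includeRight_isIntegral M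
    rw [h𝔪, Ideal.map_le_iff_le_comap, IsLocalRing.eq_maximalIdeal (I := M.comap ι) inferInstance]
  let Tb := T ⧸ 𝔪
  let mkb : T →+* Tb := Ideal.Quotient.mk 𝔪
  set Mb : Ideal Tb := M.map mkb with hMb
  let evb : Tb →+* L := Ideal.Quotient.lift 𝔪 evH fun t ht => hev_mem.1 (h𝔪M ht)
  have hevb : ∀ t, evb (mkb t) = evH t := fun t => rfl
  have hMb_mem : ∀ {z}, evb z = 0 → z ∈ Mb := fun {z} hz => by
    obtain ⟨t, rfl⟩ := Ideal.Quotient.mk_surjective z
    exact Ideal.mem_map_of_mem mkb (hev_mem.2 hz)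
  -- a semilinear section of the evaluation
  let K := ResidueField O
  let κ : K →+* Tb := Ideal.Quotient.lift (maximalIdeal O) (mkb.comp ι) fun o ho =>
    Ideal.Quotient.eq_zero_iff_mem.2 (Ideal.mem_map_of_mem ι ho)
  have hκ : ∀ o, κ (residue O o) = mkb (ι o) := fun o => rfl
  obtain ⟨s, hsev, hss⟩ := exists_semilinear_section κ evb
    fun a => ⟨mkb (algebraMap L T a), hev_alg a⟩
  have hsmul : ∀ (o : O) (a : L), s (evH (ι o) * a) = mkb (ι o) * s a := fun o a =>
    hss (residue O o) a
  have hsmulk : ∀ (c : k) (z : Tb), c • z = mkb (algebraMap L T (algebraMap k L c)) * z := fun c z => by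
    obtain ⟨u, rfl⟩ := Ideal.Quotient.mk_surjective z
    show mkb (c • u) = _
    rw [Algebra.smul_def, map_mul, IsScalarTower.algebraMap_apply k L T]
  have hsmulL : ∀ (a : L) (z : Tb), a • z = mkb (algebraMap L T a) * z := fun a z => by
    obtain ⟨u, rfl⟩ := Ideal.Quotient.mk_surjective z
    show mkb (a • u) = _
    rw [Algebra.smul_def, map_mul]
  -- lifted derivations
  let g : Fin N → O →ₗ[k] Tb := fun i =>
    { toFun := fun o => s (δ i (ι o))
      map_add' := fun o o' => by rw [map_add, hδ_add, map_add]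
      map_smul' := fun c o => by
        have h1 : δ i (ι (c • o)) = evH (ι (algebraMap k O c)) * δ i (ι o) := by
          rw [Algebra.smul_def, map_mul, hδ_mul,
            show δ i (ι (algebraMap k O c)) = 0 by rw [hιalg, hδ_alg], mul_zero, add_zero]
        rw [h1, hsmul, RingHom.id_apply, hιalg, hsmulk] }
  let D : Fin N → T →ₗ[L] Tb := fun i => (g i).liftBaseChange L
  have hD : ∀ i a o, D i (a ⊗ₜ[k] o) = mkb (algebraMap L T a) * s (δ i (ι o)) := fun i a o => by
    show a • s (δ i (ι o)) = _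
    rw [hsmulL]
  have htmul : ∀ (a : L) (o : O), a ⊗ₜ[k] o = algebraMap L T a * ι o := fun a o => by
    show _ = (a ⊗ₜ[k] (1 : O)) * ((1 : L) ⊗ₜ[k] o)
    rw [Algebra.TensorProduct.tmul_mul_tmul, mul_one, one_mul]
  have hDmul : ∀ i u v, D i (u * v) = mkb u * D i v + mkb v * D i u := by
    intro i u v
    induction u using TensorProduct.induction_on with
    | zero => simp
    | add p q hp hq => rw [add_mul, map_add, map_add, map_add, hp, hq]; ring
    | tmul a o =>
      induction v using TensorProduct.induction_on with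
      | zero => simp
      | add p q hp hq => rw [mul_add, map_add, map_add, map_add, hp, hq]; ring
      | tmul b p =>
        rw [Algebra.TensorProduct.tmul_mul_tmul, hD, hD, hD, map_mul ι, hδ_mul, map_add, hsmul,
          hsmul, map_mul, map_mul, htmul a o, htmul b p, map_mul, map_mul]
        ring
  have hDev : ∀ i t, evb (D i t) = δ i t := by
    intro i t
    induction t using TensorProduct.induction_on with
    | zero =>
      rw [map_zero, map_zero]
      exact ((map_zero (algebraMap L T)) ▸ hδ_alg i 0).symm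
    | add p q hp hq => rw [map_add, map_add, hp, hq, hδ_add]
    | tmul a o =>
      rw [hD, map_mul, hevb, hsev, htmul a o, hδ_mul, hδ_alg, mul_zero, add_zero]
  have hD2 : ∀ i, ∀ t ∈ M ^ 2, D i t ∈ Mb := by
    intro i t ht
    rw [sq] at ht
    refine Submodule.mul_induction_on ht (fun u hu v hv => ?_) fun u v hu hv => by
      rw [map_add]; exact add_mem hu hv
    rw [hDmul]
    exact add_mem (Ideal.mul_mem_right _ _ (Ideal.mem_map_of_mem _ hu))
      (Ideal.mul_mem_right _ _ (Ideal.mem_map_of_mem _ hv))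
  have hD3 : ∀ i, ∀ t ∈ M ^ 3, D i t ∈ Mb ^ 2 := by
    intro i t ht
    rw [pow_succ'] at ht
    refine Submodule.mul_induction_on ht (fun u hu v hv => ?_) fun u v hu hv => by
      rw [map_add]; exact add_mem hu hv
    rw [hDmul]
    refine add_mem ?_ ?_
    · rw [sq]
      exact Ideal.mul_mem_mul (Ideal.mem_map_of_mem _ hu) (hD2 i v hv)
    · exact Ideal.mul_mem_right _ _ (Ideal.map_pow mkb M 2 ▸ Ideal.mem_map_of_mem mkb hv)
  -- coordinates at the point
  choose x hx using fun l : Fin N => hρdense 2 (π (MvPowerSeries.X l))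
  have hxπ : ∀ l, ∃ w ∈ PSLib.vars N L ^ 2, π (MvPowerSeries.X l - w) = ρ (x l) := fun l => by
    have := hx l
    rw [← Ideal.map_pow] at this
    obtain ⟨w, hw, hwe⟩ := (Ideal.mem_map_iff_of_surjective _ hπs).1 this
    exact ⟨w, hw, by rw [map_sub]; linear_combination -hwe⟩
  choose w hw hwx using hxπ
  have hxM : ∀ l, x l ∈ M := fun l => hev_mem.2 <| by
    show ev (x l) = 0
    rw [hev (hwx l), map_sub, MvPowerSeries.constantCoeff_X,
      PSLib.mem_vars_iff.1 (Ideal.pow_le_self two_ne_zero (hw l)), sub_zero]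
  have hxδ : ∀ i l, δ i (x l) = if i = l then 1 else 0 := fun i l => by
    rw [hδ i (hwx l), map_sub, MvPowerSeries.coeff_X,
      PSLib.mem_pow_iff.1 (hw l) _ (by simp [Finsupp.degree_single]), sub_zero]
    simp [Finsupp.single_eq_single_iff, eq_comm]
  have hgen : M ≤ Ideal.span (Set.range x) ⊔ M ^ 2 := by
    intro t ht
    obtain ⟨g, hg, hgt⟩ := (Ideal.mem_map_iff_of_surjective π hπs).1
      (show ρ t ∈ (PSLib.vars N L).map π from hρM ▸ Ideal.mem_map_of_mem ρ ht)
    have h1 : g - ∑ l, MvPowerSeries.C (δ l t) * (MvPowerSeries.X l - w l) ∈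
        PSLib.vars N L ^ 2 := by
      simp only [mul_sub, Finset.sum_sub_distrib]
      rw [show g - (∑ l, MvPowerSeries.C (δ l t) * MvPowerSeries.X l -
        ∑ l, MvPowerSeries.C (δ l t) * w l) = (g - ∑ l, MvPowerSeries.C (δ l t) * MvPowerSeries.X l) +
        ∑ l, MvPowerSeries.C (δ l t) * w l by ring]
      refine add_mem ((noLowTerms_iff_mem_sq _).1 ⟨?_, fun i => ?_⟩)
        (Ideal.sum_mem _ fun l _ => Ideal.mul_mem_left _ _ (hw l))
      · simp [map_sum, PSLib.mem_vars_iff.1 hg]
      · rw [map_sub, map_sum, sub_eq_zero, Finset.sum_eq_single i]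
        · rw [MvPowerSeries.coeff_C_mul, MvPowerSeries.coeff_X, if_pos rfl, mul_one, hδ i hgt]
        · intro l _ hl
          rw [MvPowerSeries.coeff_C_mul, MvPowerSeries.coeff_X,
            if_neg (fun h => hl (Finsupp.single_left_injective one_ne_zero h).symm), mul_zero]
        · simp
    have h2 : t - ∑ l, algebraMap L T (δ l t) * x l ∈ M ^ 2 := by
      refine hρpow 2 _ ?_
      have := Ideal.mem_map_of_mem π h1
      rw [Ideal.map_pow, map_sub, map_sum, hgt] at this
      rw [map_sub ρ, map_sum ρ]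
      rw [show ∑ l, ρ (algebraMap L T (δ l t) * x l) =
        ∑ l, π (MvPowerSeries.C (δ l t) * (MvPowerSeries.X l - w l)) from
        Finset.sum_congr rfl fun l _ => by
          rw [map_mul, map_mul, ρ.commutes, hwx]
          congr 1]
      exact this
    rw [← sub_add_cancel t (∑ l, algebraMap L T (δ l t) * x l)]
    exact add_mem (Submodule.mem_sup_right h2) (Submodule.mem_sup_left
      (Ideal.sum_mem _ fun l _ => Ideal.mul_mem_left _ _ (Ideal.subset_span ⟨l, rfl⟩)))
  -- the quadratic form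
  obtain ⟨Z, hZ⟩ := exists_quadSeries f hf2
  set c := Z.map MvPowerSeries.constantCoeff with hc
  have hcdet : (c + cᵀ).det ≠ 0 := by
    rw [← quadNondeg_fold_iff, hc, ← (quadSeries_props Z).2, ← hZ]
    exact hf.2
  let p : T := ∑ l, ∑ m, algebraMap L T (c l m) * (x l * x m)
  have hp : p ∈ M ^ 3 := by
    refine hρpow 3 _ ?_
    have h1 : f - ∑ l, ∑ m, MvPowerSeries.C (c l m) *
        ((MvPowerSeries.X l - w l) * (MvPowerSeries.X m - w m)) ∈ PSLib.vars N L ^ 3 := by
      rw [show f = ∑ l, ∑ m, Z l m * (MvPowerSeries.X l * MvPowerSeries.X m) by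
        rw [hZ]
        simp only [dotProduct, mulVec, Finset.mul_sum]
        exact Finset.sum_congr rfl fun l _ => Finset.sum_congr rfl fun m _ => by ring,
        ← Finset.sum_sub_distrib]
      refine Ideal.sum_mem _ fun l _ => ?_
      rw [← Finset.sum_sub_distrib]
      refine Ideal.sum_mem _ fun m _ => ?_
      have hX : ∀ j : Fin N, (MvPowerSeries.X j : PL) ∈ PSLib.vars N L := fun j =>
        Ideal.subset_span ⟨j, rfl⟩
      have hXw : ∀ j : Fin N, MvPowerSeries.X j - w j ∈ PSLib.vars N L := fun j =>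
        sub_mem (hX j) (Ideal.pow_le_self two_ne_zero (hw j))
      rw [show Z l m * (MvPowerSeries.X l * MvPowerSeries.X m) - MvPowerSeries.C (c l m) *
        ((MvPowerSeries.X l - w l) * (MvPowerSeries.X m - w m)) =
        (Z l m - MvPowerSeries.C (c l m)) * (MvPowerSeries.X l * MvPowerSeries.X m) +
          MvPowerSeries.C (c l m) * (w l * MvPowerSeries.X m) +
          MvPowerSeries.C (c l m) * ((MvPowerSeries.X l - w l) * w m) by ring]
      refine add_mem (add_mem ?_ ?_) ?_
      · rw [pow_succ', sq]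
        exact Ideal.mul_mem_mul (PSLib.mem_vars_iff.2 (by simp [c])) (Ideal.mul_mem_mul (hX l) (hX m))
      · refine Ideal.mul_mem_left _ _ ?_
        rw [pow_succ]
        exact Ideal.mul_mem_mul (hw l) (hX m)
      · refine Ideal.mul_mem_left _ _ ?_
        rw [pow_succ']
        exact Ideal.mul_mem_mul (hXw l) (hw m)
    have h2 := Ideal.mem_map_of_mem π h1
    rw [Ideal.map_pow, map_sub, show π f = 0 from
      Ideal.Quotient.eq_zero_iff_mem.2 (Ideal.mem_span_singleton_self f), zero_sub,
      neg_mem_iff] at h2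
    have h3 : ρ p = π (∑ l, ∑ m, MvPowerSeries.C (c l m) *
        ((MvPowerSeries.X l - w l) * (MvPowerSeries.X m - w m))) := by
      simp only [p, map_sum, map_mul, hwx]
      refine Finset.sum_congr rfl fun l _ => Finset.sum_congr rfl fun m _ => ?_
      rw [ρ.commutes]
      congr 1
    rw [h3]
    exact h2
  let cb : Matrix (Fin N) (Fin N) Tb := (c + cᵀ).map (mkb.comp (algebraMap L T))
  let xb : Fin N → Tb := fun l => mkb (x l)
  have hlin : ∀ i, (cb *ᵥ xb) i ∈ Mb ^ 2 := by
    intro i
    have hxb : ∀ l, xb l ∈ Mb := fun l => Ideal.mem_map_of_mem mkb (hxM l)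
    have h1 := hD3 i p hp
    have h2 : D i p - (cb *ᵥ xb) i ∈ Mb ^ 2 := by
      have hDx : ∀ l, D i (x l) - (if i = l then 1 else 0) ∈ Mb := fun l => hMb_mem (by
        rw [map_sub, hDev, hxδ, apply_ite evb, map_one, map_zero, sub_self])
      have e1 : D i p = ∑ l, ∑ m, mkb (algebraMap L T (c l m)) *
          (xb l * D i (x m) + xb m * D i (x l)) := by
        simp only [p, map_sum]
        refine Finset.sum_congr rfl fun l _ => Finset.sum_congr rfl fun m _ => ?_
        rw [← Algebra.smul_def, map_smul, hDmul, hsmulL]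
      have e2 : (cb *ᵥ xb) i = ∑ l, ∑ m, mkb (algebraMap L T (c l m)) *
          (xb l * (if i = m then 1 else 0) + xb m * (if i = l then 1 else 0)) := by
        simp only [mul_add, mul_ite, mul_one, mul_zero, Finset.sum_add_distrib, Finset.sum_ite_eq,
          Finset.mem_univ, if_true, cb, mulVec, dotProduct, Matrix.map_apply, Matrix.add_apply,
          Matrix.transpose_apply, map_add, RingHom.comp_apply, add_mul, Finset.sum_ite_irrel,
          Finset.sum_const_zero]
        exact add_comm _ _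
      rw [e1, e2, ← Finset.sum_sub_distrib]
      refine Ideal.sum_mem _ fun l _ => ?_
      rw [← Finset.sum_sub_distrib]
      refine Ideal.sum_mem _ fun m _ => ?_
      rw [← mul_sub, add_sub_add_comm, ← mul_sub, ← mul_sub, sq]
      exact Ideal.mul_mem_left _ _ (add_mem (Ideal.mul_mem_mul (hxb l) (hDx m))
        (Ideal.mul_mem_mul (hxb m) (hDx l)))
    have h3 := sub_mem h1 h2
    rwa [sub_sub_cancel] at h3
  have hcb : IsUnit cb.det := by
    show IsUnit ((mkb.comp (algebraMap L T)).mapMatrix (c + cᵀ)).det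
    rw [← RingHom.map_det]
    exact (isUnit_iff_ne_zero.2 hcdet).map _
  have hxb2 : ∀ l, xb l ∈ Mb ^ 2 := fun l => by
    have h3 : xb = cb⁻¹ *ᵥ (cb *ᵥ xb) := by
      rw [Matrix.mulVec_mulVec, Matrix.nonsing_inv_mul _ hcb, Matrix.one_mulVec]
    rw [congrFun h3 l]
    show ∑ j, cb⁻¹ l j * (cb *ᵥ xb) j ∈ _
    exact Ideal.sum_mem _ fun j _ => Ideal.mul_mem_left _ _ (hlin j)
  -- nilpotence
  have hpow : ∀ t : T, ∃ (e : ℕ) (a : L), t ^ ringExpChar k ^ e - algebraMap L T a ∈ 𝔪 := by
    intro t
    haveI : Nontrivial T := ⟨⟨0, 1, fun h => by simpa [hev0, hev1] using congrArg ev h⟩⟩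
    haveI : ExpChar T (ringExpChar k) :=
      expChar_of_injective_algebraMap (algebraMap k T).injective _
    have hraise : ∀ {t : T} {e : ℕ} {a : L}, t ^ ringExpChar k ^ e - algebraMap L T a ∈ 𝔪 → ∀ d,
        t ^ ringExpChar k ^ (e + d) - algebraMap L T (a ^ ringExpChar k ^ d) ∈ 𝔪 := by
      intro t e a h d
      rw [pow_add, pow_mul, map_pow, ← sub_pow_expChar_pow]
      exact Ideal.pow_mem_of_mem _ h _ (pow_pos (expChar_pos T _) _)
    induction t using TensorProduct.induction_on with
    | zero => exact ⟨0, 0, by simp [(expChar_pos T (ringExpChar k)).ne']⟩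
    | add u v hu hv =>
      obtain ⟨e₁, a₁, h₁⟩ := hu
      obtain ⟨e₂, a₂, h₂⟩ := hv
      refine ⟨e₁ + e₂, a₁ ^ ringExpChar k ^ e₂ + a₂ ^ ringExpChar k ^ e₁, ?_⟩
      rw [add_pow_expChar_pow, map_add, add_sub_add_comm]
      refine add_mem (hraise h₁ e₂) ?_
      rw [add_comm e₁ e₂]
      exact hraise h₂ e₁
    | tmul a o =>
      obtain ⟨e, c₀, hc₀⟩ := hpi o
      refine ⟨e, a ^ ringExpChar k ^ e * algebraMap k L c₀, ?_⟩
      rw [htmul, mul_pow, map_mul, ← map_pow, ← map_pow, ← mul_sub, ← hιalg, ← map_sub]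
      exact Ideal.mul_mem_left _ _ (Ideal.mem_map_of_mem ι hc₀)
  have hnil : Mb ≤ Ideal.jacobson ⊥ := by
    refine Ideal.map_le_iff_le_comap.2 fun t ht => ?_
    obtain ⟨e, a, ha⟩ := hpow t
    have hq : ringExpChar k ^ e ≠ 0 := (pow_pos (expChar_pos k _) _).ne'
    have ha0 : a = 0 := by
      rw [← hev_alg a]
      refine hev_mem.1 ?_
      simpa using sub_mem (Ideal.pow_mem_of_mem M ht _ (Nat.pos_of_ne_zero hq)) (h𝔪M ha)
    rw [ha0, map_zero, sub_zero] at ha
    refine Ideal.radical_le_jacobson ⟨ringExpChar k ^ e, ?_⟩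
    rw [Ideal.mem_bot, ← map_pow]
    exact Ideal.Quotient.eq_zero_iff_mem.2 ha
  have hsq : Mb ≤ Mb * Mb := by
    refine (Ideal.map_mono hgen).trans ?_
    rw [Ideal.map_sup, Ideal.map_pow, Ideal.map_span, ← Set.range_comp,
      show Mb * Mb = Mb ^ 2 from (sq Mb).symm]
    exact sup_le (Ideal.span_le.2 (Set.range_subset_iff.2 hxb2)) le_rfl
  have hbot : Mb = ⊥ :=
    Submodule.eq_bot_of_le_smul_of_le_jacobson_bot Mb Mb (IsNoetherian.noetherian _) hsq hnil
  have hM𝔪 : M ≤ 𝔪 := fun t ht => Ideal.Quotient.eq_zero_iff_mem.1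
    ((Submodule.eq_bot_iff _).1 hbot _ (Ideal.mem_map_of_mem mkb ht))
  -- conclusion
  obtain ⟨r, hr⟩ := LinearMap.exists_leftInverse_of_injective (Algebra.linearMap k L)
    (LinearMap.ker_eq_bot.2 (algebraMap k L).injective)
  have hr1 : r 1 = 1 := by simpa using LinearMap.congr_fun hr 1
  let rT : T →ₗ[k] O := (TensorProduct.lid k O).toLinearMap ∘ₗ TensorProduct.map r LinearMap.id
  have hrT : ∀ a o, rT (a ⊗ₜ[k] o) = r a • o := fun a o => by
    show (TensorProduct.lid k O) (r a ⊗ₜ[k] o) = _
    rw [TensorProduct.lid_tmul]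
  have hrTm : ∀ t ∈ 𝔪, rT t ∈ maximalIdeal O := by
    intro t ht
    suffices ∀ u, rT (u * t) ∈ maximalIdeal O by simpa using this 1
    refine Submodule.span_induction (p := fun z _ => ∀ u, rT (u * z) ∈ maximalIdeal O)
      ?_ ?_ ?_ ?_ ht
    · rintro _ ⟨o, ho, rfl⟩ u
      induction u using TensorProduct.induction_on with
      | zero => simp
      | add p q hp hq => rw [add_mul, map_add]; exact add_mem hp hq
      | tmul a p =>
        show rT ((a ⊗ₜ[k] p) * ((1 : L) ⊗ₜ[k] o)) ∈ _
        rw [Algebra.TensorProduct.tmul_mul_tmul, hrT, mul_comm p, ← mul_smul_comm]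
        exact Ideal.mul_mem_right _ _ ho
    · intro u; simp
    · intro a b _ _ ha hb u
      rw [mul_add, map_add]
      exact add_mem (ha u) (hb u)
    · intro c a _ ha u
      rw [smul_eq_mul, ← mul_assoc]
      exact ha _
  intro o
  refine ⟨r (evH (ι o)), ?_⟩
  have h1 : ι o - algebraMap L T (evH (ι o)) ∈ M := hev_mem.2 <| by
    rw [map_sub, sub_eq_zero]
    exact (hev_alg _).symm
  have h2 := hrTm _ (hM𝔪 h1)
  rw [map_sub] at h2
  convert h2 using 2
  · show o = rT ((1 : L) ⊗ₜ[k] o)
    rw [hrT, hr1, one_smul]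
  · show _ = rT (evH (ι o) ⊗ₜ[k] (1 : O))
    rw [hrT, Algebra.algebraMap_eq_smul_one]

/-- A point of a local ring with purely inseparable residue field, non-degenerate quadratic after
extension to an algebraic closure, is rational. -/
theorem rational_of_nondeg {k : Type u} [Field k] {O : Type u} [CommRing O] [IsLocalRing O]
    [Algebra k O] [Algebra.EssFiniteType k O] {L : Type u} [Field L] [Algebra k L]
    [Algebra.IsAlgebraic k L] {n : ℕ}
    (hpi : ∀ o : O, ∃ (e : ℕ) (c : k), o ^ ringExpChar k ^ e - algebraMap k O c ∈ maximalIdeal O)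
    (M : Ideal (L ⊗[k] O)) [M.IsMaximal]
    (hM : VanCyc.IsNondegQuadSing L (Localization.AtPrime M) n) :
    ∀ o : O, ∃ c : k, o - algebraMap k O c ∈ maximalIdeal O := by
  obtain ⟨f, hf, ⟨e⟩⟩ := hM
  exact rational_of_nondeg_series hpi M hf e

end Groth.Agent.HensMorse
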