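import Groth.Agent.HensMorse.Morse
import Groth.Agent.PSQuad.Morse
import Groth.Agent.PSQuad.Coeff
import Groth.Agent.Hensel.NoethPair

/-!
# Power series of henselian series rings and transformation of quadratic parts
-/

noncomputable section

namespace Groth.Agent.HensMorse

open IsLocalRing Matrix

universe u

section series

variable {L : Type u} [Field L] {N : ℕ}

local notation "P" => MvPowerSeries (Fin N) L
local notation "𝔳" => PSLib.vars N L

theorem vars_eq_maximalIdeal : 𝔳 = maximalIdeal P := PSQuad.vars_eq_maximalIdeal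

theorem constantCoeff_algHom (φ : P →ₐ[L] P) (hφ : ∀ i, φ (MvPowerSeries.X i) ∈ 𝔳) (z : P) :
    MvPowerSeries.constantCoeff (φ z) = MvPowerSeries.constantCoeff z := by
  have h0 : z - MvPowerSeries.C (MvPowerSeries.constantCoeff z) ∈ 𝔳 := by
    rw [PSLib.mem_vars_iff]; simp
  have h1 := PSQuad.map_mem_vars φ hφ h0
  rw [map_sub, show φ (MvPowerSeries.C (MvPowerSeries.constantCoeff z)) =
    MvPowerSeries.C (MvPowerSeries.constantCoeff z) from φ.commutes _, PSLib.mem_vars_iff,
    map_sub, MvPowerSeries.constantCoeff_C, sub_eq_zero] at h1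
  exact h1

theorem aeval_X_coe (p : MvPolynomial (Fin N) L) :
    MvPolynomial.aeval (R := L) (MvPowerSeries.X : Fin N → P) p = (p : P) := by
  induction p using MvPolynomial.induction_on with
  | C a => rw [MvPolynomial.aeval_C, MvPolynomial.coe_C]; rfl
  | add a b ha hb => simp [ha, hb]
  | mul_X a i ha => simp [ha]

/-- A series given by a matrix of quadratic coefficients. -/
theorem quadSeries_props (Z : Matrix (Fin N) (Fin N) P) :
    VanCyc.NoLowTerms (MvPowerSeries.X ⬝ᵥ (Z *ᵥ MvPowerSeries.X)) ∧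
      VanCyc.quadPart (MvPowerSeries.X ⬝ᵥ (Z *ᵥ MvPowerSeries.X)) =
        fold (Z.map MvPowerSeries.constantCoeff) := by
  classical
  set Z₀ := Z.map MvPowerSeries.constantCoeff
  set f : P := MvPowerSeries.X ⬝ᵥ (Z *ᵥ MvPowerSeries.X)
  let p : MvPolynomial (Fin N) L := VanCyc.quadPoly (fold Z₀)
  have hpdef : p = VanCyc.quadPoly (fold Z₀) := rfl
  have hp : (p : P) = MvPowerSeries.X ⬝ᵥ ((Z₀.map MvPowerSeries.C) *ᵥ MvPowerSeries.X) := by
    rw [← aeval_X_coe p]
    refine (aeval_quadPoly (R := L) (S := P) (fold Z₀) MvPowerSeries.X).trans ?_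
    rw [upper_fold, ← fold_map, dotProduct_fold]
    rfl
  have hd : f - (p : P) ∈ 𝔳 ^ 3 := by
    rw [hp]
    simp only [f, dotProduct, mulVec, ← Finset.sum_sub_distrib, ← mul_sub, ← sub_mul,
      Matrix.map_apply, Z₀]
    refine Ideal.sum_mem _ fun i _ => ?_
    rw [pow_succ', ]
    refine Ideal.mul_mem_mul (Ideal.subset_span ⟨i, rfl⟩) (Ideal.sum_mem _ fun j _ => ?_)
    rw [sq]
    refine Ideal.mul_mem_mul ?_ (Ideal.subset_span ⟨j, rfl⟩)
    rw [PSLib.mem_vars_iff]; simp
  have hc : ∀ d, Finsupp.degree d < 3 → MvPowerSeries.coeff d f = p.coeff d := fun d hd3 => by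
    have := PSLib.mem_pow_iff.1 hd d hd3
    rwa [map_sub, MvPolynomial.coeff_coe, sub_eq_zero] at this
  refine ⟨⟨?_, fun i => ?_⟩, ?_⟩
  · rw [← MvPowerSeries.coeff_zero_eq_constantCoeff_apply, hc 0 (by simp),
      hpdef]
    exact PSQuad.coeff_quadPoly_eq_zero (fold Z₀) (by simp)
  · rw [hc _ (by simp [Finsupp.degree_single]), hpdef]
    exact PSQuad.coeff_quadPoly_eq_zero (fold Z₀) (by simp [Finsupp.degree_single])
  · funext i j
    rcases le_or_gt i j with h | h
    · rw [PSQuad.quadPart_apply h, hc _ (by simp [map_add, Finsupp.degree_single]),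
        hpdef]
      exact PSQuad.coeff_quadPoly_pair _ h
    · simp [VanCyc.quadPart, fold, h.ne', not_lt.2 h.le]

theorem exists_quadSeries (f : P) (hf : f ∈ 𝔳 ^ 2) :
    ∃ Z : Matrix (Fin N) (Fin N) P, f = MvPowerSeries.X ⬝ᵥ (Z *ᵥ MvPowerSeries.X) := by
  obtain ⟨r, hr, hfr⟩ := PSQuad.exists_sum_X_mul hf
  choose s _ hsr using fun i => PSQuad.exists_sum_X_mul (N := 0) (hr i)
  refine ⟨Matrix.of fun i j => s i j, ?_⟩
  rw [hfr]
  simp only [dotProduct, mulVec, Matrix.of_apply]
  exact Finset.sum_congr rfl fun i _ => by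
    rw [hsr i]
    exact congrArg _ (Finset.sum_congr rfl fun j _ => mul_comm _ _)

theorem noLowTerms_iff_mem_sq (f : P) : VanCyc.NoLowTerms f ↔ f ∈ 𝔳 ^ 2 := by
  classical
  rw [PSLib.mem_pow_iff]
  constructor
  · rintro ⟨h0, h1⟩ d hd
    rcases PSQuad.degree_le_two_cases (by omega : Finsupp.degree d ≤ 2) with
      rfl | ⟨i, rfl⟩ | ⟨i, j, _, rfl⟩
    · simpa using h0
    · exact h1 i
    · simp [map_add, Finsupp.degree_single] at hd
  · intro h
    exact ⟨by simpa using h 0 (by simp), fun i => h _ (by simp [Finsupp.degree_single])⟩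

theorem quadEval_fold (Z : Matrix (Fin N) (Fin N) L) (v : Fin N → L) :
    VanCyc.quadEval (fold Z) v = v ⬝ᵥ (Z *ᵥ v) := by
  have h := aeval_quadPoly (R := L) (fold Z) v
  rw [upper_fold, Algebra.algebraMap_self, show (fold Z).map (RingHom.id L) = fold Z from
    Matrix.ext fun _ _ => rfl, dotProduct_fold] at h
  rw [← h]
  simp only [VanCyc.quadEval, VanCyc.quadPoly, map_sum]
  refine Finset.sum_congr rfl fun i _ => Finset.sum_congr rfl fun j _ => ?_
  split_ifs <;> simp

/-- The quadratic part is ordinary. -/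
def Ord (Z : Matrix (Fin N) (Fin N) L) : Prop :=
  ∀ v : Fin N → L, v ⬝ᵥ (Z *ᵥ v) = 0 → (Z + Zᵀ) *ᵥ v = 0 → v = 0

theorem quadOrd_fold_iff (Z : Matrix (Fin N) (Fin N) L) : VanCyc.QuadOrd (fold Z) ↔ Ord Z := by
  simp only [VanCyc.QuadOrd, Ord, quadEval_fold, polarMatrix_fold]

theorem quadNondeg_fold_iff (Z : Matrix (Fin N) (Fin N) L) :
    VanCyc.QuadNondeg (fold Z) ↔ (Z + Zᵀ).det ≠ 0 := by
  show IsUnit (VanCyc.polarMatrix (fold Z)).det ↔ _
  rw [polarMatrix_fold, isUnit_iff_ne_zero]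

theorem congr_transform (M Z : Matrix (Fin N) (Fin N) L) (c : L) (v : Fin N → L) :
    v ⬝ᵥ ((c • (Mᵀ * Z * M)) *ᵥ v) = c * ((M *ᵥ v) ⬝ᵥ (Z *ᵥ (M *ᵥ v))) ∧
      (c • (Mᵀ * Z * M)) + (c • (Mᵀ * Z * M))ᵀ = c • (Mᵀ * (Z + Zᵀ) * M) := by
  constructor
  · rw [Matrix.smul_mulVec, dotProduct_smul, ← Matrix.mulVec_mulVec, ← Matrix.mulVec_mulVec,
      smul_eq_mul]
    congr 1
    rw [mulVec_transpose, dotProduct_comm v, ← dotProduct_mulVec, dotProduct_comm]
  · simp only [Matrix.transpose_smul, Matrix.transpose_mul, Matrix.transpose_transpose,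
      Matrix.mul_add, Matrix.add_mul, smul_add, Matrix.mul_assoc]

theorem Ord.congr {M Z : Matrix (Fin N) (Fin N) L} {c : L} (h : Ord Z) (hM : IsUnit M.det)
    (hc : c ≠ 0) : Ord (c • (Mᵀ * Z * M)) := by
  intro v h1 h2
  obtain ⟨e1, e2⟩ := congr_transform M Z c v
  rw [e1] at h1
  rw [e2, Matrix.smul_mulVec, ← Matrix.mulVec_mulVec, ← Matrix.mulVec_mulVec] at h2
  have h3 := h (M *ᵥ v) ((mul_eq_zero.1 h1).resolve_left hc) (by
    have h4 := (smul_eq_zero.1 h2).resolve_left hc
    have := congrArg (fun w => (Mᵀ)⁻¹ *ᵥ w) h4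
    simpa [Matrix.mulVec_mulVec, ← Matrix.mul_assoc,
      Matrix.nonsing_inv_mul _ (M.isUnit_det_transpose hM)] using this)
  have := congrArg (fun w => M⁻¹ *ᵥ w) h3
  simpa [Matrix.mulVec_mulVec, Matrix.nonsing_inv_mul _ hM] using this

theorem det_congr_ne_zero {M Z : Matrix (Fin N) (Fin N) L} {c : L} (h : (Z + Zᵀ).det ≠ 0)
    (hM : IsUnit M.det) (hc : c ≠ 0) :
    ((c • (Mᵀ * Z * M)) + (c • (Mᵀ * Z * M))ᵀ).det ≠ 0 := by
  rw [(congr_transform M Z c 0).2, Matrix.det_smul, Matrix.det_mul, Matrix.det_mul,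
    Matrix.det_transpose]
  exact mul_ne_zero (pow_ne_zero _ hc) (mul_ne_zero (mul_ne_zero hM.ne_zero h) hM.ne_zero)

/-- Quadratic parts under a change of coordinates and multiplication by a unit. -/
theorem exists_transform (ψ : P ≃ₐ[L] P) (w : P) (hw : IsUnit w) (Z : Matrix (Fin N) (Fin N) P) :
    ∃ (M : Matrix (Fin N) (Fin N) L) (Z' : Matrix (Fin N) (Fin N) P), IsUnit M.det ∧
      w * ψ (MvPowerSeries.X ⬝ᵥ (Z *ᵥ MvPowerSeries.X)) =
        MvPowerSeries.X ⬝ᵥ (Z' *ᵥ MvPowerSeries.X) ∧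
      Z'.map MvPowerSeries.constantCoeff =
        MvPowerSeries.constantCoeff w • (Mᵀ * Z.map MvPowerSeries.constantCoeff * M) := by
  classical
  have hm : ∀ (φ : P ≃ₐ[L] P) i, φ (MvPowerSeries.X i) ∈ 𝔳 := fun φ i => by
    have hX : (MvPowerSeries.X i : P) ∈ maximalIdeal P :=
      vars_eq_maximalIdeal (L := L) ▸ Ideal.subset_span ⟨i, rfl⟩
    rw [vars_eq_maximalIdeal, mem_maximalIdeal, mem_nonunits_iff]
    exact fun h => (mem_maximalIdeal _).1 hX (by simpa using h.map φ.symm)
  choose M₁ hM₁ using fun i => Ideal.mem_span_range_iff_exists_fun.1 (hm ψ i)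
  choose M₂ hM₂ using fun i => Ideal.mem_span_range_iff_exists_fun.1 (hm ψ.symm i)
  let M : Matrix (Fin N) (Fin N) P := Matrix.of M₁
  let M' : Matrix (Fin N) (Fin N) P := Matrix.of M₂
  have hψX : (fun i => ψ (MvPowerSeries.X i)) = M *ᵥ MvPowerSeries.X :=
    funext fun i => (hM₁ i).symm
  have hψC : ∀ z, MvPowerSeries.constantCoeff (ψ z) = MvPowerSeries.constantCoeff z :=
    fun z => constantCoeff_algHom ψ.toAlgHom (hm ψ) z
  have hdet : (M'.map MvPowerSeries.constantCoeff) * (M.map MvPowerSeries.constantCoeff) = 1 := by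
    ext i j
    have h1 : (MvPowerSeries.X i : P) = ∑ l, ψ (M₂ i l) * ∑ m, M₁ l m * MvPowerSeries.X m := by
      conv_lhs => rw [← ψ.apply_symm_apply (MvPowerSeries.X i), ← hM₂ i, map_sum]
      exact Finset.sum_congr rfl fun l _ => by rw [map_mul, hM₁]
    have h2 : ∀ (g : P) (m : Fin N), MvPowerSeries.coeff (Finsupp.single j 1) (g * MvPowerSeries.X m) =
        if m = j then MvPowerSeries.constantCoeff g else 0 := by
      intro g m
      rw [MvPowerSeries.X, MvPowerSeries.coeff_mul_monomial]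
      rcases eq_or_ne m j with rfl | h
      · simp
      · rw [if_neg, if_neg h]
        intro hle
        simpa [Finsupp.single_apply, h.symm] using hle m
    have h3 := congrArg (MvPowerSeries.coeff (Finsupp.single j 1)) h1
    simp only [Finset.mul_sum, ← mul_assoc, map_sum, h2, map_mul, hψC, Finset.sum_ite_eq',
      Finset.mem_univ, if_true, MvPowerSeries.coeff_X] at h3
    simp only [Matrix.mul_apply, Matrix.map_apply, M, M', Matrix.of_apply, ← h3, Matrix.one_apply,
      Finsupp.single_eq_single_iff, and_true]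
    simp [eq_comm]
  refine ⟨M.map MvPowerSeries.constantCoeff, w • (Mᵀ * Z.map ψ * M), ?_, ?_, ?_⟩
  · have h : IsUnit ((M'.map MvPowerSeries.constantCoeff).det * (M.map MvPowerSeries.constantCoeff).det) := by
      rw [← Matrix.det_mul, hdet, Matrix.det_one]; exact isUnit_one
    exact (IsUnit.mul_iff.1 h).2
  · rw [Matrix.smul_mulVec, dotProduct_smul, smul_eq_mul, ← Matrix.mulVec_mulVec,
      ← Matrix.mulVec_mulVec]
    congr 1
    rw [dotProduct_mulVec_swap MvPowerSeries.X (Z.map ψ *ᵥ (M *ᵥ MvPowerSeries.X)),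
      Matrix.transpose_transpose, ← hψX, dotProduct_comm]
    simp only [dotProduct, mulVec, map_sum, map_mul, Matrix.map_apply]
  · ext i j
    simp [Matrix.mul_apply, map_sum, hψC, Finset.mul_sum]

end series

variable {A : Type u} [CommRing A] [HenselianLocalRing A] {H : Type u} [CommRing H]
  [HenselianLocalRing H] [Algebra A H] {N : ℕ} {x : Fin N → H} (hH : IsHS A H x)

omit [HenselianLocalRing A] in
/-- A complete local ring is henselian local. -/
theorem henselianLocalRing_of_complete (Q : Type u) [CommRing Q] [IsLocalRing Q]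
    [IsAdicComplete (maximalIdeal Q) Q] : HenselianLocalRing Q :=
  Hensel.henselianLocalRing_of_henselianRing Q

namespace IsHS

include hH

theorem exists_polynomial (i : ℕ) (h : H) :
    ∃ p : MvPolynomial (Fin N) A, h - MvPolynomial.aeval x p ∈ Ideal.span (Set.range x) ^ i := by
  induction i generalizing h with
  | zero => exact ⟨0, by simp⟩
  | succ i ih =>
    obtain ⟨g, hg⟩ := Ideal.mem_span_range_iff_exists_fun.1 (hH.sub_eval0_mem h)
    choose p hp using fun j => ih (g j)
    refine ⟨MvPolynomial.C (hH.eval0 h) + ∑ j, p j * MvPolynomial.X j, ?_⟩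
    rw [map_add, MvPolynomial.aeval_C, ← sub_sub, ← hg, map_sum, ← Finset.sum_sub_distrib]
    refine Ideal.sum_mem _ fun j _ => ?_
    rw [map_mul, MvPolynomial.aeval_X, ← sub_mul, pow_succ]
    exact Ideal.mul_mem_mul (hp j) (Ideal.subset_span ⟨j, rfl⟩)

section toSeries

variable {k : Type u} [Field k] (f : A →+* k) (hf : ∀ a ∈ maximalIdeal A, f a = 0)

theorem exists_toSeries (hl : IsLocalHom f) : ∃ g : H →+* MvPowerSeries (Fin N) k,
    (∀ a, g (algebraMap A H a) = MvPowerSeries.C (f a)) ∧ ∀ i, g (x i) = MvPowerSeries.X i := by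
  letI : Algebra A (MvPowerSeries (Fin N) k) :=
    ((MvPowerSeries.C (σ := Fin N) (R := k)).comp f).toAlgebra
  haveI : IsAdicComplete (maximalIdeal (MvPowerSeries (Fin N) k)) (MvPowerSeries (Fin N) k) := by
    rw [← vars_eq_maximalIdeal]; exact PSLib.isAdicComplete
  haveI := henselianLocalRing_of_complete (MvPowerSeries (Fin N) k)
  have hlP : IsLocalHom (algebraMap A (MvPowerSeries (Fin N) k)) := ⟨fun a ha => by
    have : IsUnit (f a) := by
      have h := ha.map (MvPowerSeries.constantCoeff (σ := Fin N) (R := k))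
      rwa [RingHom.algebraMap_toAlgebra, RingHom.comp_apply, MvPowerSeries.constantCoeff_C] at h
    exact hl.map_nonunit a this⟩
  refine ⟨(hH.lift hlP MvPowerSeries.X fun i => ?_).toRingHom, fun a => ?_, fun i => ?_⟩
  · rw [← vars_eq_maximalIdeal]
    exact Ideal.subset_span ⟨i, rfl⟩
  · exact AlgHom.commutes _ a
  · exact hH.lift_x _ _ _ i

omit hH in
theorem toSeries_map_pow (g : H →+* MvPowerSeries (Fin N) k)
    (hgx : ∀ i, g (x i) = MvPowerSeries.X i) (i : ℕ) :
    (Ideal.span (Set.range x) ^ i).map g ≤ PSLib.vars N k ^ i := by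
  rw [Ideal.map_pow]
  refine Ideal.pow_right_mono ?_ i
  rw [Ideal.map_span, Ideal.span_le]
  rintro _ ⟨_, ⟨j, rfl⟩, rfl⟩
  rw [SetLike.mem_coe, hgx]
  exact Ideal.subset_span ⟨j, rfl⟩

omit hH in
theorem toSeries_aeval (g : H →+* MvPowerSeries (Fin N) k)
    (hga : ∀ a, g (algebraMap A H a) = MvPowerSeries.C (f a))
    (hgx : ∀ i, g (x i) = MvPowerSeries.X i) (p : MvPolynomial (Fin N) A) :
    g (MvPolynomial.aeval x p) = (MvPolynomial.map f p : MvPolynomial (Fin N) k) := by
  induction p using MvPolynomial.induction_on with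
  | C a => simp [hga]
  | add p q hp hq => simp [hp, hq]
  | mul_X p i hp => simp [hp, hgx]

/-- The kernel of the truncated series map. -/
theorem mem_of_toSeries_mem (hker : ∀ a, f a = 0 → a ∈ maximalIdeal A)
    (g : H →+* MvPowerSeries (Fin N) k)
    (hga : ∀ a, g (algebraMap A H a) = MvPowerSeries.C (f a))
    (hgx : ∀ i, g (x i) = MvPowerSeries.X i) {i : ℕ} {h : H} (hh : g h ∈ PSLib.vars N k ^ i) :
    h ∈ (maximalIdeal A).map (algebraMap A H) ⊔ Ideal.span (Set.range x) ^ i := by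
  classical
  obtain ⟨p, hp⟩ := hH.exists_polynomial i h
  have h1 : g (MvPolynomial.aeval x p) ∈ PSLib.vars N k ^ i := by
    have := sub_mem hh (toSeries_map_pow g hgx i (Ideal.mem_map_of_mem _ hp))
    rwa [← map_sub, sub_sub_cancel] at this
  rw [toSeries_aeval f g hga hgx, PSLib.mem_pow_iff] at h1
  rw [← sub_add_cancel h (MvPolynomial.aeval x p)]
  refine add_mem (Submodule.mem_sup_right hp) ?_
  conv in MvPolynomial.aeval x p => rw [p.as_sum]
  rw [map_sum]
  refine Ideal.sum_mem _ fun d _ => ?_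
  rw [MvPolynomial.aeval_monomial]
  rcases lt_or_ge (Finsupp.degree d) i with hd | hd
  · have h2 := h1 d hd
    rw [MvPolynomial.coeff_coe, MvPolynomial.coeff_map] at h2
    exact Submodule.mem_sup_left (Ideal.mul_mem_right _ _ (Ideal.mem_map_of_mem _ (hker _ h2)))
  · refine Submodule.mem_sup_right (Ideal.mul_mem_left _ _ (Ideal.pow_le_pow_right hd ?_))
    rw [Finsupp.degree_apply, Finsupp.prod, ← Finset.prod_pow_eq_pow_sum]
    exact Ideal.prod_mem_prod fun j _ => Ideal.pow_mem_pow (Ideal.subset_span (Set.mem_range_self j)) _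

end toSeries

theorem nonempty_algEquiv {H' : Type u} [CommRing H'] [HenselianLocalRing H'] [Algebra A H']
    {x' : Fin N → H'} (hH' : IsHS A H' x') : Nonempty (H ≃ₐ[A] H') := by
  let u := hH.lift hH'.isLocalHom x' hH'.mem
  let v := hH'.lift hH.isLocalHom x hH.mem
  refine ⟨AlgEquiv.ofAlgHom u v ?_ ?_⟩
  · refine hH'.endo_ext (fun i => ?_) fun i => ?_ <;> simp [u, v, hH'.mem]
  · refine hH.endo_ext (fun i => ?_) fun i => ?_ <;> simp [u, v, hH.mem]

omit hH in
theorem isNoetherianRing {k : Type u} [Field k] {K : Type u} [CommRing K] [HenselianLocalRing K]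
    [Algebra k K] {y : Fin N → K} (hK : IsHS k K y) : IsNoetherianRing K := by
  haveI : (VanCyc.originIdeal k (N := N)).IsPrime := isMaximal_originIdeal.isPrime
  let L := Localization.AtPrime (VanCyc.originIdeal k (N := N))
  let : Algebra k (Hensel.LocalHenz L) := Algebra.compHom _ (algebraMap k L)
  have : IsScalarTower k L (Hensel.LocalHenz L) := .of_algebraMap_eq' rfl
  haveI : IsNoetherianRing L := IsLocalization.isNoetherianRing
    (VanCyc.originIdeal k (N := N)).primeCompl L inferInstance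
  haveI : IsNoetherianRing (Hensel.LocalHenz L) :=
    Hensel.isNoetherianRing_of_isPairHenselization (maximalIdeal L)
      ((Hensel.isPairHenselization_iff_isHenselization L (Hensel.LocalHenz L)).2 inferInstance)
  obtain ⟨e⟩ := (isHS_of_isHenselization (A := k) (N := N) (Hensel.LocalHenz L)).nonempty_algEquiv hK
  exact isNoetherianRing_of_ringEquiv _ e.toRingEquiv

/-- The closed fibre of the henselian series ring is Noetherian. -/
theorem isNoetherianRing_fibre :
    IsNoetherianRing (H ⧸ (maximalIdeal A).map (algebraMap A H)) := by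
  set 𝔞 := (maximalIdeal A).map (algebraMap A H)
  letI : Algebra (ResidueField A) (H ⧸ 𝔞) := (Ideal.quotientMap 𝔞 (algebraMap A H)
    (Ideal.map_le_iff_le_comap.1 le_rfl)).toAlgebra
  haveI : IsScalarTower A (ResidueField A) (H ⧸ 𝔞) := .of_algebraMap_eq fun _ => rfl
  have h𝔞 : 𝔞 ≤ maximalIdeal H :=
    Ideal.map_le_iff_le_comap.2 fun a ha => (hH.mem_maximalIdeal_iff a).2 ha
  haveI : Nontrivial (H ⧸ 𝔞) := Ideal.Quotient.nontrivial_iff.2 fun h =>
    (maximalIdeal.isMaximal H).ne_top (top_le_iff.1 (h ▸ h𝔞))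
  haveI : IsLocalRing (H ⧸ 𝔞) := .of_surjective' _ Ideal.Quotient.mk_surjective
  haveI : HenselianLocalRing (H ⧸ 𝔞) := Hensel.henselianLocalRing_of_finite H _
  haveI : IsLocalHom (Ideal.Quotient.mk 𝔞) :=
    IsLocalHom.of_surjective _ Ideal.Quotient.mk_surjective
  have hmk : ∀ {h}, h ∈ maximalIdeal H → Ideal.Quotient.mk 𝔞 h ∈ maximalIdeal (H ⧸ 𝔞) :=
    fun {h} hh => by
      simp only [mem_maximalIdeal, mem_nonunits_iff, isUnit_map_iff] at hh ⊢
      exact hh
  have hK : IsHS (ResidueField A) (H ⧸ 𝔞) fun i => Ideal.Quotient.mk 𝔞 (x i) := by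
    refine ⟨⟨fun c hc => ?_⟩, fun i => hmk (hH.mem i), fun T _ _ _ hT y hy => ?_⟩
    · by_contra hn
      rw [isUnit_iff_ne_zero, not_not] at hn
      rw [hn, map_zero] at hc
      exact not_isUnit_zero hc
    letI : Algebra A T := ((algebraMap (ResidueField A) T).comp (algebraMap A (ResidueField A))).toAlgebra
    haveI : IsScalarTower A (ResidueField A) T := .of_algebraMap_eq' rfl
    have hTA : IsLocalHom (algebraMap A T) := ⟨fun a ha =>
      (inferInstance : IsLocalHom (residue A)).map_nonunit a (hT.map_nonunit _ ha)⟩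
    let g := hH.lift hTA y hy
    let g' : (H ⧸ 𝔞) →ₐ[A] T := Ideal.Quotient.liftₐ 𝔞 g fun z hz => by
      have : 𝔞 ≤ RingHom.ker g := Ideal.map_le_iff_le_comap.2 fun a ha => by
        show g (algebraMap A H a) = 0
        rw [g.commutes, IsScalarTower.algebraMap_apply A (ResidueField A) T,
          show algebraMap A (ResidueField A) a = 0 from (residue_eq_zero_iff a).2 ha, map_zero]
      exact this hz
    refine ⟨⟨g'.toRingHom, fun c => ?_⟩, fun i => ?_, fun g₂ hg₂ => ?_⟩
    · obtain ⟨a, rfl⟩ := residue_surjective c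
      show g' (algebraMap A (H ⧸ 𝔞) a) = _
      rw [g'.commutes, IsScalarTower.algebraMap_apply A (ResidueField A) T]
      rfl
    · exact hH.lift_x _ _ _ i
    · have : g₂.restrictScalars A = g' := by
        refine Ideal.Quotient.algHom_ext A (hH.hom_ext hTA (fun i => ?_) fun i => ?_)
        · show g₂ (Ideal.Quotient.mk 𝔞 (x i)) ∈ _
          rw [hg₂]; exact hy i
        · exact (hg₂ i).trans (hH.lift_x hTA y hy i).symm
      exact AlgHom.ext fun z => AlgHom.congr_fun this z
  exact isNoetherianRing hK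

end IsHS

end Groth.Agent.HensMorse
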